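import Groth.Agent.Lib.GalPts.Count

/-!
# The fibre of `[X/G]` over an `S`-scheme `S'` is the fibre of the base changed stack over `S'`
-/

set_option autoImplicit false
universe u

open CategoryTheory CategoryTheory.Limits MonoidalCategory CartesianMonoidalCategory MonObj AlgebraicGeometry
open AlgSt (QuotObj QuotSt)

namespace Groth.Agent.Lib.GalPts.Restrict

attribute [local instance] Functor.monObjObj Functor.grpObjObj

/-- An action from its laws on points. -/
noncomputable def mkAction {B : Scheme.{u}} {G X : Over B} [GrpObj G]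
    (act : G ⊗ X ⟶ X) (h1 : ∀ (W : Over B) (x : W ⟶ X), lift 1 x ≫ act = x)
    (h2 : ∀ (W : Over B) (g h : W ⟶ G) (x : W ⟶ X), lift (g * h) x ≫ act = lift g (lift h x ≫ act) ≫ act) :
    AlgGrp.Action G X where
  act := act
  one_act := by
    rw [show (η[G] ▷ X) = lift (1 : 𝟙_ (Over B) ⊗ X ⟶ G) (snd _ _) from CartesianMonoidalCategory.hom_ext _ _
      (by rw [whiskerRight_fst, lift_fst, Hom.one_def, toUnit_unique (fst (𝟙_ (Over B)) X) (toUnit _)])
      (by rw [whiskerRight_snd, lift_snd]), h1, leftUnitor_hom]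
  mul_act := by
    rw [show (μ[G] ▷ X) = lift ((fst (G ⊗ G) X ≫ fst G G) * (fst (G ⊗ G) X ≫ snd G G)) (snd _ _) from
      CartesianMonoidalCategory.hom_ext _ _
        (by rw [whiskerRight_fst, lift_fst, show μ[G] = fst G G * snd G G by simp [Hom.mul_def], MonObj.comp_mul])
        (by rw [whiskerRight_snd, lift_snd]), h2, ← Category.assoc (α_ G G X).hom]
    congr 1
    apply CartesianMonoidalCategory.hom_ext
    · simp
    · rw [lift_snd, Category.assoc, whiskerLeft_snd, ← Category.assoc]
      congr 1
      apply CartesianMonoidalCategory.hom_ext <;> simp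

variable {S S' : Scheme.{u}} (t : S' ⟶ S)

/-- A morphism into a base change, over `S`. -/
noncomputable def flat {W : Over S'} {Z : Over S} (f : W ⟶ Red.bc t Z) : (Over.map t).obj W ⟶ Z :=
  Over.homMk (f.left ≫ pullback.fst Z.hom t) (by
    have h : f.left ≫ pullback.snd Z.hom t = W.hom := Over.w f
    change (f.left ≫ _) ≫ Z.hom = W.hom ≫ t
    rw [Category.assoc, pullback.condition, reassoc_of% h])

/-- A morphism over `S`, as a morphism into the base change. -/
noncomputable def sharp {W : Over S'} {Z : Over S} (f : (Over.map t).obj W ⟶ Z) : W ⟶ Red.bc t Z :=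
  Over.homMk (pullback.lift f.left W.hom (Over.w f)) (pullback.lift_snd _ _ _)

@[simp] theorem flat_sharp {W : Over S'} {Z : Over S} (f : (Over.map t).obj W ⟶ Z) : flat t (sharp t f) = f :=
  Over.OverMorphism.ext (pullback.lift_fst _ _ _)

theorem flat_injective {W : Over S'} {Z : Over S} {f g : W ⟶ Red.bc t Z} (h : flat t f = flat t g) : f = g :=
  Over.OverMorphism.ext (pullback.hom_ext (congrArg CommaMorphism.left h) ((Over.w f).trans (Over.w g).symm))

theorem flat_comp {W W' : Over S'} {Z : Over S} (u : W' ⟶ W) (f : W ⟶ Red.bc t Z) :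
    flat t (u ≫ f) = (Over.map t).map u ≫ flat t f :=
  Over.OverMorphism.ext (Category.assoc _ _ _)

theorem flat_comp_map {W : Over S'} {Z Z' : Over S} (f : W ⟶ Red.bc t Z) (m : Z ⟶ Z') :
    flat t (f ≫ (Over.pullback t).map m) = flat t f ≫ m := by
  apply Over.OverMorphism.ext
  change (f.left ≫ _) ≫ pullback.fst _ _ = (f.left ≫ pullback.fst _ _) ≫ m.left
  rw [Category.assoc, Category.assoc]
  exact congrArg (f.left ≫ ·) (pullback.lift_fst _ _ _)

theorem flat_mul {G : Over S} [GrpObj G] {W : Over S'} (f g : W ⟶ Red.bc t G) :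
    flat t (f * g) = flat t f * flat t g := by
  let F := Over.pullback t
  let P := lift f g ≫ Functor.LaxMonoidal.μ F G G
  have h1 : P ≫ F.map (fst G G) = f := by
    simp only [P, Category.assoc, Functor.Monoidal.μ_fst]; exact lift_fst _ _
  have h2 : P ≫ F.map (snd G G) = g := by
    simp only [P, Category.assoc, Functor.Monoidal.μ_snd]; exact lift_snd _ _
  have hm : f * g = P ≫ F.map μ[G] := by rw [Hom.mul_def, Functor.obj.μ_def, Category.assoc]
  rw [hm, flat_comp_map, Hom.mul_def]
  congr 1
  apply CartesianMonoidalCategory.hom_ext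
  · rw [lift_fst, ← flat_comp_map, h1]
  · rw [lift_snd, ← flat_comp_map, h2]

theorem flat_one {G : Over S} [GrpObj G] {W : Over S'} : flat t (1 : W ⟶ Red.bc t G) = 1 :=
  map_one (MonoidHom.mk' (fun f : W ⟶ Red.bc t G => flat t f) (flat_mul t))

theorem flat_inv {G : Over S} [GrpObj G] {W : Over S'} (f : W ⟶ Red.bc t G) : flat t f⁻¹ = (flat t f)⁻¹ :=
  map_inv (MonoidHom.mk' (fun f : W ⟶ Red.bc t G => flat t f) (flat_mul t)) f

section Action

variable {G X : Over S} [GrpObj G] (aX : AlgGrp.Action G X)

/-- The morphism underlying the base change of an action. -/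
noncomputable def bcActMor : Red.bc t G ⊗ Red.bc t X ⟶ Red.bc t X :=
  sharp t (lift (flat t (fst (Red.bc t G) (Red.bc t X))) (flat t (snd (Red.bc t G) (Red.bc t X))) ≫ aX.act)

theorem flat_bcActMor {W : Over S'} (g : W ⟶ Red.bc t G) (x : W ⟶ Red.bc t X) :
    flat t (lift g x ≫ bcActMor t aX) = lift (flat t g) (flat t x) ≫ aX.act := by
  rw [bcActMor, flat_comp, flat_sharp, comp_lift_assoc, ← flat_comp, ← flat_comp, lift_fst, lift_snd]

/-- The base change of an action. -/
noncomputable def bcAct : AlgGrp.Action (Red.bc t G) (Red.bc t X) :=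
  mkAction (bcActMor t aX)
    (fun W x => flat_injective t ((flat_bcActMor t aX 1 x).trans (by rw [flat_one, QuotSt.Act.one_smul])))
    (fun W g h x => flat_injective t ((flat_bcActMor t aX (g * h) x).trans (by
      rw [flat_bcActMor t aX g, flat_bcActMor t aX h, flat_mul, QuotSt.Act.mul_smul])))

theorem flat_bcAct {W : Over S'} (g : W ⟶ Red.bc t G) (x : W ⟶ Red.bc t X) :
    flat t (lift g x ≫ (bcAct t aX).act) = lift (flat t g) (flat t x) ≫ aX.act :=
  flat_bcActMor t aX g x

end Action

/-- An object over `S` mapping to an object coming from `S'` comes from `S'`. -/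
noncomputable def liftIso {W : Over S} {P : Over S'} (q : W ⟶ (Over.map t).obj P) :
    W ≅ (Over.map t).obj (Over.mk (q.left ≫ P.hom)) :=
  Over.isoMk (Iso.refl _) (by
    change 𝟙 _ ≫ (q.left ≫ P.hom) ≫ t = W.hom
    rw [Category.id_comp, Category.assoc]
    exact Over.w q)

/-- The map from the restricted source. -/
noncomputable def liftHom {W : Over S} {P : Over S'} (q : W ⟶ (Over.map t).obj P) :
    Over.mk (q.left ≫ P.hom) ⟶ P :=
  Over.homMk q.left rfl

theorem liftIso_comp {W : Over S} {P : Over S'} (q : W ⟶ (Over.map t).obj P) :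
    (liftIso t q).hom ≫ (Over.map t).map (liftHom t q) = q :=
  Over.OverMorphism.ext (Category.id_comp _)

theorem exists_lift {W : Over S} {P : Over S'} (q : W ⟶ (Over.map t).obj P) :
    ∃ (W' : Over S') (e : W ≅ (Over.map t).obj W') (q' : W' ⟶ P), q = e.hom ≫ (Over.map t).map q' :=
  ⟨_, liftIso t q, liftHom t q, (liftIso_comp t q).symm⟩

theorem map_injective {W P : Over S'} {f g : W ⟶ P} (h : (Over.map t).map f = (Over.map t).map g) : f = g :=
  Over.OverMorphism.ext (congrArg Over.Hom.left h :)

variable {G : Over S} [GrpObj G] {P : Over S'} (aP : AlgGrp.Action (Red.bc t G) P)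

/-- The action of `G` on the restriction of a `G_{S'}`-scheme. -/
noncomputable def mapActMor : G ⊗ (Over.map t).obj P ⟶ (Over.map t).obj P :=
  (liftIso t (snd G ((Over.map t).obj P))).hom ≫ (Over.map t).map
    (lift (sharp t ((liftIso t (snd G ((Over.map t).obj P))).inv ≫ fst _ _))
      (liftHom t (snd G ((Over.map t).obj P))) ≫ aP.act)

theorem lift_mapActMor {W' : Over S'} (g : (Over.map t).obj W' ⟶ G) (q : W' ⟶ P) :
    lift g ((Over.map t).map q) ≫ mapActMor t aP = (Over.map t).map (lift (sharp t g) q ≫ aP.act) := by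
  let r := snd G ((Over.map t).obj P)
  let u : W' ⟶ Over.mk (r.left ≫ P.hom) := Over.homMk (lift g ((Over.map t).map q)).left (by
    change (lift g ((Over.map t).map q)).left ≫ r.left ≫ P.hom = W'.hom
    rw [← Category.assoc, ← Over.comp_left, lift_snd]
    exact Over.w q)
  have hu : lift g ((Over.map t).map q) ≫ (liftIso t r).hom = (Over.map t).map u :=
    Over.OverMorphism.ext (Category.comp_id _)
  rw [mapActMor, ← Category.assoc, hu, ← Functor.map_comp]
  congr 1
  rw [comp_lift_assoc]
  congr 2
  · refine flat_injective t ?_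
    rw [flat_comp, flat_sharp, flat_sharp, ← hu, Category.assoc, Iso.hom_inv_id_assoc, lift_fst]
  · exact Over.OverMorphism.ext (congrArg Over.Hom.left (lift_snd g ((Over.map t).map q)) :)

theorem lift_mapActMor' {W : Over S} {W' : Over S'} (e : W ⟶ (Over.map t).obj W') (g : (Over.map t).obj W' ⟶ G)
    (q : W' ⟶ P) :
    lift (e ≫ g) (e ≫ (Over.map t).map q) ≫ mapActMor t aP =
      e ≫ (Over.map t).map (lift (sharp t g) q ≫ aP.act) := by
  rw [← comp_lift_assoc, lift_mapActMor]

theorem sharp_mul {W : Over S'} (f g : (Over.map t).obj W ⟶ G) : sharp t (f * g) = sharp t f * sharp t g :=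
  flat_injective t (by rw [flat_sharp, flat_mul, flat_sharp, flat_sharp])

theorem sharp_one {W : Over S'} : sharp t (1 : (Over.map t).obj W ⟶ G) = 1 :=
  flat_injective t (by rw [flat_sharp, flat_one])

/-- The restricted action. -/
noncomputable def mapAct : AlgGrp.Action G ((Over.map t).obj P) :=
  mkAction (mapActMor t aP)
    (fun W q => by
      obtain ⟨W', e, q', rfl⟩ := exists_lift t q
      rw [show (1 : W ⟶ G) = e.hom ≫ 1 from (MonObj.comp_one _).symm, lift_mapActMor', sharp_one,
        QuotSt.Act.one_smul])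
    (fun W g h q => by
      obtain ⟨W', e, q', rfl⟩ := exists_lift t q
      rw [← e.hom_inv_id_assoc g, ← e.hom_inv_id_assoc h, ← MonObj.comp_mul, lift_mapActMor', lift_mapActMor',
        lift_mapActMor', sharp_mul, QuotSt.Act.mul_smul])

variable {X : Over S} {aX : AlgGrp.Action G X} {K : Precoverage Scheme.{u}}

/-- An object of the base changed stack as an object of the original stack. -/
noncomputable def restrObj (A : QuotObj K (Red.bc t G) (bcAct t aX)) : QuotObj K G aX where
  base := (Over.map t).obj A.base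
  P := (Over.map t).obj A.P
  act := mapAct t A.act
  π := (Over.map t).map A.π
  cart := by
    have w : ∀ {W' : Over S'} (g : (Over.map t).obj W' ⟶ G) (q : W' ⟶ A.P),
        (lift (sharp t g) q ≫ A.act.act) ≫ A.π = q ≫ A.π := fun g q => by
      rw [Category.assoc, A.cart.w, lift_snd_assoc]
    have hdiv : ∀ {W : Over S} (q₁ q₂ : W ⟶ (Over.map t).obj A.P),
        q₁ ≫ (Over.map t).map A.π = q₂ ≫ (Over.map t).map A.π →
        ∃! g : W ⟶ G, lift g q₂ ≫ mapActMor t A.act = q₁ := by
      intro W q₁ q₂ h
      obtain ⟨W', e, q₂', rfl⟩ := exists_lift t q₂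
      let q₁' : W' ⟶ A.P := Over.homMk ((e.inv ≫ q₁).left) (by
        have h' := congrArg (fun m => (e.inv ≫ m).left) h
        simp only [Iso.inv_hom_id_assoc, Category.assoc, Over.comp_left, Over.map_map_left] at h'
        rw [← Over.w A.π, Over.comp_left, Category.assoc, reassoc_of% h']
        simp)
      have hq₁ : q₁ = e.hom ≫ (Over.map t).map q₁' := by
        rw [← Iso.inv_comp_eq]
        exact Over.OverMorphism.ext rfl
      have hπ : q₁' ≫ A.π = q₂' ≫ A.π := map_injective t (by
        rw [Functor.map_comp, Functor.map_comp, ← cancel_epi e.hom, ← Category.assoc, ← hq₁, h, Category.assoc])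
      refine ⟨e.hom ≫ flat t (A.cart.lift q₁' q₂' hπ ≫ fst _ _), ?_, fun g hg => ?_⟩
      · change lift _ _ ≫ mapActMor t A.act = q₁
        rw [lift_mapActMor', hq₁]
        congr 2
        rw [show sharp t (flat t (A.cart.lift q₁' q₂' hπ ≫ fst _ _)) = A.cart.lift q₁' q₂' hπ ≫ fst _ _ from
          flat_injective t (flat_sharp t _)]
        have hl : lift (A.cart.lift q₁' q₂' hπ ≫ fst (Red.bc t G) A.P) q₂' = A.cart.lift q₁' q₂' hπ := by
          apply CartesianMonoidalCategory.hom_ext
          · rw [lift_fst]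
          · rw [lift_snd]; exact (A.cart.lift_snd _ _ _).symm
        rw [hl, A.cart.lift_fst]
      · rw [← e.hom_inv_id_assoc g, lift_mapActMor', hq₁, cancel_epi] at hg
        have hl : lift (sharp t (e.inv ≫ g)) q₂' = A.cart.lift q₁' q₂' hπ := A.cart.hom_ext
          ((map_injective t hg).trans (A.cart.lift_fst _ _ _).symm) ((lift_snd _ _).trans (A.cart.lift_snd _ _ _).symm)
        rw [← hl, lift_fst, flat_sharp, Iso.hom_inv_id_assoc]
    refine ⟨⟨?_⟩, ⟨PullbackCone.IsLimit.mk _
      (fun s => lift (hdiv s.fst s.snd s.condition).exists.choose s.snd)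
      (fun s => (hdiv s.fst s.snd s.condition).exists.choose_spec) (fun s => lift_snd _ _) fun s m hm1 hm2 => ?_⟩⟩
    · obtain ⟨W', e, q', hq⟩ := exists_lift t (snd G ((Over.map t).obj A.P))
      have h := lift_mapActMor' t A.act e.hom (e.inv ≫ fst G _) q'
      rw [e.hom_inv_id_assoc, ← hq, lift_fst_snd, Category.id_comp] at h
      change mapActMor t A.act ≫ _ = _
      rw [h, hq, Category.assoc, ← Functor.map_comp, w, Functor.map_comp, Category.assoc]
    · apply CartesianMonoidalCategory.hom_ext
      · rw [lift_fst]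
        refine (hdiv s.fst s.snd s.condition).unique ?_ (hdiv s.fst s.snd s.condition).exists.choose_spec
        rw [← hm1]
        change lift (m ≫ fst G _) s.snd ≫ mapActMor t A.act = m ≫ mapActMor t A.act
        congr 1
        apply CartesianMonoidalCategory.hom_ext
        · rw [lift_fst]
        · rw [lift_snd]; exact hm2.symm
      · rw [lift_snd]; exact hm2
  loc := A.loc
  φ := flat t A.φ
  eqv := by
    obtain ⟨W', e, q', hq⟩ := exists_lift t (snd G ((Over.map t).obj A.P))
    have h := lift_mapActMor' t A.act e.hom (e.inv ≫ fst G _) q'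
    rw [e.hom_inv_id_assoc, ← hq, lift_fst_snd, Category.id_comp] at h
    change mapActMor t A.act ≫ _ = _
    rw [h, Category.assoc, ← flat_comp, Category.assoc, A.eqv, lift_whiskerLeft_assoc, flat_bcAct, flat_sharp,
      flat_comp, comp_lift_assoc, e.hom_inv_id_assoc, ← Category.assoc e.hom, ← hq]
    congr 1

theorem lift_restrObj_act (A : QuotObj K (Red.bc t G) (bcAct t aX)) {W' : Over S'}
    (g : (Over.map t).obj W' ⟶ G) (q : W' ⟶ A.P) :
    lift g ((Over.map t).map q) ≫ (restrObj t A).act.act = (Over.map t).map (lift (sharp t g) q ≫ A.act.act) :=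
  lift_mapActMor t A.act g q

/-- The restriction of a vertical morphism. -/
noncomputable def restrHom {A B : QuotObj K (Red.bc t G) (bcAct t aX)} (m : A ⟶ B) [IsIso m] :
    restrObj t A ⟶ restrObj t B :=
  have hb : IsIso m.base := ⟨(inv m).base, congrArg QuotObj.Hom.base (IsIso.hom_inv_id m),
    congrArg QuotObj.Hom.base (IsIso.inv_hom_id m)⟩
  have ht : IsIso m.top := ⟨(inv m).top, congrArg QuotObj.Hom.top (IsIso.hom_inv_id m),
    congrArg QuotObj.Hom.top (IsIso.inv_hom_id m)⟩
  have hbM : IsIso ((Over.map t).map m.base) := inferInstance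
  have htM : IsIso ((Over.map t).map m.top) := inferInstance
  { base := (Over.map t).map m.base
    top := (Over.map t).map m.top
    eqv := by
      obtain ⟨W', e, q', hq⟩ := exists_lift t (snd G ((Over.map t).obj A.P))
      have h := lift_mapActMor' t A.act e.hom (e.inv ≫ fst G _) q'
      rw [e.hom_inv_id_assoc, ← hq, lift_fst_snd, Category.id_comp] at h
      change mapActMor t A.act ≫ (Over.map t).map m.top = (G ◁ (Over.map t).map m.top) ≫ mapActMor t B.act
      rw [h, Category.assoc, ← Functor.map_comp, Category.assoc, m.eqv, lift_whiskerLeft_assoc,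
        ← lift_mapActMor', e.hom_inv_id_assoc, Functor.map_comp, ← Category.assoc e.hom, ← hq]
      congr 1
    cart := @IsPullback.of_horiz_isIso _ _ _ _ _ _ _ _ _ _ htM hbM ⟨by
      change (Over.map t).map m.top ≫ (Over.map t).map B.π = (Over.map t).map A.π ≫ (Over.map t).map m.base
      rw [← Functor.map_comp, ← Functor.map_comp, m.cart.w]⟩
    wφ := by
      change (Over.map t).map m.top ≫ flat t B.φ = flat t A.φ
      rw [← flat_comp, m.wφ] }

variable {T' : Over S'} {T : Over S} [K.HasIsos] [K.IsStableUnderBaseChange]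

/-- The functor on fibres. -/
noncomputable def restrFunctor (hT : (Over.map t).obj T' = T) :
    (QuotSt K (Red.bc t G) (bcAct t aX)).p.Fiber T' ⥤ (QuotSt K G aX).p.Fiber T where
  obj c := ⟨restrObj t c.1, (congrArg (Over.map t).obj c.2).trans hT⟩
  map {c d} m :=
    haveI := QuotSt.PointCount.isIso_fiber m
    haveI : IsIso m.1 := ⟨(inv m).1, congrArg Subtype.val (IsIso.hom_inv_id m),
      congrArg Subtype.val (IsIso.inv_hom_id m)⟩
    ⟨restrHom t m.1, (QuotSt.PointCount.base_eq_id ((congrArg (Over.map t).obj c.2).trans hT)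
      ((congrArg (Over.map t).obj d.2).trans hT) _).2 (by
        exact (congrArg (Over.map t).map ((QuotSt.PointCount.base_eq_id c.2 d.2 m.1).1 m.2)).trans
          (eqToHom_map (Over.map t) _))⟩
  map_id c := Functor.Fiber.hom_ext (QuotObj.hom_ext ((Over.map t).map_id _) ((Over.map t).map_id _))
  map_comp f g := Functor.Fiber.hom_ext (QuotObj.hom_ext ((Over.map t).map_comp _ _) ((Over.map t).map_comp _ _))

omit [K.HasIsos] [K.IsStableUnderBaseChange] in
theorem exists_restrObj (A : QuotObj K G aX) (hA : A.base = (Over.map t).obj T') :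
    ∃ (A' : QuotObj K (Red.bc t G) (bcAct t aX)) (hA' : A'.base = T') (m : restrObj t A' ⟶ A),
      IsIso m.top ∧ m.base = eqToHom ((congrArg (Over.map t).obj hA').trans hA.symm) := by
  obtain ⟨base, P, act, π, cart, loc, φ, eqv⟩ := A
  dsimp only at hA ⊢
  subst hA
  let P' : Over S' := Over.mk (π.left ≫ T'.hom)
  let e₀ : P ≅ (Over.map t).obj P' := liftIso t π
  let π' : P' ⟶ T' := liftHom t π
  have hπ : (Over.map t).map π' = e₀.inv ≫ π := by rw [Iso.eq_inv_comp]; exact liftIso_comp t π
  let f := lift (flat t (fst (Red.bc t G) P')) ((Over.map t).map (snd (Red.bc t G) P') ≫ e₀.inv) ≫ act.act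
  have hf : f ≫ π = (Over.map t).map (snd (Red.bc t G) P') ≫ e₀.inv ≫ π := by
    simp only [f]
    rw [Category.assoc, cart.w, lift_snd_assoc, Category.assoc]
  let a' : Red.bc t G ⊗ P' ⟶ P' := Over.homMk f.left (by
    have h' := congrArg (fun m => m.left ≫ T'.hom) hf
    rw [← hπ, ← Functor.map_comp] at h'
    simp only [Over.comp_left, Over.map_map_left, Category.assoc] at h'
    exact h'.trans (by rw [← Category.assoc, ← Over.comp_left]; exact Over.w _))
  have key : ∀ {W : Over S'} (g : W ⟶ Red.bc t G) (q : W ⟶ P'),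
      (Over.map t).map (lift g q ≫ a') ≫ e₀.inv = lift (flat t g) ((Over.map t).map q ≫ e₀.inv) ≫ act.act := by
    intro W g q
    have h1 : (Over.map t).map a' ≫ e₀.inv = f := Over.OverMorphism.ext (Category.comp_id _)
    rw [Functor.map_comp, Category.assoc, h1]
    simp only [f]
    rw [comp_lift_assoc, ← flat_comp, lift_fst, ← Category.assoc, ← Functor.map_comp, lift_snd]
  let act' : AlgGrp.Action (Red.bc t G) P' := mkAction a'
    (fun W q => map_injective t ((cancel_mono e₀.inv).1 (by rw [key, flat_one, QuotSt.Act.one_smul])))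
    (fun W g h q => map_injective t ((cancel_mono e₀.inv).1 (by rw [key, key, key, flat_mul, QuotSt.Act.mul_smul])))
  have key' : ∀ {W : Over S'} (g : W ⟶ Red.bc t G) (q : W ⟶ P'),
      (Over.map t).map (lift g q ≫ act'.act) ≫ e₀.inv = lift (flat t g) ((Over.map t).map q ≫ e₀.inv) ≫ act.act :=
    key
  have hdiv : ∀ {W : Over S'} (q₁ q₂ : W ⟶ P'), q₁ ≫ π' = q₂ ≫ π' →
      ∃! g : W ⟶ Red.bc t G, lift g q₂ ≫ act'.act = q₁ := by
    intro W q₁ q₂ h
    have w : ((Over.map t).map q₁ ≫ e₀.inv) ≫ π = ((Over.map t).map q₂ ≫ e₀.inv) ≫ π := by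
      rw [Category.assoc, Category.assoc, ← hπ, ← Functor.map_comp, ← Functor.map_comp, h]
    have hl : lift (cart.lift _ _ w ≫ fst G P) ((Over.map t).map q₂ ≫ e₀.inv) = cart.lift _ _ w := by
      apply CartesianMonoidalCategory.hom_ext
      · rw [lift_fst]
      · rw [lift_snd]; exact (cart.lift_snd _ _ _).symm
    refine ⟨sharp t (cart.lift _ _ w ≫ fst G P), map_injective t ((cancel_mono e₀.inv).1 ?_), fun g hg => ?_⟩
    · rw [key', flat_sharp, hl, cart.lift_fst]
    · have h1 := congrArg (fun m => (Over.map t).map m ≫ e₀.inv) hg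
      simp only [key'] at h1
      refine flat_injective t ?_
      rw [flat_sharp]
      have h2 : lift (flat t g) ((Over.map t).map q₂ ≫ e₀.inv) = cart.lift _ _ w :=
        cart.hom_ext (h1.trans (cart.lift_fst _ _ _).symm) ((lift_snd _ _).trans (cart.lift_snd _ _ _).symm)
      rw [← h2, lift_fst]
  have hw : a' ≫ π' = snd _ _ ≫ π' := map_injective t (by
    have h1 : (Over.map t).map a' ≫ e₀.inv = f := Over.OverMorphism.ext (Category.comp_id _)
    rw [Functor.map_comp, Functor.map_comp, hπ, ← Category.assoc, h1, hf])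
  let A' : QuotObj K (Red.bc t G) (bcAct t aX) :=
    { base := T', P := P', act := act', π := π', φ := sharp t (e₀.inv ≫ φ), loc := loc
      cart := ⟨⟨hw⟩, ⟨PullbackCone.IsLimit.mk _
        (fun s => lift (hdiv s.fst s.snd s.condition).exists.choose s.snd)
        (fun s => (hdiv s.fst s.snd s.condition).exists.choose_spec) (fun s => lift_snd _ _)
        fun s m hm1 hm2 => by
          apply CartesianMonoidalCategory.hom_ext
          · rw [lift_fst]
            refine (hdiv s.fst s.snd s.condition).unique ?_ (hdiv s.fst s.snd s.condition).exists.choose_spec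
            rw [← hm1]
            change lift (m ≫ fst _ P') s.snd ≫ a' = m ≫ a'
            congr 1
            apply CartesianMonoidalCategory.hom_ext
            · rw [lift_fst]
            · rw [lift_snd]; exact hm2.symm
          · rw [lift_snd]; exact hm2⟩⟩
      eqv := flat_injective t (by
        rw [flat_comp, flat_sharp, show (Red.bc t G ◁ sharp t (e₀.inv ≫ φ)) =
            lift (fst _ _) (snd _ _ ≫ sharp t (e₀.inv ≫ φ)) from
          CartesianMonoidalCategory.hom_ext _ _ (by simp) (by simp), flat_bcAct, flat_comp, flat_sharp,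
          ← Category.assoc, show (Over.map t).map act'.act ≫ e₀.inv = f from
            Over.OverMorphism.ext (Category.comp_id _)]
        simp only [f]
        rw [Category.assoc, eqv, lift_whiskerLeft_assoc, Category.assoc]) }
  haveI : IsIso e₀.inv := inferInstance
  refine ⟨A', rfl,
    { base := eqToHom rfl, top := e₀.inv, eqv := ?_, cart := IsPullback.of_horiz_isIso ⟨?_⟩, wφ := ?_ },
    (inferInstance : IsIso e₀.inv), rfl⟩
  · obtain ⟨W', e, q', hq⟩ := exists_lift t (snd G ((Over.map t).obj P'))
    have h := lift_mapActMor' t act' e.hom (e.inv ≫ fst G _) q'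
    rw [e.hom_inv_id_assoc, ← hq, lift_fst_snd, Category.id_comp] at h
    change mapActMor t act' ≫ e₀.inv = (G ◁ e₀.inv) ≫ act.act
    rw [h, Category.assoc, key', flat_sharp, comp_lift_assoc, e.hom_inv_id_assoc, ← Category.assoc e.hom, ← hq]
    congr 1
  · change e₀.inv ≫ π = (Over.map t).map π' ≫ eqToHom rfl
    rw [hπ, eqToHom_refl, Category.comp_id]
  · exact (flat_sharp t _).symm

omit [K.HasIsos] [K.IsStableUnderBaseChange] in
theorem exists_preimage {A B : QuotObj K (Red.bc t G) (bcAct t aX)} (hAB : A.base = B.base)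
    (n : restrObj t A ⟶ restrObj t B) (hn : IsIso n.top) (hb : n.base = (Over.map t).map (eqToHom hAB)) :
    ∃ m : A ⟶ B, m.base = eqToHom hAB ∧ (Over.map t).map m.top = n.top := by
  obtain ⟨base, top', eqv, cart, wφ⟩ := n
  dsimp only at hb
  subst hb
  have hw : top' ≫ (Over.map t).map B.π = (Over.map t).map A.π ≫ (Over.map t).map (eqToHom hAB) := cart.w
  have hl : top'.left ≫ B.π.left = A.π.left ≫ (eqToHom hAB).left := (congrArg Over.Hom.left hw :)
  let top : A.P ⟶ B.P := Over.homMk top'.left (by
    exact (congrArg (top'.left ≫ ·) (Over.w B.π).symm).trans ((Category.assoc _ _ _).symm.trans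
      ((congrArg (· ≫ B.base.hom) hl).trans ((Category.assoc _ _ _).trans
        ((congrArg (A.π.left ≫ ·) (Over.w (eqToHom hAB))).trans (Over.w A.π))))))
  have htop : (Over.map t).map top = top' := rfl
  haveI : IsIso top' := hn
  haveI : IsIso ((Over.forget S).map top') := inferInstance
  haveI : IsIso ((Over.forget S').map top) := (inferInstance : IsIso ((Over.forget S).map top'))
  haveI : IsIso top := isIso_of_reflects_iso top (Over.forget S')
  have heqv : A.act.act ≫ top = (Red.bc t G ◁ top) ≫ B.act.act := map_injective t (by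
    have hfs : sharp t (flat t (fst (Red.bc t G) A.P)) = fst _ _ := flat_injective t (flat_sharp t _)
    have h1 : (lift (flat t (fst (Red.bc t G) A.P)) ((Over.map t).map (snd _ _)) ≫ (restrObj t A).act.act) ≫ top' =
        lift (flat t (fst (Red.bc t G) A.P)) ((Over.map t).map (snd (Red.bc t G) A.P) ≫ top') ≫
          (restrObj t B).act.act :=
      (Category.assoc _ _ _).trans ((congrArg (lift (flat t (fst (Red.bc t G) A.P))
        ((Over.map t).map (snd _ _)) ≫ ·) eqv).trans (lift_whiskerLeft_assoc _ _ _ _))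
    have h2 := lift_restrObj_act t A (flat t (fst (Red.bc t G) A.P)) (snd _ _)
    have h3 : lift (flat t (fst (Red.bc t G) A.P)) ((Over.map t).map (snd (Red.bc t G) A.P) ≫ top') ≫
        (restrObj t B).act.act =
        (Over.map t).map (lift (fst (Red.bc t G) A.P) (snd _ _ ≫ top) ≫ B.act.act) :=
      (congrArg (fun q => lift (flat t (fst (Red.bc t G) A.P)) q ≫ (restrObj t B).act.act)
        ((congrArg ((Over.map t).map (snd _ _) ≫ ·) htop.symm).trans ((Over.map t).map_comp _ _).symm)).trans
        ((lift_restrObj_act t B _ _).trans (by rw [hfs]))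
    rw [show (Red.bc t G ◁ top) = lift (fst _ _) (snd _ _ ≫ top) from
      CartesianMonoidalCategory.hom_ext _ _ (by simp) (by simp)]
    rw [hfs, lift_fst_snd, Category.id_comp] at h2
    exact ((Over.map t).map_comp _ _).trans ((congrArg (· ≫ top') h2.symm).trans (h1.trans h3)))
  exact ⟨⟨eqToHom hAB, top, heqv,
    IsPullback.of_horiz_isIso ⟨map_injective t (by rw [Functor.map_comp, Functor.map_comp, htop]; exact hw)⟩,
    flat_injective t (by rw [flat_comp, htop]; exact wφ)⟩, rfl, rfl⟩

instance isEquivalence_restrFunctor (hT : (Over.map t).obj T' = T) :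
    (restrFunctor (K := K) (aX := aX) t hT).IsEquivalence where
  faithful := ⟨fun {c d} m m' h => Functor.Fiber.hom_ext (QuotObj.hom_ext
    (map_injective t (congrArg (fun f => f.1.base) h)) (map_injective t (congrArg (fun f => f.1.top) h)))⟩
  full := ⟨fun {c d} n => by
    haveI := QuotSt.PointCount.isIso_fiber n
    have hn : IsIso n.1.top := ⟨(inv n).1.top, congrArg (fun f => f.1.top) (IsIso.hom_inv_id n),
      congrArg (fun f => f.1.top) (IsIso.inv_hom_id n)⟩
    have hb : n.1.base = (Over.map t).map (eqToHom (c.2.trans d.2.symm)) :=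
      ((QuotSt.PointCount.base_eq_id (T := T) ((congrArg (Over.map t).obj c.2).trans hT)
        ((congrArg (Over.map t).obj d.2).trans hT) n.1).1 n.2).trans (eqToHom_map (Over.map t) _).symm
    obtain ⟨m, hm, hm'⟩ := exists_preimage t (c.2.trans d.2.symm) n.1 hn hb
    exact ⟨⟨m, (QuotSt.PointCount.base_eq_id c.2 d.2 m).2 hm⟩, Functor.Fiber.hom_ext
      (QuotObj.hom_ext ((congrArg (Over.map t).map hm).trans hb.symm) hm')⟩⟩
  essSurj := ⟨fun d => by
    obtain ⟨A', hA', m, -, hb⟩ := exists_restrObj t d.1 (d.2.trans hT.symm)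
    refine ⟨⟨A', hA'⟩, ⟨@asIso _ _ _ _ (⟨m, ?_⟩ : (restrFunctor t hT).obj ⟨A', hA'⟩ ⟶ d)
      (QuotSt.PointCount.isIso_fiber _)⟩⟩
    exact (QuotSt.PointCount.base_eq_id ((congrArg (Over.map t).obj hA').trans hT) d.2 m).2 hb⟩

/-- Counts do not change along an equivalence. -/
theorem count_of_equivalence {C D : Type*} [Category C] [Category D] (F : C ⥤ D) [F.IsEquivalence]
    (h : StkCnt.IsEssFinite D) :
    ∃ h' : StkCnt.IsEssFinite C, StkCnt.count C h' = StkCnt.count D h := by
  let e : StkCnt.IsoCl C ≃ StkCnt.IsoCl D :=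
    Equiv.ofBijective (Quotient.map F.obj fun _ _ ⟨i⟩ => ⟨F.mapIso i⟩) ⟨fun a b hab => by
      induction a, b using Quotient.inductionOn₂ with
      | h x y =>
        obtain ⟨i⟩ := Quotient.exact (s := isIsomorphicSetoid D) hab
        exact Quotient.sound (⟨F.preimageIso i⟩ : IsIsomorphic x y),
      fun b => by
        induction b using Quotient.inductionOn with
        | h d => exact ⟨StkCnt.IsoCl.mk (F.objPreimage d),
            Quotient.sound (⟨F.objObjPreimageIso d⟩ : IsIsomorphic _ d)⟩⟩
  haveI := h.finite_isoCl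
  have h' : StkCnt.IsEssFinite C :=
    ⟨Finite.of_equiv _ e.symm, fun x y => haveI := h.finite_hom (F.obj x) (F.obj y)
      Finite.of_injective (fun f => F.map f) F.map_injective⟩
  refine ⟨h', ?_⟩
  letI : Fintype (StkCnt.IsoCl D) := Fintype.ofFinite _
  letI : Fintype (StkCnt.IsoCl C) := Fintype.ofEquiv _ e.symm
  rw [StkCnt.count_eq_sum h', StkCnt.count_eq_sum h]
  refine Fintype.sum_equiv e _ _ fun q => ?_
  induction q using Quotient.inductionOn with
  | h x =>
    congr 2
    change Nat.card (Aut x) = Nat.card (Aut (F.obj x))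
    exact Nat.card_congr (Equiv.ofBijective (fun i => F.mapIso i)
      ⟨fun i j hij => Iso.ext (F.map_injective (congrArg Iso.hom hij)),
        fun i => ⟨F.preimageIso i, Iso.ext (F.map_preimage _)⟩⟩)

end Groth.Agent.Lib.GalPts.Restrict
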