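import Groth.Prelude.Def_GalTw2
import Groth.Agent.Lib.Zeta.Points
import Groth.Agent.Lib.FFDesc.Datum
import Mathlib.FieldTheory.Finite.Basic
import Mathlib.FieldTheory.Finite.GaloisField

/-!
# Points of schemes over a finite field in an algebraic closure
-/

set_option autoImplicit false
universe u

open CategoryTheory CategoryTheory.Limits MonoidalCategory CartesianMonoidalCategory MonObj AlgebraicGeometry

namespace Groth.Agent.Lib.GalPts

variable {k : Type u} [Field k]

section Frob

variable [Finite k]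

/-- The Frobenius of an algebraic extension of a finite field. -/
noncomputable def frob (k : Type u) [Field k] [Finite k] (L : Type u) [Field L] [Algebra k L]
    [Algebra.IsAlgebraic k L] : L ≃ₐ[k] L :=
  letI := Fintype.ofFinite k
  FiniteField.frobeniusAlgEquivOfAlgebraic k L

theorem frob_apply {L : Type u} [Field L] [Algebra k L] [Algebra.IsAlgebraic k L] (x : L) :
    frob k L x = x ^ Nat.card k := by
  letI := Fintype.ofFinite k
  rw [Nat.card_eq_fintype_card]
  rfl

theorem frob_pow_apply {L : Type u} [Field L] [Algebra k L] [Algebra.IsAlgebraic k L] (n : ℕ) (x : L) :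
    (frob k L ^ n) x = x ^ Nat.card k ^ n := by
  induction n generalizing x with
  | zero => simp
  | succ n ih => rw [pow_succ', AlgEquiv.mul_apply, frob_apply, ih, ← pow_mul, ← pow_succ]

theorem exists_eq_frob_pow {L : Type u} [Field L] [Algebra k L] [FiniteDimensional k L] (σ : L ≃ₐ[k] L) :
    ∃ j : ℕ, σ = frob k L ^ j := by
  letI := Fintype.ofFinite k
  haveI : Finite L := Module.finite_of_finite k
  obtain ⟨j, hj⟩ := (FiniteField.bijective_frobeniusAlgEquivOfAlgebraic_pow k L).2 σ
  exact ⟨j.1, hj.symm⟩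

theorem frob_natural {L L' : Type u} [Field L] [Algebra k L] [Algebra.IsAlgebraic k L] [Field L']
    [Algebra k L'] [Algebra.IsAlgebraic k L'] (f : L →ₐ[k] L') (x : L) :
    f (frob k L x) = frob k L' (f x) := by
  rw [frob_apply, frob_apply, map_pow]

end Frob

section Pts

variable {L L' L'' : Type u} [Field L] [Algebra k L] [Field L'] [Algebra k L'] [Field L''] [Algebra k L'']

/-- `Spec L' ⟶ Spec L` over `k`. -/
noncomputable def ptMap (f : L →ₐ[k] L') : SGA7.pt (K := k) L' ⟶ SGA7.pt (K := k) L :=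
  Over.homMk (Spec.map (CommRingCat.ofHom f.toRingHom)) (by
    change Spec.map _ ≫ Spec.map _ = Spec.map _
    rw [← Spec.map_comp, ← CommRingCat.ofHom_comp]
    congr 2
    exact RingHom.ext f.commutes)

theorem ptMap_comp (f : L →ₐ[k] L') (g : L' →ₐ[k] L'') : ptMap g ≫ ptMap f = ptMap (g.comp f) := by
  apply Over.OverMorphism.ext
  change Spec.map _ ≫ Spec.map _ = Spec.map _
  rw [← Spec.map_comp]
  rfl

theorem specAut_eq_ptMap (σ : L ≃ₐ[k] L) : SGA7.specAut σ = ptMap σ.toAlgHom := rfl

instance epi_ptMap (f : L →ₐ[k] L') : Epi (ptMap f) := by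
  refine (Over.forget _).epi_of_epi_map ?_
  have : Surjective (Spec.map (CommRingCat.ofHom f.toRingHom)) :=
    ⟨fun y => ⟨IsLocalRing.closedPoint L', Subsingleton.elim (α := Spec (CommRingCat.of L)) _ _⟩⟩
  have : Flat (Spec.map (CommRingCat.ofHom f.toRingHom)) := by
    rw [HasRingHomProperty.Spec_iff (P := @Flat)]
    letI := f.toRingHom.toAlgebra
    exact (inferInstance : Module.Flat L L')
  have := (FFDesc.fpqcCover_of_quasiCompact (Spec.map (CommRingCat.ofHom f.toRingHom))).effectiveEpi
  exact inferInstanceAs (Epi (Spec.map (CommRingCat.ofHom f.toRingHom)))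

theorem ptMap_inj (f : L →ₐ[k] L') {X : Over (Spec (CommRingCat.of k))} {x y : SGA7.Pts L X}
    (h : ptMap f ≫ x = ptMap f ≫ y) : x = y :=
  (cancel_epi (ptMap f)).1 h

theorem frob_ptMap [Finite k] [Algebra.IsAlgebraic k L] [Algebra.IsAlgebraic k L'] (f : L →ₐ[k] L') :
    SGA7.specAut (frob k L') ≫ ptMap f = ptMap f ≫ SGA7.specAut (frob k L) := by
  rw [specAut_eq_ptMap, specAut_eq_ptMap, ptMap_comp, ptMap_comp]
  congr 1
  exact AlgHom.ext fun x => (frob_natural f x).symm

theorem frob_smul_ptMap [Finite k] [Algebra.IsAlgebraic k L] [Algebra.IsAlgebraic k L'] (f : L →ₐ[k] L')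
    {X : Over (Spec (CommRingCat.of k))} (y : SGA7.Pts L X) :
    (frob k L' • (ptMap f ≫ y : SGA7.Pts L' X)) = ptMap f ≫ (frob k L • y) := by
  rw [GalTw.pts_smul_def, GalTw.pts_smul_def, ← Category.assoc, frob_ptMap, Category.assoc]

theorem finite_pts [Finite k] [FiniteDimensional k L] (X : Over (Spec (CommRingCat.of k)))
    [LocallyOfFiniteType X.hom] [QuasiCompact X.hom] : Finite (SGA7.Pts L X) := by
  haveI : Finite L := Module.finite_of_finite k
  haveI := Groth.Agent.Lib.Zeta.Points.finite_points X.hom L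
  exact Finite.of_injective
    (fun x : SGA7.Pts L X => (⟨x.left, Over.w x⟩ : { g : Spec (CommRingCat.of L) ⟶ X.left //
      g ≫ X.hom = Spec.map (CommRingCat.ofHom (algebraMap k L)) }))
    fun x y h => Over.OverMorphism.ext (congrArg Subtype.val h)

/-- A point in an algebraic extension comes from a finite subextension. -/
theorem exists_finite_level [Algebra.IsAlgebraic k L] {X : Over (Spec (CommRingCat.of k))}
    [LocallyOfFiniteType X.hom] (x : SGA7.Pts L X) :
    ∃ E : IntermediateField k L, FiniteDimensional k E ∧ ∃ y : SGA7.Pts E X, ptMap E.val ≫ y = x := by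
  obtain ⟨_, ⟨U, hU, rfl⟩, hxU, -⟩ := X.left.isBasis_affineOpens.exists_subset_of_mem_open
    (Set.mem_univ (x.left (IsLocalRing.closedPoint L))) isOpen_univ
  have hU : IsAffineOpen U := hU
  let l := IsOpenImmersion.lift hU.fromSpec x.left (by
    rintro _ ⟨t, rfl⟩
    rw [hU.range_fromSpec, Subsingleton.elim (α := Spec (CommRingCat.of L)) t (IsLocalRing.closedPoint L)]
    exact hxU)
  obtain ⟨φ, hφ⟩ := Spec.map_surjective l
  obtain ⟨θ, hθ⟩ := Spec.map_surjective (hU.fromSpec ≫ X.hom)
  have hft : RingHom.FiniteType θ.hom := by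
    rw [← HasRingHomProperty.Spec_iff (P := @LocallyOfFiniteType), hθ]
    infer_instance
  letI := θ.hom.toAlgebra
  have : Algebra.FiniteType k Γ(X.left, U) := hft
  have hc : θ ≫ φ = CommRingCat.ofHom (algebraMap k L) := Spec.map_injective (by
    rw [Spec.map_comp, hφ, hθ, ← Category.assoc, IsOpenImmersion.lift_fac]
    exact Over.w x)
  let ψ : Γ(X.left, U) →ₐ[k] L := { φ.hom with commutes' := fun a => ConcreteCategory.congr_hom hc a }
  obtain ⟨s, hs⟩ := this.out
  let E : IntermediateField k L := IntermediateField.adjoin k (ψ '' (s : Set Γ(X.left, U)))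
  have hE : FiniteDimensional k E :=
    IntermediateField.finiteDimensional_adjoin fun _ _ => Algebra.IsIntegral.isIntegral _
  have hmem : ∀ a, ψ a ∈ E.toSubalgebra := fun a => by
    have h1 : Algebra.adjoin k (s : Set Γ(X.left, U)) ≤ E.toSubalgebra.comap ψ :=
      Algebra.adjoin_le fun b hb => IntermediateField.subset_adjoin k _ ⟨b, hb, rfl⟩
    exact h1 (by rw [hs]; trivial)
  let ψ' : Γ(X.left, U) →ₐ[k] E := ψ.codRestrict E.toSubalgebra hmem
  refine ⟨E, hE, Over.homMk (Spec.map (CommRingCat.ofHom ψ'.toRingHom) ≫ hU.fromSpec) ?_, ?_⟩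
  · change (Spec.map _ ≫ hU.fromSpec) ≫ X.hom = Spec.map _
    rw [Category.assoc, ← hθ, ← Spec.map_comp]
    congr 1
    ext a
    exact congrArg Subtype.val (ψ'.commutes a)
  · apply Over.OverMorphism.ext
    change Spec.map _ ≫ Spec.map _ ≫ hU.fromSpec = x.left
    rw [← Spec.map_comp_assoc, show CommRingCat.ofHom ψ'.toRingHom ≫ CommRingCat.ofHom E.val.toRingHom = φ from rfl,
      hφ, IsOpenImmersion.lift_fac]

theorem exists_level_mono {E E' : IntermediateField k L} (h : E ≤ E') {X : Over (Spec (CommRingCat.of k))}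
    (y : SGA7.Pts E X) : ∃ y' : SGA7.Pts E' X, ptMap E'.val ≫ y' = ptMap E.val ≫ y :=
  ⟨ptMap (IntermediateField.inclusion h) ≫ y, by rw [← Category.assoc, ptMap_comp]; rfl⟩

end Pts

end Groth.Agent.Lib.GalPts
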