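import Groth.Agent.Lib.GalPts.Desc
import Groth.Agent.Lib.GrpQ.FrobQ
import Groth.Agent.Lib.GrpSch.SmoothCrit
import Groth.Agent.H1.GrpIrred
import Groth.Agent.H1.LangTorsor
import Mathlib.AlgebraicGeometry.Morphisms.UniversallyOpen

/-!
# Lang's theorem for connected smooth group schemes over a finite field
-/

set_option autoImplicit false
universe u

open CategoryTheory CategoryTheory.Limits MonoidalCategory CartesianMonoidalCategory MonObj AlgebraicGeometry
open Groth.Agent.Lib.GrpQ.FrobQ Groth.Agent.Lib.GrpSch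

namespace Groth.Agent.Lib.GalPts

section FrobEnd

variable (p : ℕ) [Fact p.Prime]

theorem frobN_appTop (R : CommRingCat.{u}) [FrobSch.IsCharP (Spec R) p] (n : ℕ) (a : R) :
    (Spec.preimage (frobN p (Spec R) n)).hom a = a ^ p ^ n := by
  let σ := Scheme.ΓSpecIso R
  let φ := Spec.preimage (frobN p (Spec R) n)
  have h1 : (Spec.map φ).appTop (σ.inv a) = σ.inv a ^ p ^ n := by
    rw [Spec.map_preimage]
    have h := frobN_appLE p (Spec R) n ⊤ le_top (σ.inv a)
    rw [Scheme.Hom.appTop, Scheme.Hom.app_eq_appLE]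
    exact h
  have h2 := congrArg (fun f => f.hom (σ.inv a)) (Scheme.ΓSpecIso_naturality φ)
  simp only [CommRingCat.hom_comp, RingHom.comp_apply] at h2
  rw [h1, map_pow] at h2
  simp only [σ, Iso.inv_hom_id_apply] at h2
  exact h2.symm

theorem frobN_Spec_eq (R : CommRingCat.{u}) [FrobSch.IsCharP (Spec R) p] (n : ℕ) (φ : R ⟶ R)
    (hφ : ∀ a, φ.hom a = a ^ p ^ n) : frobN p (Spec R) n = Spec.map φ := by
  rw [← Spec.map_preimage (frobN p (Spec R) n)]
  congr 1
  ext a
  rw [frobN_appTop, hφ]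

variable {k : Type u} [Field k] [CharP k p] (n : ℕ) (hn : ∀ a : k, a ^ p ^ n = a)

theorem isCharP_over (X : Over (Spec (CommRingCat.of k))) : FrobSch.IsCharP X.left p :=
  FrobSch.IsCharP.of_hom X.hom p

include hn in
theorem frobN_base : frobN p (Spec (CommRingCat.of k)) n = 𝟙 _ :=
  (frobN_Spec_eq p (CommRingCat.of k) n (𝟙 _) fun a => (hn a).symm).trans (Spec.map_id _)

/-- The `q`-th power Frobenius of a scheme over the field with `q` elements. -/
noncomputable def frobEnd (X : Over (Spec (CommRingCat.of k))) : X ⟶ X :=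
  haveI := isCharP_over p X
  Over.homMk (frobN p X.left n) (by rw [frobN_comp, frobN_base p n hn, Category.comp_id])

theorem frobEnd_comp {X Y : Over (Spec (CommRingCat.of k))} (f : X ⟶ Y) :
    frobEnd p n hn X ≫ f = f ≫ frobEnd p n hn Y := by
  haveI := isCharP_over p X
  haveI := isCharP_over p Y
  exact Over.OverMorphism.ext (frobN_comp p f.left n)

end FrobEnd

variable {k : Type u} [Field k] [Finite k] (kb : Type u) [Field kb] [Algebra k kb] [Algebra.IsAlgebraic k kb]
  [IsAlgClosed kb]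

theorem exists_lift_point {W Z : Scheme.{u}} (w : W ⟶ Spec (CommRingCat.of kb)) [LocallyOfFiniteType w]
    (z : Z ⟶ Spec (CommRingCat.of kb)) [LocallyOfFiniteType z] (f : W ⟶ Z) (hf : f ≫ z = w)
    (x : Spec (CommRingCat.of kb) ⟶ Z) (hx : x ≫ z = 𝟙 _)
    (h : x (IsLocalRing.closedPoint kb) ∈ Set.range f) :
    ∃ y : Spec (CommRingCat.of kb) ⟶ W, y ≫ w = 𝟙 _ ∧ y ≫ f = x := by
  have : LocallyOfFiniteType (f ≫ z) := by rw [hf]; infer_instance
  have : LocallyOfFiniteType f := locallyOfFiniteType_of_comp f z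
  let P := pullback f x
  have : JacobsonSpace P := LocallyOfFiniteType.jacobsonSpace (pullback.snd f x)
  obtain ⟨a, ha⟩ := h
  obtain ⟨v, -, -⟩ := Scheme.Pullback.exists_preimage_pullback (f := f) (g := x) a _ ha
  obtain ⟨c, -, hc⟩ := nonempty_inter_closedPoints (X := P) ⟨v, Set.mem_univ _⟩ isClosed_univ.isLocallyClosed
  let q := pointOfClosedPoint (pullback.snd f x) c hc
  have hq : q ≫ pullback.snd f x = 𝟙 _ := pointOfClosedPoint_comp _ c hc
  refine ⟨q ≫ pullback.fst f x, ?_, ?_⟩
  · rw [Category.assoc, ← hf, pullback.condition_assoc, hx, Category.comp_id, hq]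
  · rw [Category.assoc, pullback.condition, ← Category.assoc, hq, Category.id_comp]

/-- **Lang's theorem**, twisted form: if `θ` is multiplicative on points, every point is `g θ(π g)⁻¹`. -/
theorem exists_lang_twist (G : Over (Spec (CommRingCat.of k))) [GrpObj G] [Smooth G.hom] [QuasiCompact G.hom]
    [ConnectedSpace G.left] (θ : G ⊗ SGA7.pt (K := k) kb ⟶ G)
    (hθ : ∀ x y : SGA7.Pts kb G, lift (x * y) (𝟙 _) ≫ θ = (lift x (𝟙 _) ≫ θ) * (lift y (𝟙 _) ≫ θ))
    (a : SGA7.Pts kb G) :
    ∃ g : SGA7.Pts kb G, g * (lift (frob k kb • g) (𝟙 _) ≫ θ)⁻¹ = a := by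
  letI := Fintype.ofFinite k
  obtain ⟨p, hp⟩ := CharP.exists k
  obtain ⟨n, hpp, hcard⟩ := FiniteField.card k p
  haveI : Fact p.Prime := ⟨hpp⟩
  have hn : ∀ a : k, a ^ p ^ (n : ℕ) = a := fun a => by rw [← hcard]; exact FiniteField.pow_card a
  haveI : CharP kb p := charP_of_injective_algebraMap (algebraMap k kb).injective p
  let e := SGA7.pt (K := k) kb
  let F := frobEnd p n hn
  have hF : ∀ g : SGA7.Pts kb G, frob k kb • g = g ≫ F G := fun g => by
    rw [GalTw.pts_smul_def, ← frobEnd_comp]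
    congr 1
    haveI := isCharP_over p e
    apply Over.OverMorphism.ext
    change Spec.map (CommRingCat.ofHom (frob k kb : kb →+* kb)) = frobN p (Spec (CommRingCat.of kb)) n
    refine (frobN_Spec_eq p (CommRingCat.of kb) n (CommRingCat.ofHom (frob k kb : kb →+* kb)) fun x => ?_).symm
    change frob k kb x = x ^ p ^ (n : ℕ)
    rw [frob_apply, Nat.card_eq_fintype_card, hcard]
  let W := G ⊗ e
  let M : SGA7.Pts kb G → (W ⟶ W) := fun b =>
    lift (fst G e * (snd G e ≫ b) * (lift (fst G e ≫ F G) (snd G e) ≫ θ)⁻¹) (snd G e)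
  have hMs : ∀ b, (M b).left ≫ (snd G e).left = (snd G e).left := fun b =>
    congrArg CommaMorphism.left (lift_snd (fst G e * (snd G e ≫ b) * (lift (fst G e ≫ F G) (snd G e) ≫ θ)⁻¹) (snd G e))
  haveI hsm : Smooth (snd G e).left :=
    MorphismProperty.of_isPullback (P := @Smooth) (IsPullback.of_hasPullback G.hom e.hom) inferInstance
  have hopen : ∀ b, IsOpen (Set.range (M b).left) := fun b => by
    haveI : LocallyOfFinitePresentation ((M b).left ≫ (snd G e).left) := by rw [hMs b]; infer_instance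
    haveI : LocallyOfFinitePresentation (M b).left := by
      haveI : LocallyOfFiniteType ((M b).left ≫ (snd G e).left) := by rw [hMs b]; infer_instance
      haveI : LocallyOfFiniteType (M b).left := locallyOfFiniteType_of_comp (M b).left (snd G e).left
      haveI : IsLocallyNoetherian W.left :=
        LocallyOfFiniteType.isLocallyNoetherian (Y := Spec (CommRingCat.of kb)) (snd G e).left
      infer_instance
    haveI : Smooth (M b).left := smooth_of_liftings (M b).left fun A J hJ t c₀ hc => by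
      let T : Over (Spec (CommRingCat.of k)) := Over.mk (t ≫ W.hom)
      let T₀ : Over (Spec (CommRingCat.of k)) :=
        Over.mk (Spec.map (CommRingCat.ofHom (Ideal.Quotient.mk J)) ≫ T.hom)
      let i : T₀ ⟶ T := Over.homMk (Spec.map (CommRingCat.ofHom (Ideal.Quotient.mk J))) rfl
      haveI := isCharP_over p T
      haveI : FrobSch.IsCharP (Spec A) p := isCharP_over p T
      let φ := Spec.preimage (frobN p (Spec A) n)
      have hφ : ∀ x, φ.hom x = x ^ p ^ (n : ℕ) := frobN_appTop p A n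
      have hJ0 : ∀ x ∈ J, φ.hom x = 0 := fun x hx => by
        have h2 : x * x = 0 := by
          rw [← Ideal.mem_bot, ← hJ, pow_two]
          exact Ideal.mul_mem_mul hx hx
        have hle : 2 ≤ p ^ (n : ℕ) := le_trans hpp.two_le (Nat.le_self_pow n.pos.ne' p)
        rw [hφ, ← Nat.add_sub_cancel' hle, pow_add, pow_two, h2, zero_mul]
      let ρ : CommRingCat.of (A ⧸ J) ⟶ A := CommRingCat.ofHom (Ideal.Quotient.lift J φ.hom hJ0)
      have hρ : Spec.map ρ ≫ Spec.map (CommRingCat.ofHom (Ideal.Quotient.mk J)) = frobN p (Spec A) n := by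
        rw [← Spec.map_comp]
        exact Spec.map_preimage _
      let r : T ⟶ T₀ := Over.homMk (Spec.map ρ) (by
        change Spec.map ρ ≫ Spec.map _ ≫ T.hom = T.hom
        rw [← Category.assoc, hρ]
        exact Over.w (F T))
      have hri : r ≫ i = F T := Over.OverMorphism.ext hρ
      haveI : Mono i := by
        refine (Over.forget _).mono_of_mono_map ?_
        haveI : IsClosedImmersion (Spec.map (CommRingCat.ofHom (Ideal.Quotient.mk J))) :=
          IsClosedImmersion.spec_of_surjective _ Ideal.Quotient.mk_surjective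
        exact inferInstanceAs (Mono (Spec.map (CommRingCat.ofHom (Ideal.Quotient.mk J))))
      have hir : i ≫ r = F T₀ := by
        rw [← cancel_mono i, Category.assoc, hri, frobEnd_comp]
      let c₁ : T₀ ⟶ W := Over.homMk c₀ (by
        change c₀ ≫ W.hom = Spec.map _ ≫ t ≫ W.hom
        rw [← Over.w (M b), ← Category.assoc, hc, Category.assoc, Over.w (M b)])
      let t₁ : T ⟶ W := Over.homMk t rfl
      have hc₁ : i ≫ t₁ = c₁ ≫ M b := Over.OverMorphism.ext hc.symm
      have hi1 : i ≫ t₁ ≫ fst G e =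
          (c₁ ≫ fst G e) * (c₁ ≫ snd G e ≫ b) *
            (lift (c₁ ≫ fst G e ≫ F G) (c₁ ≫ snd G e) ≫ θ)⁻¹ := by
        rw [← Category.assoc, hc₁, Category.assoc, lift_fst, MonObj.comp_mul, MonObj.comp_mul, GrpObj.comp_inv,
          comp_lift_assoc]
      have hi2 : i ≫ t₁ ≫ snd G e = c₁ ≫ snd G e := by rw [← Category.assoc, hc₁, Category.assoc, lift_snd]
      let g : T ⟶ G := (t₁ ≫ fst G e) * (lift (r ≫ c₁ ≫ fst G e) (t₁ ≫ snd G e) ≫ θ) * (t₁ ≫ snd G e ≫ b)⁻¹
      have hig : i ≫ g = c₁ ≫ fst G e := by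
        simp only [g, MonObj.comp_mul, GrpObj.comp_inv, comp_lift_assoc]
        rw [hi1, ← Category.assoc i r, hir, frobEnd_comp, hi2, Category.assoc, ← Category.assoc t₁ (snd G e),
          ← Category.assoc i (t₁ ≫ snd G e), hi2, Category.assoc]
        simp only [F]
        group
      have hgF : g ≫ F G = r ≫ c₁ ≫ fst G e := by
        change g ≫ frobEnd p n hn G = _
        rw [← frobEnd_comp]
        change F T ≫ g = _
        rw [← hri, Category.assoc, hig]
      have hgM : lift g (t₁ ≫ snd G e) ≫ M b = t₁ := by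
        apply CartesianMonoidalCategory.hom_ext
        · rw [Category.assoc, lift_fst, MonObj.comp_mul, MonObj.comp_mul, GrpObj.comp_inv, lift_fst,
            comp_lift_assoc, lift_fst_assoc, lift_snd_assoc, lift_snd, hgF]
          simp only [g, Category.assoc]
          group
        · rw [Category.assoc, lift_snd, lift_snd]
      have hgi : i ≫ lift g (t₁ ≫ snd G e) = c₁ := by
        apply CartesianMonoidalCategory.hom_ext
        · rw [Category.assoc, lift_fst, hig]
        · rw [Category.assoc, lift_snd, hi2]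
      exact ⟨(lift g (t₁ ≫ snd G e)).left, congrArg CommaMorphism.left hgM, congrArg CommaMorphism.left hgi⟩
    exact (M b).left.isOpenMap.isOpen_range
  haveI : IrreducibleSpace W.left := by
    haveI := H1.GrpIrred.connectedSpace_bc G kb
    haveI : LocallyOfFiniteType (Red.bc (extBase k kb) G).hom := bc_hom_of _ G inferInstance
    haveI : QuasiCompact (Red.bc (extBase k kb) G).hom := bc_hom_of _ G inferInstance
    exact H1.GrpIrred.irreducibleSpace (Red.bc (extBase k kb) G)
  haveI : Nonempty W.left :=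
    Nonempty.intro ((lift (1 : SGA7.Pts kb G) (𝟙 e)).left (IsLocalRing.closedPoint kb))
  obtain ⟨w, hw₁, hw₂⟩ := nonempty_preirreducible_inter (hopen a) (hopen 1) (Set.range_nonempty _)
    (Set.range_nonempty _)
  haveI : JacobsonSpace W.left :=
    LocallyOfFiniteType.jacobsonSpace (Y := Spec (CommRingCat.of kb)) (snd G e).left
  obtain ⟨c, ⟨hca, hc1⟩, hc⟩ := nonempty_inter_closedPoints
    (show (Set.range (M a).left ∩ Set.range (M 1).left).Nonempty from ⟨w, hw₁, hw₂⟩)
    ((hopen a).inter (hopen 1)).isLocallyClosed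
  let x := pointOfClosedPoint (snd G e).left c hc
  have hx : x ≫ (snd G e).left = 𝟙 _ := pointOfClosedPoint_comp _ c hc
  have hxc : x (IsLocalRing.closedPoint kb) = c := pointOfClosedPoint_apply _ c hc _
  have key : ∀ b, c ∈ Set.range (M b).left →
      ∃ g : SGA7.Pts kb G, x ≫ (fst G e).left = (g * b * (lift (frob k kb • g) (𝟙 e) ≫ θ)⁻¹).left := fun b hb => by
    obtain ⟨y, hy₁, hy₂⟩ := exists_lift_point kb (snd G e).left (snd G e).left (M b).left (hMs b) x hx
      (by rw [hxc]; exact hb)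
    let Y : e ⟶ W := Over.homMk y (by
      rw [← Over.w (snd G e), ← Category.assoc, hy₁]
      exact Category.id_comp _)
    have hY : Y ≫ snd G e = 𝟙 e := Over.OverMorphism.ext hy₁
    refine ⟨Y ≫ fst G e, ?_⟩
    have h : (Y ≫ M b ≫ fst G e) =
        (Y ≫ fst G e) * b * (lift (frob k kb • (Y ≫ fst G e : SGA7.Pts kb G)) (𝟙 e) ≫ θ)⁻¹ := by
      rw [lift_fst, MonObj.comp_mul, MonObj.comp_mul, GrpObj.comp_inv, reassoc_of% hY, hF, Category.assoc,
        comp_lift_assoc, hY]
    rw [← h, Over.comp_left, Over.comp_left, ← Category.assoc]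
    exact (congrArg (· ≫ (fst G e).left) hy₂).symm
  obtain ⟨g, hg⟩ := key a hca
  obtain ⟨h, hh⟩ := key 1 hc1
  refine ⟨g⁻¹ * h, ?_⟩
  let τ : SGA7.Pts kb G →* SGA7.Pts kb G :=
    MonoidHom.mk' (fun x => lift (frob k kb • x) (𝟙 e) ≫ θ) fun x y => by rw [smul_mul']; exact hθ _ _
  have he : g * a * (τ g)⁻¹ = h * 1 * (τ h)⁻¹ := Over.OverMorphism.ext (hg.symm.trans hh)
  rw [_root_.mul_one] at he
  change g⁻¹ * h * (τ (g⁻¹ * h))⁻¹ = a
  rw [map_mul, map_inv]
  calc g⁻¹ * h * ((τ g)⁻¹ * τ h)⁻¹ = g⁻¹ * (h * (τ h)⁻¹) * τ g := by group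
    _ = g⁻¹ * (g * a * (τ g)⁻¹) * τ g := by rw [he]
    _ = a := by group

/-- **Lang's theorem**: every point is `g (π g)⁻¹`. -/
theorem exists_lang (G : Over (Spec (CommRingCat.of k))) [GrpObj G] [Smooth G.hom] [QuasiCompact G.hom]
    [ConnectedSpace G.left] (a : SGA7.Pts kb G) :
    ∃ g : SGA7.Pts kb G, g * (frob k kb • g)⁻¹ = a := by
  obtain ⟨g, hg⟩ := exists_lang_twist kb G (fst G _) (fun x y => by simp only [lift_fst]) a
  exact ⟨g, by rwa [lift_fst] at hg⟩

end Groth.Agent.Lib.GalPts
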