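import Groth.Agent.Lib.GalPts.GroupMass
import Groth.Agent.Lib.GalPts.Lang
import Groth.Agent.Lib.GrpQ.RedSubgroup
import Groth.Agent.Lib.ActSep.EquiDim
import Groth.Agent.H1.Classical.Smooth
import Groth.Agent.H52.CompDiv
import Groth.Agent.S7520
import Groth.Agent.S0355
import Mathlib.AlgebraicGeometry.Morphisms.FlatMono

/-!
# The mass of the geometric points of a closed subgroup without subtori
-/

set_option autoImplicit false
universe u

open CategoryTheory CategoryTheory.Limits MonoidalCategory CartesianMonoidalCategory MonObj AlgebraicGeometry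
open Groth.Agent.Lib.GrpSch Groth.Agent.Lib.GrpQ.MonoClosed

namespace Groth.Agent.Lib.GalPts

attribute [local instance] Functor.monObjObj Functor.grpObjObj

variable {k : Type u} [Field k] [Finite k] (kb : Type u) [Field kb] [Algebra k kb] [Algebra.IsAlgebraic k kb]
  [IsAlgClosed kb]

omit [IsAlgClosed kb] in
/-- The Frobenius on geometric points is a morphism of `G`. -/
theorem exists_frobMor (G : Over (Spec (CommRingCat.of k))) [GrpObj G] :
    ∃ Φ : G ⟶ G, ∀ g : SGA7.Pts kb G, frob k kb • g = g ≫ Φ := by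
  letI := Fintype.ofFinite k
  obtain ⟨p, hp⟩ := CharP.exists k
  obtain ⟨n, hpp, hcard⟩ := FiniteField.card k p
  haveI : Fact p.Prime := ⟨hpp⟩
  have hn : ∀ a : k, a ^ p ^ (n : ℕ) = a := fun a => by rw [← hcard]; exact FiniteField.pow_card a
  haveI : CharP kb p := charP_of_injective_algebraMap (algebraMap k kb).injective p
  let e := SGA7.pt (K := k) kb
  refine ⟨frobEnd p n hn G, fun g => ?_⟩
  rw [GalTw.pts_smul_def, ← frobEnd_comp]
  congr 1
  haveI := isCharP_over p e
  apply Over.OverMorphism.ext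
  change Spec.map (CommRingCat.ofHom (frob k kb : kb →+* kb)) = Groth.Agent.Lib.GrpQ.FrobQ.frobN p (Spec (CommRingCat.of kb)) n
  refine (frobN_Spec_eq p (CommRingCat.of kb) n (CommRingCat.ofHom (frob k kb : kb →+* kb)) fun x => ?_).symm
  change frob k kb x = x ^ p ^ (n : ℕ)
  rw [frob_apply, Nat.card_eq_fintype_card, hcard]

omit [Finite k] [IsAlgClosed kb] [Algebra.IsAlgebraic k kb] in
/-- `x ↦ b Φ(x) b'`, topologically, on the points of the base change. -/
theorem exists_twist_map {G : Over (Spec (CommRingCat.of k))} [GrpObj G] (Φ : G ⟶ G) (b b' : SGA7.Pts kb G) :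
    ∃ h : (GalTw.bcK kb G).left → (GalTw.bcK kb G).left, Continuous h ∧
      ∀ x y : 𝟙_ (Over (Spec (CommRingCat.of kb))) ⟶ GalTw.bcK kb G,
        geomPt kb y = b * (geomPt kb x ≫ Φ) * b' → h (ptOf x) = ptOf y := by
  let e := SGA7.pt (K := k) kb
  let m : G ⊗ e ⟶ G ⊗ e := lift ((snd G e ≫ b) * (fst G e ≫ Φ) * (snd G e ≫ b')) (snd G e)
  have hlift : ∀ x : 𝟙_ (Over (Spec (CommRingCat.of kb))) ⟶ GalTw.bcK kb G,
      (lift (geomPt kb x) (𝟙 e)).left = x.left := fun x => by
    apply pullback.hom_ext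
    · refine (congrArg CommaMorphism.left (lift_fst (geomPt kb x) (𝟙 e))).trans ?_
      exact Category.id_comp _
    · exact (congrArg CommaMorphism.left (lift_snd (geomPt kb x) (𝟙 e))).trans (Over.w x).symm
  refine ⟨m.left, Scheme.Hom.continuous m.left, fun x y hy => ?_⟩
  have hm : lift (geomPt kb x) (𝟙 e) ≫ m = lift (geomPt kb y) (𝟙 e) := by
    apply CartesianMonoidalCategory.hom_ext
    · rw [Category.assoc, lift_fst, MonObj.comp_mul, MonObj.comp_mul, lift_fst_assoc, lift_snd_assoc,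
        lift_snd_assoc, lift_fst, show 𝟙 e ≫ b = b from Category.id_comp b,
        show 𝟙 e ≫ b' = b' from Category.id_comp b', hy]
    · rw [Category.assoc, lift_snd, lift_snd, lift_snd]
  have := congrArg (fun f : e ⟶ G ⊗ e => f.left (IsLocalRing.closedPoint kb)) hm
  simp only [Over.comp_left, Scheme.Hom.comp_apply, hlift] at this
  exact this

omit [Finite k] [IsAlgClosed kb] [Algebra.IsAlgebraic k kb] in
theorem ptOf_comp {X Y : Over (Spec (CommRingCat.of kb))} (x : 𝟙_ (Over (Spec (CommRingCat.of kb))) ⟶ X)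
    (f : X ⟶ Y) : ptOf (x ≫ f) = f.left (ptOf x) := rfl

/-- An endomorphism mapping a normal subgroup of finite index into itself maps it onto itself. -/
theorem surjOn_of_finiteIndex {P : Type*} [Group P] (φ : P →* P) (hφ : Function.Bijective φ) (U : Subgroup P)
    [U.FiniteIndex] (h : ∀ u ∈ U, φ u ∈ U) (u : P) (hu : u ∈ U) : ∃ v ∈ U, φ v = u := by
  have hle : U.map φ ≤ U := Subgroup.map_le_iff_le_comap.2 fun v hv => h v hv
  have hidx : (U.map φ).index = U.index := Subgroup.index_map_of_bijective hφ U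
  have h1 := Subgroup.relIndex_mul_index hle
  rw [hidx] at h1
  have h2 : (U.map φ).relIndex U = 1 := (mul_eq_right₀ Subgroup.FiniteIndex.index_ne_zero).1 h1
  obtain ⟨v, hv, he⟩ := Subgroup.relIndex_eq_one.1 h2 hu
  exact ⟨v, hv, he⟩

/-- **The mass of the points of a closed subgroup without subtori.** -/
theorem hasMass_of_closed (G : Over (Spec (CommRingCat.of k))) [GrpObj G] [IsAffine G.left]
    [LocallyOfFiniteType G.hom] (S : Over (Spec (CommRingCat.of kb))) [GrpObj S] (i : S ⟶ GalTw.bcK kb G)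
    [IsMonHom i] [IsClosedImmersion i.left] (hS : Red.HasNoSubtorus kb S)
    (d : ℕ) (hd : topologicalKrullDim ↥S.left = (d : WithBot ℕ∞)) (P : Subgroup (SGA7.Pts kb G))
    (hP : ∀ g, g ∈ P ↔ ∃ x : 𝟙_ (Over (Spec (CommRingCat.of kb))) ⟶ S, geomPt kb (x ≫ i) = g)
    (b : SGA7.Pts kb G) (φ : P →* P) (hφs : Function.Bijective φ)
    (hφ : ∀ x : P, (φ x : SGA7.Pts kb G) = b⁻¹ * (frob k kb • (x : SGA7.Pts kb G)) * b) :
    Mass.HasMass P (Mass.Tw φ) ((((Nat.card k : ℕ) : ℚ) ^ d))⁻¹ := by
  classical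
  haveI : LocallyOfFiniteType (GalTw.bcK kb G).hom := bc_hom_of _ G inferInstance
  haveI : IsAffineHom (GalTw.bcK kb G).hom := bc_hom_of _ G inferInstance
  haveI : IsAffine (GalTw.bcK kb G).left := isAffine_of_isAffineHom (GalTw.bcK kb G).hom
  haveI : IsAffine S.left := isAffine_of_isAffineHom i.left
  haveI : LocallyOfFiniteType S.hom := by rw [← Over.w i]; infer_instance
  haveI : QuasiCompact S.hom := inferInstance
  obtain ⟨R, _, r, hr, hrc, hrs, hrr⟩ := GrpQ.RedSubgroup.exists_reduced_subgroup S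
  haveI := hr; haveI := hrc; haveI := hrs; haveI := hrr
  haveI : LocallyOfFiniteType R.hom := by rw [← Over.w r]; infer_instance
  haveI : IsAffine R.left := isAffine_of_isAffineHom r.left
  haveI : QuasiCompact R.hom := inferInstance
  letI : GrpObj (Over.mk R.hom) := inferInstanceAs (GrpObj R)
  haveI : Smooth R.hom := H1.Classical.Smooth.smooth_of_isReduced R.hom
  obtain ⟨R₀, _, r₀, hr₀, hr₀c, hr₀f, hrange, hr₀i, -⟩ := Groth.Agent.S7520.result kb R
  haveI := hr₀; haveI := hr₀c; haveI := hr₀f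
  haveI : LocallyOfFiniteType R₀.hom := by rw [← Over.w r₀]; infer_instance
  haveI : IsLocallyNoetherian R.left := LocallyOfFiniteType.isLocallyNoetherian R.hom
  haveI : LocallyOfFinitePresentation r₀.left := inferInstance
  haveI : IsOpenImmersion r₀.left := IsOpenImmersion.of_flat_of_mono r₀.left
  haveI : Smooth R₀.hom := by rw [← Over.w r₀]; infer_instance
  haveI : IsAffine R₀.left := isAffine_of_isAffineHom r₀.left
  have hconn : _root_.IsConnected (Set.range r₀.left) := hrange ▸ isConnected_connectedComponent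
  haveI := Subtype.connectedSpace hconn
  haveI : ConnectedSpace R₀.left :=
    (r₀.left.isOpenEmbedding.isEmbedding.toHomeomorph).symm.surjective.connectedSpace
      (r₀.left.isOpenEmbedding.isEmbedding.toHomeomorph).symm.continuous
  haveI : Mono r₀ := Over.mono_of_mono_left r₀
  haveI : Mono r := Over.mono_of_mono_left r
  haveI : Mono i := Over.mono_of_mono_left i
  have hno : Red.HasNoSubtorus kb R₀ := fun T _ j _ _ hT => hS T (j ≫ r₀ ≫ r) hT
  have hdim : topologicalKrullDim ↥R₀.left = (d : WithBot ℕ∞) := by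
    have hcmp : connectedComponent (η[R].left (IsLocalRing.closedPoint kb)) ∈ irreducibleComponents ↥R.left := by
      refine ⟨(Groth.Agent.S0355.result kb R).1, fun Z hZ hle => ?_⟩
      exact hZ.isConnected.isPreconnected.subset_connectedComponent (hle mem_connectedComponent)
    rw [← hd, IsHomeomorph.topologicalKrullDim_eq _
        (r₀.left.isOpenEmbedding.isEmbedding.toHomeomorph).isHomeomorph, hrange,
      ActSep.topologicalKrullDim_irreducibleComponent_eq R hcmp]
    exact IsHomeomorph.topologicalKrullDim_eq _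
      (r.left.isClosedEmbedding.isEmbedding.toHomeomorphOfSurjective r.left.surjective).isHomeomorph
  let j : R ⟶ GalTw.bcK kb G := r ≫ i
  haveI : Mono j := mono_comp r i
  haveI : IsClosedImmersion j.left := by change IsClosedImmersion (r.left ≫ i.left); infer_instance
  let u : (𝟙_ (Over (Spec (CommRingCat.of kb))) ⟶ R) →* SGA7.Pts kb G :=
    (geomPt kb).comp (H1.Classical.Scheme'.postcomp j _)
  have hu : ∀ x, u x = geomPt kb (x ≫ j) := fun x => rfl
  have hui : Function.Injective u := fun x y h => (cancel_mono j).1 ((geomPt_bijective kb).1 h)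
  have hPu : ∀ g, g ∈ P ↔ ∃ x, u x = g := fun g => by
    rw [hP]
    constructor
    · rintro ⟨x, rfl⟩
      obtain ⟨z, hz⟩ := r.left.surjective (ptOf x)
      haveI : LocallyOfFiniteType r.left := inferInstance
      obtain ⟨y, hy₁, hy₂⟩ := exists_lift_point kb R.hom S.hom r.left (Over.w r) x.left (Over.w x) ⟨z, hz⟩
      refine ⟨Over.homMk y hy₁, ?_⟩
      rw [hu, ← Category.assoc]
      exact congrArg (fun t => geomPt kb (t ≫ i)) (Over.OverMorphism.ext hy₂)
    · rintro ⟨x, rfl⟩
      exact ⟨x ≫ r, by rw [hu, Category.assoc]⟩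
  let α : ↥P → (𝟙_ (Over (Spec (CommRingCat.of kb))) ⟶ R) := fun g => ((hPu g.1).1 g.2).choose
  have hα : ∀ g : P, u (α g) = g.1 := fun g => ((hPu g.1).1 g.2).choose_spec
  let U : Subgroup P :=
    ((H52.CompDiv.idComp R).map u).comap P.subtype
  have hmemU : ∀ g : P, g ∈ U ↔ α g ∈ H52.CompDiv.idComp R := fun g => by
    constructor
    · rintro ⟨x, hx, he⟩
      rwa [hui ((hα g).trans he.symm)]
    · exact fun h => ⟨α g, h, hα g⟩
  have hone : ptOf (1 : 𝟙_ (Over (Spec (CommRingCat.of kb))) ⟶ R) = η[R].left (IsLocalRing.closedPoint kb) := by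
    rw [show (1 : 𝟙_ (Over (Spec (CommRingCat.of kb))) ⟶ R) = η[R] by
      rw [Hom.one_def, toUnit_unique (toUnit _) (𝟙 _), Category.id_comp]]
    rfl
  have hclosed : ∀ (Φ : G ⟶ G) (c c' : SGA7.Pts kb G) (f : P → P), (∀ g : P, (f g).1 = c * (g.1 ≫ Φ) * c') →
      f 1 = 1 → ∀ g : P, g ∈ U → f g ∈ U := fun Φ c c' f hf hf1 g hg => by
    obtain ⟨h, hcont, hh⟩ := exists_twist_map kb Φ c c'
    haveI : JacobsonSpace R.left := LocallyOfFiniteType.jacobsonSpace (Y := Spec (CommRingCat.of kb)) R.hom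
    have hsub : h '' Set.range j.left ⊆ Set.range j.left := by
      have hcl : IsClosed (j.left ⁻¹' (h ⁻¹' Set.range j.left)) :=
        (j.left.isClosedEmbedding.isClosed_range.preimage hcont).preimage j.left.continuous
      have hall : closedPoints R.left ⊆ j.left ⁻¹' (h ⁻¹' Set.range j.left) := fun z hz => by
        let x : 𝟙_ (Over (Spec (CommRingCat.of kb))) ⟶ R :=
          Over.homMk (pointOfClosedPoint R.hom z hz) (pointOfClosedPoint_comp R.hom z hz)
        have hxz : ptOf x = z := pointOfClosedPoint_apply R.hom z hz _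
        let g₁ : P := ⟨u x, (hPu _).2 ⟨x, rfl⟩⟩
        refine ⟨ptOf (α (f g₁)), ?_⟩
        rw [← hxz]
        exact (hh (x ≫ j) (α (f g₁) ≫ j) ((hα (f g₁)).trans (hf g₁))).symm
      have htop : (j.left ⁻¹' (h ⁻¹' Set.range j.left)) = Set.univ := by
        rw [← Set.univ_subset_iff, ← closure_closedPoints]
        exact closure_minimal hall hcl
      rintro _ ⟨_, ⟨z, rfl⟩, rfl⟩
      exact Set.eq_univ_iff_forall.1 htop z
    let ψ : R.left → R.left := fun z => (hsub ⟨_, ⟨z, rfl⟩, rfl⟩).choose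
    have hψ : ∀ z, j.left (ψ z) = h (j.left z) := fun z => (hsub ⟨_, ⟨z, rfl⟩, rfl⟩).choose_spec
    have hψc : Continuous ψ := by
      rw [j.left.isClosedEmbedding.isEmbedding.continuous_iff]
      exact (hcont.comp j.left.continuous).congr fun z => (hψ z).symm
    have hψp : ∀ g : P, ψ (ptOf (α g)) = ptOf (α (f g)) := fun g =>
      j.left.isClosedEmbedding.injective ((hψ _).trans (hh (α g ≫ j) (α (f g) ≫ j) (by
        rw [← hu, ← hu, hα, hα, hf])))
    have h1 : α (1 : P) = 1 := hui (by rw [hα, map_one]; rfl)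
    rw [hmemU, ← H52.CompDiv.mem_idComp_iff, ← hψp g]
    have h2 : ψ (η[R].left (IsLocalRing.closedPoint kb)) = η[R].left (IsLocalRing.closedPoint kb) := by
      rw [← hone, ← h1]
      exact (hψp 1).trans (by rw [hf1])
    have h3 := hψc.image_connectedComponent_subset (η[R].left (IsLocalRing.closedPoint kb))
    rw [h2] at h3
    exact h3 ⟨ptOf (α g), (H52.CompDiv.mem_idComp_iff _).2 ((hmemU g).1 hg), rfl⟩
  haveI hUn : U.Normal := ⟨fun g hg c => hclosed (𝟙 G) c.1 c.1⁻¹ (fun g' => c * g' * c⁻¹)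
    (fun g' => by rw [Category.comp_id]; rfl) (by simp) g hg⟩
  obtain ⟨ΦF, hΦF⟩ := exists_frobMor kb G
  have hφU : ∀ g ∈ U, φ g ∈ U := fun g hg =>
    hclosed ΦF b⁻¹ b φ (fun g' => by rw [hφ, ← hΦF]) (map_one φ) g hg
  haveI : U.FiniteIndex := by
    haveI : CompactSpace R.left := QuasiCompact.compactSpace_of_compactSpace R.hom
    haveI : IsNoetherian R.left := { }
    haveI : Finite (irreducibleComponents R.left) :=
      TopologicalSpace.NoetherianSpace.finite_irreducibleComponents.to_subtype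
    haveI : Finite (_root_.ConnectedComponents R.left) := by
      refine Finite.of_surjective
        (fun Z : irreducibleComponents R.left => _root_.ConnectedComponents.mk (Z.2.1.nonempty.some)) fun c => ?_
      obtain ⟨x, rfl⟩ := _root_.ConnectedComponents.surjective_coe c
      refine ⟨⟨irreducibleComponent x, irreducibleComponent_mem_irreducibleComponents x⟩, ?_⟩
      exact _root_.ConnectedComponents.coe_eq_coe'.mpr
        (isIrreducible_irreducibleComponent.isConnected.isPreconnected.subset_connectedComponent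
          mem_irreducibleComponent (Set.Nonempty.some_mem _))
    have hαm : ∀ g g' : P, α (g * g') = α g * α g' := fun g g' => hui (by rw [map_mul, hα, hα, hα]; rfl)
    have hαi : ∀ g : P, α g⁻¹ = (α g)⁻¹ := fun g => hui (by rw [map_inv, hα, hα]; rfl)
    have key : ∀ x y : P, x⁻¹ * y ∈ U ↔ H52.CompDiv.comp R (α x⁻¹) = H52.CompDiv.comp R (α y⁻¹) := fun x y => by
      rw [H52.CompDiv.comp_eq_iff, hmemU, hαm, hαi y, inv_inv]
    haveI : Finite (P ⧸ U) := Finite.of_injective
      (fun q : P ⧸ U => H52.CompDiv.comp R (α (q.out)⁻¹)) fun q q' h => by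
        rw [← Quotient.out_eq q, ← Quotient.out_eq q']
        exact QuotientGroup.eq.2 ((key _ _).2 h)
    exact Subgroup.finiteIndex_of_finite_quotient
  let ψ : P ⧸ U →* P ⧸ U := QuotientGroup.map U U φ fun g hg => hφU g hg
  have hker : (QuotientGroup.mk' U).ker = U := QuotientGroup.ker_mk' U
  rw [show (((Nat.card k : ℕ) : ℚ) ^ d)⁻¹ = (((Nat.card k : ℕ) : ℚ) ^ d)⁻¹ * 1 by rw [_root_.mul_one]]
  refine Mass.hasMass_extension (QuotientGroup.mk' U) (QuotientGroup.mk'_surjective U) φ ψ (fun g => rfl)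
    (fun c φc hφc => ?_) (Mass.hasMass_of_finite_group ψ)
  let A : Subgroup (SGA7.Pts kb G) := U.map P.subtype
  let eA : (QuotientGroup.mk' U).ker ≃* A :=
    (MulEquiv.subgroupCongr hker).trans (U.equivMapOfInjective P.subtype P.subtype_injective)
  have heA : ∀ a : (QuotientGroup.mk' U).ker, (eA a).1 = (a.1 : SGA7.Pts kb G) := fun a => rfl
  let φA : A →* A := eA.toMonoidHom.comp (φc.comp eA.symm.toMonoidHom)
  have hφA : ∀ a : A, (φA a : SGA7.Pts kb G) = (b * c.1)⁻¹ * (frob k kb • a.1) * (b * c.1) := fun a => by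
    obtain ⟨a, rfl⟩ := eA.surjective a
    change (eA (φc (eA.symm (eA a)))).1 = _
    rw [eA.symm_apply_apply, heA, heA, hφc, Subgroup.coe_mul, Subgroup.coe_mul, hφ, Subgroup.coe_inv]
    group
  have hφcs : Function.Surjective φc := fun a => by
    have ha : a.1 ∈ U := (QuotientGroup.eq_one_iff _).1 a.2
    obtain ⟨v, hv, he⟩ := surjOn_of_finiteIndex φ hφs U hφU (c * a.1 * c⁻¹) (hUn.conj_mem _ ha c)
    refine ⟨⟨v, hker.symm ▸ hv⟩, Subtype.ext ?_⟩
    rw [hφc, he]
    group
  have hA : ∀ g, g ∈ A ↔ ∃ x : 𝟙_ (Over (Spec (CommRingCat.of kb))) ⟶ R₀, geomPt kb (x ≫ r₀ ≫ j) = g := fun g => by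
    constructor
    · rintro ⟨g, hg, rfl⟩
      have h1 := (H52.CompDiv.mem_idComp_iff _).2 ((hmemU g).1 hg)
      have h2 : ptOf (α g) ∈ Set.range r₀.left := hrange.symm ▸ h1
      obtain ⟨y, hy₁, hy₂⟩ := exists_lift_point kb R₀.hom R.hom r₀.left (Over.w r₀) (α g).left (Over.w (α g)) h2
      refine ⟨Over.homMk y hy₁, ?_⟩
      rw [← Category.assoc, show (Over.homMk y hy₁ : 𝟙_ (Over (Spec (CommRingCat.of kb))) ⟶ R₀) ≫ r₀ = α g from
        Over.OverMorphism.ext hy₂]
      exact hα g
    · rintro ⟨x, rfl⟩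
      have hx : u (x ≫ r₀) ∈ P := (hPu _).2 ⟨_, rfl⟩
      refine ⟨⟨_, hx⟩, (hmemU _).2 ?_, by rw [← Category.assoc]; rfl⟩
      rw [show α ⟨_, hx⟩ = x ≫ r₀ from hui (hα _), ← H52.CompDiv.mem_idComp_iff]
      exact hrange ▸ ⟨ptOf x, rfl⟩
  exact (hasMass_of_unipotent kb G R₀ (r₀ ≫ j) hno d hdim A hA (b * c.1) φA
    (fun a => by
      obtain ⟨x, hx⟩ := hφcs (eA.symm a)
      exact ⟨eA x, by change eA (φc (eA.symm (eA x))) = a; rw [eA.symm_apply_apply, hx, eA.apply_symm_apply]⟩)
    hφA).congr eA.symm ⟨fun a => Mass.Tw.mk φc (eA.symm a.val), fun a => Mass.Tw.mk φA (eA a.val),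
      fun a => eA.apply_symm_apply _, fun a => eA.symm_apply_apply _⟩ fun g a => by
    change eA.symm (φA g * a.val * g⁻¹) = φc (eA.symm g) * eA.symm a.val * (eA.symm g)⁻¹
    rw [map_mul, map_mul, map_inv]
    congr 2
    exact eA.symm_apply_apply _

end Groth.Agent.Lib.GalPts
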