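import Groth.Prelude.Def_GSzH1
import Mathlib

/-!
# Continuous cocycles of the Galois group of a finite field and their Frobenius values
-/

set_option autoImplicit false
universe u v

namespace Groth.Agent.Lib.GalPts.Cocycle

section

variable {k : Type u} [Field k] [Finite k] {kb : Type u} [Field kb] [Algebra k kb] [IsAlgClosure k kb]

theorem pow_apply {π : (kb ≃ₐ[k] kb)} (hπ : ∀ x, π x = x ^ Nat.card k) (n : ℕ) (x : kb) :
    (π ^ n) x = x ^ Nat.card k ^ n := by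
  induction n generalizing x with
  | zero => simp
  | succ n ih => rw [pow_succ', AlgEquiv.mul_apply, hπ, ih, ← pow_mul, ← pow_succ]

theorem exists_pow_agree {π : (kb ≃ₐ[k] kb)} (hπ : ∀ x, π x = x ^ Nat.card k)
    (E : IntermediateField k (kb)) [FiniteDimensional k E] (σ : (kb ≃ₐ[k] kb)) :
    ∃ j : ℕ, ∀ x ∈ E, σ x = (π ^ j) x := by
  haveI := Fintype.ofFinite k
  haveI : Finite E := Module.finite_of_finite k
  obtain ⟨j, hj⟩ := (FiniteField.bijective_frobeniusAlgEquivOfAlgebraic_pow k E).2 (σ.restrictNormal E)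
  refine ⟨j.1, fun x hx => ?_⟩
  have h1 : algebraMap E (kb) (σ.restrictNormal E ⟨x, hx⟩) = σ x :=
    σ.restrictNormal_commutes E ⟨x, hx⟩
  rw [← h1, ← hj, AlgEquiv.coe_pow, FiniteField.coe_frobeniusAlgEquivOfAlgebraic, pow_iterate,
    pow_apply hπ, Nat.card_eq_fintype_card]
  rfl

theorem isOpen_coset (E : IntermediateField k (kb)) [FiniteDimensional k E] (σ : (kb ≃ₐ[k] kb)) :
    IsOpen {τ : (kb ≃ₐ[k] kb) | ∀ x ∈ E, τ x = σ x} := by
  have : {τ : (kb ≃ₐ[k] kb) | ∀ x ∈ E, τ x = σ x} = (fun τ => σ⁻¹ * τ) ⁻¹' (E.fixingSubgroup : Set (kb ≃ₐ[k] kb)) := by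
    ext τ
    simp only [Set.mem_setOf_eq, Set.mem_preimage, SetLike.mem_coe, IntermediateField.mem_fixingSubgroup_iff,
      AlgEquiv.mul_apply]
    refine forall₂_congr fun x _ => ?_
    change τ x = σ x ↔ σ.symm (τ x) = x
    rw [AlgEquiv.symm_apply_eq]
  rw [this]
  exact E.fixingSubgroup_isOpen.preimage (continuous_const.mul continuous_id)

variable {A : Type v} [Group A] [MulDistribMulAction (kb ≃ₐ[k] kb) A]

omit [Finite k] [IsAlgClosure k kb] in
theorem z_one (z : GpH1.OneCocycleLC (kb ≃ₐ[k] kb) A) : z.1 1 = 1 := by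
  have h := z.1.2 1 1
  rw [one_mul, one_smul] at h
  exact left_eq_mul.mp h

theorem eq_of_apply_eq {π : (kb ≃ₐ[k] kb)} (hπ : ∀ x, π x = x ^ Nat.card k) (z z' : GpH1.OneCocycleLC (kb ≃ₐ[k] kb) A)
    (h : z.1 π = z'.1 π) : z = z' := by
  have hpow : ∀ n : ℕ, z.1 (π ^ n) = z'.1 (π ^ n) := by
    intro n
    induction n with
    | zero => rw [pow_zero, z_one, z_one]
    | succ n ih => rw [pow_succ', z.1.2 π (π ^ n), z'.1.2 π (π ^ n), h, ih]
  refine Subtype.ext (GpH1.OneCocycle.ext fun σ => ?_)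
  have hU : IsOpen ({τ | z.1 τ = z.1 σ} ∩ {τ | z'.1 τ = z'.1 σ}) :=
    (z.2.isOpen_fiber _).inter (z'.2.isOpen_fiber _)
  have hn : (fun τ => σ * τ) ⁻¹' ({τ | z.1 τ = z.1 σ} ∩ {τ | z'.1 τ = z'.1 σ}) ∈ nhds (1 : (kb ≃ₐ[k] kb)) :=
    (hU.preimage (continuous_const.mul continuous_id)).mem_nhds (by simp)
  obtain ⟨E, hE, hsub⟩ := (krullTopology_mem_nhds_one_iff k (kb) _).1 hn
  obtain ⟨j, hj⟩ := exists_pow_agree hπ E σ
  have hmem : σ⁻¹ * π ^ j ∈ E.fixingSubgroup := by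
    rw [IntermediateField.mem_fixingSubgroup_iff]
    intro x hx
    change σ.symm ((π ^ j) x) = x
    rw [← hj x hx, AlgEquiv.symm_apply_apply]
  have := hsub hmem
  simp only [Set.mem_preimage, mul_inv_cancel_left, Set.mem_inter_iff, Set.mem_setOf_eq] at this
  rw [← this.1, ← this.2, hpow]

/-- `a · π a ⋯ π^{n-1} a`. -/
def N (π : (kb ≃ₐ[k] kb)) (a : A) : ℕ → A
  | 0 => 1
  | n + 1 => a * π • N π a n

theorem N_add (π : (kb ≃ₐ[k] kb)) (a : A) (j l : ℕ) : N π a (j + l) = N π a j * (π ^ j) • N π a l := by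
  induction j with
  | zero => simp [N]
  | succ j ih =>
    rw [Nat.succ_add]
    simp only [N]
    rw [ih, smul_mul', pow_succ', mul_smul, mul_assoc]

theorem N_mem {π : (kb ≃ₐ[k] kb)} {a : A} {H : Subgroup A} (ha : a ∈ H) (hH : ∀ (σ : (kb ≃ₐ[k] kb)) (x : A), x ∈ H → σ • x ∈ H)
    (n : ℕ) : N π a n ∈ H := by
  induction n with
  | zero => exact H.one_mem
  | succ n ih => exact H.mul_mem ha (hH π _ ih)

theorem exists_cocycle {π : (kb ≃ₐ[k] kb)} (hπ : ∀ x, π x = x ^ Nat.card k)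
    (hcont : ∀ a : A, IsOpen {σ : (kb ≃ₐ[k] kb) | σ • a = a}) (a : A) (H : Subgroup A) (hHfin : (H : Set A).Finite)
    (ha : a ∈ H) (hH : ∀ (σ : (kb ≃ₐ[k] kb)) (x : A), x ∈ H → σ • x ∈ H) :
    ∃ z : GpH1.OneCocycleLC (kb ≃ₐ[k] kb) A, z.1 π = a := by
  classical
  have hUn : (⋂ x ∈ (H : Set A), {σ : (kb ≃ₐ[k] kb) | σ • x = x}) ∈ nhds (1 : (kb ≃ₐ[k] kb)) :=
    (hHfin.isOpen_biInter fun x _ => hcont x).mem_nhds (by simp)
  obtain ⟨E, hE, hsub⟩ := (krullTopology_mem_nhds_one_iff k (kb) _).1 hUn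
  haveI : Finite E := Module.finite_of_finite k
  haveI := Fintype.ofFinite E
  set d := Module.finrank k E
  have hd : 0 < d := Module.finrank_pos
  have hfixE : ∀ {τ : (kb ≃ₐ[k] kb)}, (∀ x ∈ E, τ x = x) → ∀ x ∈ H, τ • x = x := fun {τ} h x hx =>
    Set.mem_iInter₂.1 (hsub ((IntermediateField.mem_fixingSubgroup_iff _ _).2 h)) x hx
  have hEd : ∀ x ∈ E, x ^ Nat.card k ^ d = x := by
    intro x hx
    have := congrArg (Subtype.val : E → kb) (FiniteField.pow_card (⟨x, hx⟩ : E))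
    rwa [← Nat.card_eq_fintype_card, Module.natCard_eq_pow_finrank (K := k), IntermediateField.coe_pow] at this
  have hπd : ∀ x ∈ H, (π ^ d) • x = x := hfixE fun x hx => by rw [pow_apply hπ, hEd x hx]
  have hmulN : ∀ m, N π a (d * m) = N π a d ^ m := by
    intro m
    induction m with
    | zero => simp [N]
    | succ m ih => rw [Nat.mul_succ, add_comm, N_add, hπd _ (N_mem ha hH _), ih, pow_succ']
  haveI : Finite H := hHfin.to_subtype
  obtain ⟨e, he0, he⟩ : ∃ e, 0 < e ∧ N π a d ^ e = 1 :=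
    ⟨orderOf (⟨N π a d, N_mem ha hH d⟩ : H), (isOfFinOrder_of_finite _).orderOf_pos,
      by simpa using congrArg (Subtype.val) (pow_orderOf_eq_one (⟨N π a d, N_mem ha hH d⟩ : H))⟩
  set M := d * e
  have hM0 : 0 < M := Nat.mul_pos hd he0
  have hNM : ∀ t, N π a (M * t) = 1 := fun t => by
    rw [Nat.mul_assoc, hmulN, pow_mul, he, one_pow]
  set q := Nat.card k
  have hq : 1 < q := Finite.one_lt_card
  have hqM : 1 ≤ q ^ M := Nat.one_le_pow _ _ (by omega)
  haveI : NeZero ((q ^ M - 1 : ℕ) : kb) := by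
    refine ⟨?_⟩
    haveI := Fintype.ofFinite k
    have h0 : (q : k) = 0 := by rw [show q = Fintype.card k from Nat.card_eq_fintype_card, Nat.cast_card_eq_zero]
    rw [Nat.cast_sub hqM, Nat.cast_pow, ← map_natCast (algebraMap k (kb)) q, h0, map_zero,
      zero_pow hM0.ne', zero_sub, Nat.cast_one, neg_ne_zero]
    exact one_ne_zero
  haveI : NeZero (q ^ M - 1) := ⟨Nat.sub_ne_zero_of_lt (Nat.one_lt_pow hM0.ne' hq)⟩
  haveI : IsAlgClosed kb := IsAlgClosure.isAlgClosed k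
  obtain ⟨ζ, hζ⟩ := HasEnoughRootsOfUnity.exists_primitiveRoot (kb) (q ^ M - 1)
  have hπM : (π ^ M) ζ = ζ := by
    rw [pow_apply hπ, show q ^ M = (q ^ M - 1) + 1 by omega, pow_succ, hζ.pow_eq_one, one_mul]
  have hdvd : ∀ j, (π ^ j) ζ = ζ → M ∣ j := by
    intro j hj
    rw [pow_apply hπ] at hj
    have hqj : 1 ≤ q ^ j := Nat.one_le_pow _ _ (by omega)
    have h1 : ζ ^ (q ^ j - 1) = 1 := by
      apply mul_right_cancel₀ (hζ.ne_zero (NeZero.ne _))
      rw [← pow_succ, Nat.sub_add_cancel hqj, hj, one_mul]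
    have h2 : (q ^ M - 1).gcd (q ^ j - 1) = q ^ M - 1 := Nat.gcd_eq_left (hζ.dvd_of_pow_eq_one _ h1)
    rw [Nat.pow_sub_one_gcd_pow_sub_one] at h2
    have h3 : q ^ M.gcd j = q ^ M := by
      have := Nat.one_le_pow (M.gcd j) q (by omega)
      omega
    rw [← Nat.pow_right_injective hq h3]
    exact Nat.gcd_dvd_right _ _
  have hwd : ∀ j l, (π ^ j) ζ = (π ^ l) ζ → N π a j = N π a l := by
    suffices ∀ j l, j ≤ l → (π ^ j) ζ = (π ^ l) ζ → N π a j = N π a l by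
      intro j l h
      rcases le_total j l with hjl | hjl
      · exact this j l hjl h
      · exact (this l j hjl h.symm).symm
    intro j l hjl h
    obtain ⟨t, ht⟩ := hdvd (l - j) ((π ^ j).injective <| by
      rw [← AlgEquiv.mul_apply, ← pow_add, Nat.add_sub_cancel' hjl, h])
    rw [← Nat.add_sub_cancel' hjl, ht, N_add, hNM, smul_one, mul_one]
  have hact : ∀ (σ : (kb ≃ₐ[k] kb)) (j : ℕ), σ ζ = (π ^ j) ζ → ∀ x ∈ H, σ • x = (π ^ j) • x := by
    intro σ j h x hx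
    have hτ : ((π ^ j)⁻¹ * σ) • x = x := by
      refine hfixE (fun y hy => ?_) x hx
      rcases eq_or_ne y 0 with rfl | hy0
      · exact map_zero _
      have hyM : y ^ q ^ M = y := by
        have : ∀ t, y ^ q ^ (d * t) = y := fun t => by
          induction t with
          | zero => simp
          | succ t ih => rw [Nat.mul_succ, pow_add, pow_mul, ih]; exact hEd y hy
        exact this e
      have hy1 : y ^ (q ^ M - 1) = 1 := by
        apply mul_right_cancel₀ hy0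
        rw [← pow_succ, Nat.sub_add_cancel hqM, hyM, one_mul]
      obtain ⟨i, -, rfl⟩ := hζ.eq_pow_of_pow_eq_one hy1
      rw [map_pow, AlgEquiv.mul_apply, h]
      change ((π ^ j).symm ((π ^ j) ζ)) ^ i = ζ ^ i
      rw [AlgEquiv.symm_apply_apply]
    conv_lhs => rw [show σ = π ^ j * ((π ^ j)⁻¹ * σ) from (mul_inv_cancel_left _ _).symm]
    rw [mul_smul, hτ]
  haveI : FiniteDimensional k (IntermediateField.adjoin k {ζ}) :=
    IntermediateField.adjoin.finiteDimensional (Algebra.IsIntegral.isIntegral ζ)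
  have hex : ∀ σ : (kb ≃ₐ[k] kb), ∃ j : ℕ, σ ζ = (π ^ j) ζ := fun σ => by
    obtain ⟨j, hj⟩ := exists_pow_agree hπ (IntermediateField.adjoin k {ζ}) σ
    exact ⟨j, hj ζ (IntermediateField.mem_adjoin_simple_self k ζ)⟩
  choose J hJ using hex
  refine ⟨⟨⟨fun σ => N π a (J σ), fun σ τ => ?_⟩, ?_⟩, ?_⟩
  · change N π a (J (σ * τ)) = N π a (J σ) * σ • N π a (J τ)
    rw [hact σ (J σ) (hJ σ) _ (N_mem ha hH _), ← N_add]
    refine hwd _ _ ?_
    rw [← hJ, AlgEquiv.mul_apply, hJ τ, pow_apply hπ, map_pow, hJ σ, add_comm, pow_add,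
      AlgEquiv.mul_apply, pow_apply hπ (J τ)]
  · refine (IsLocallyConstant.iff_exists_open _).2 fun σ =>
      ⟨_, isOpen_coset (IntermediateField.adjoin k {ζ}) σ, fun x _ => rfl, fun τ hτ => ?_⟩
    refine hwd _ _ ?_
    rw [← hJ, ← hJ]
    exact hτ ζ (IntermediateField.mem_adjoin_simple_self k ζ)
  · change N π a (J π) = a
    rw [hwd (J π) 1 (by rw [← hJ, pow_one])]
    simp [N]

/-- Cocycles are determined by, and exist for, every value at the Frobenius; classes are twisted conjugacy classes. -/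
theorem value_bijective (π : kb ≃ₐ[k] kb) (hπ : ∀ x : kb, π x = x ^ Nat.card k)
    (A : Type v) [Group A] [MulDistribMulAction (kb ≃ₐ[k] kb) A]
    (hcont : ∀ a : A, IsOpen {σ : kb ≃ₐ[k] kb | σ • a = a})
    (hfin : ∀ a : A, ∃ H : Subgroup A, (H : Set A).Finite ∧ a ∈ H ∧
      ∀ (σ : kb ≃ₐ[k] kb) (x : A), x ∈ H → σ • x ∈ H) :
    Function.Bijective (fun z : GpH1.OneCocycleLC (kb ≃ₐ[k] kb) A => z.1 π) ∧
      ∀ z z' : GpH1.OneCocycleLC (kb ≃ₐ[k] kb) A,
        z.cl = z'.cl ↔ ∃ g : A, z'.1 π = g * z.1 π * (π • g)⁻¹ := by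
  refine ⟨⟨fun z z' h => eq_of_apply_eq hπ z z' h, fun a => ?_⟩, fun z z' => ⟨?_, ?_⟩⟩
  · obtain ⟨H, hfinH, ha, hH⟩ := hfin a
    exact exists_cocycle hπ hcont a H hfinH ha hH
  · intro h
    obtain ⟨c, hc⟩ := (GpH1.OneCocycleLC.cl_eq_cl_iff z z').1 h
    refine ⟨c, ?_⟩
    have := hc π
    rw [this]
    group
  · rintro ⟨g, hg⟩
    have hgc : IsLocallyConstant fun σ : kb ≃ₐ[k] kb => σ • g := by
      refine (IsLocallyConstant.iff_exists_open _).2 fun σ =>
        ⟨(fun τ => σ⁻¹ * τ) ⁻¹' {τ | τ • g = g},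
          (hcont g).preimage (continuous_const.mul continuous_id), by simp, fun τ hτ => ?_⟩
      have h' : (σ⁻¹ * τ) • g = g := hτ
      rw [mul_smul, inv_smul_eq_iff] at h'
      exact h'
    let w : GpH1.OneCocycleLC (kb ≃ₐ[k] kb) A :=
      ⟨⟨fun σ => g * z.1 σ * (σ • g)⁻¹, fun σ τ => by
        show g * z.1 (σ * τ) * ((σ * τ) • g)⁻¹ =
          g * z.1 σ * (σ • g)⁻¹ * σ • (g * z.1 τ * (τ • g)⁻¹)
        rw [z.1.2 σ τ, smul_mul', smul_mul', smul_inv', mul_smul]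
        group⟩, ((IsLocallyConstant.const g).mul z.2).mul hgc.inv⟩
    have hw : w = z' := eq_of_apply_eq hπ w z' hg.symm
    refine (GpH1.OneCocycleLC.cl_eq_cl_iff z z').2 ⟨g, fun σ => ?_⟩
    rw [← hw]
    change z.1 σ = g⁻¹ * (g * z.1 σ * (σ • g)⁻¹) * σ • g
    group

end

end Groth.Agent.Lib.GalPts.Cocycle
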