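import Groth.Agent.Lib.GalPts.Lang
import Groth.Agent.Lib.BitorsExt
import Groth.Prelude.Def_GalTw
import Groth.Prelude.Def_NonAbH2

/-!
# Geometric points of exact sequences of groups over a finite field
-/

set_option autoImplicit false
universe u

open CategoryTheory CategoryTheory.Limits MonoidalCategory CartesianMonoidalCategory MonObj AlgebraicGeometry
open Groth.Agent.Lib.BitorsExt

namespace Groth.Agent.Lib.GalPts

variable {k : Type u} [Field k] (kb : Type u) [Field kb] [Algebra k kb] [Algebra.IsAlgebraic k kb] [IsAlgClosed kb]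
  {A B C : Over (Spec (CommRingCat.of k))} [GrpObj A] [GrpObj B] [GrpObj C] {i : A ⟶ B} {π : B ⟶ C}

omit [Algebra.IsAlgebraic k kb] in
theorem surjective_of_exact (hex : NonAbH1.IsExactSeq Scheme.fppfPrecoverage i π) : Surjective π.left := by
  obtain ⟨-, -, -, -, R, hR, hs⟩ := hex
  refine ⟨fun x => ?_⟩
  obtain ⟨J, X, f, rfl⟩ := Presieve.exists_eq_ofArrows R
  obtain ⟨j, y, hy⟩ := ((Scheme.ofArrows_mem_precoverage_iff _).1 hR).1 x
  obtain ⟨s, hs'⟩ := hs (f j) (Presieve.ofArrows.mk j)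
  exact ⟨s y, by rw [← hy, ← hs']; rfl⟩

omit [Algebra.IsAlgebraic k kb] in
theorem pts_surjective [LocallyOfFiniteType B.hom] [LocallyOfFiniteType C.hom]
    (hex : NonAbH1.IsExactSeq Scheme.fppfPrecoverage i π) (c : SGA7.Pts kb C) :
    ∃ b : SGA7.Pts kb B, b ≫ π = c := by
  haveI := surjective_of_exact hex
  haveI : LocallyOfFiniteType (π.left ≫ C.hom) := by rw [Over.w π]; infer_instance
  haveI : LocallyOfFiniteType π.left := locallyOfFiniteType_of_comp π.left C.hom
  let P := pullback π.left c.left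
  obtain ⟨y, hy₁, -⟩ := exists_lift_point kb (pullback.snd π.left c.left) (𝟙 _) (pullback.snd π.left c.left)
    (Category.comp_id _) (𝟙 _) (Category.comp_id _) ((pullback.snd π.left c.left).surjective _)
  refine ⟨Over.homMk (y ≫ pullback.fst π.left c.left) ?_, Over.OverMorphism.ext ?_⟩
  · rw [Category.assoc, ← Over.w π, pullback.condition_assoc, reassoc_of% hy₁]
    exact Over.w c
  · change (y ≫ pullback.fst π.left c.left) ≫ π.left = c.left
    rw [Category.assoc, pullback.condition, reassoc_of% hy₁]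

theorem exists_lang_fibre [Finite k] [IsMonHom i] [IsMonHom π] [Smooth A.hom] [QuasiCompact A.hom]
    [ConnectedSpace A.left] (hex : NonAbH1.IsExactSeq Scheme.fppfPrecoverage i π)
    (x x' : SGA7.Pts kb B) (h : x ≫ π = x' ≫ π) :
    ∃ g : SGA7.Pts kb A, x' = (g ≫ i) * x * (frob k kb • (g ≫ i : SGA7.Pts kb B))⁻¹ := by
  let e := SGA7.pt (K := k) kb
  have hiπ : ∀ {T : Over (Spec (CommRingCat.of k))} (a : T ⟶ A), a ≫ i ≫ π = 1 := fun a => by
    rw [hex.2.2.1]; exact MonObj.comp_one a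
  obtain ⟨θ, hθ⟩ := exists_lift_kernel i π hex 1 ((snd A e ≫ x) * (fst A e ≫ i) * (snd A e ≫ x)⁻¹) (by
    rw [MonObj.one_comp, MonObj.mul_comp, MonObj.mul_comp, GrpObj.inv_comp, Category.assoc _ i π, hiπ,
      _root_.mul_one, mul_inv_cancel])
  rw [_root_.one_mul] at hθ
  have hv : ∀ g : SGA7.Pts kb A, (lift g (𝟙 e) ≫ θ) ≫ i = x * (g ≫ i) * x⁻¹ := fun g => by
    rw [Category.assoc, ← hθ]
    simp only [MonObj.comp_mul, GrpObj.comp_inv, lift_fst_assoc, lift_snd_assoc]
    rw [show 𝟙 e ≫ x = x from Category.id_comp x]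
  obtain ⟨a, ha⟩ := exists_lift_kernel i π hex 1 (x' * x⁻¹) (by
    rw [MonObj.one_comp, MonObj.mul_comp, GrpObj.inv_comp, h, mul_inv_cancel])
  rw [_root_.one_mul] at ha
  obtain ⟨g, hg⟩ := exists_lang_twist kb A θ (fun p q => kernel_injective i π hex _ _ (by
    rw [MonObj.mul_comp, hv, hv, hv, MonObj.mul_comp]; group)) a
  refine ⟨g, ?_⟩
  have h1 := congrArg (· ≫ i) hg
  simp only [MonObj.mul_comp, GrpObj.inv_comp] at h1
  rw [hv, ← ha] at h1
  have h2 : frob k kb • (g ≫ i : SGA7.Pts kb B) = (frob k kb • g : SGA7.Pts kb A) ≫ i :=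
    (GalTw.ptsMap_smul (K := kb) i (frob k kb) g).symm
  rw [h2, show x' = x' * x⁻¹ * x by group, ← h1]
  group

end Groth.Agent.Lib.GalPts
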