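import Groth.Agent.Lib.GalPts.GroupMass
import Groth.Agent.Lib.GalPts.ExactSeq
import Groth.Agent.H56.DimBaseChange

/-!
# A connected unipotent normal subgroup has `q ^ dim` points fixed by a twisted Frobenius
-/

set_option autoImplicit false
universe u

open CategoryTheory CategoryTheory.Limits MonoidalCategory CartesianMonoidalCategory MonObj AlgebraicGeometry
open Groth.Agent.Lib.GrpSch

namespace Groth.Agent.Lib.GalPts

attribute [local instance] Functor.monObjObj Functor.grpObjObj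

variable {k : Type u} [Field k] [Finite k] (kb : Type u) [Field kb] [Algebra k kb] [Algebra.IsAlgebraic k kb]
  [IsAlgClosed kb]

omit [Finite k] [IsAlgClosed kb] [Algebra.IsAlgebraic k kb] in
theorem smul_comp_pts {G H : Over (Spec (CommRingCat.of k))} (f : G ⟶ H) (σ : kb ≃ₐ[k] kb) (x : SGA7.Pts kb G) :
    σ • (x ≫ f : SGA7.Pts kb H) = (σ • x : SGA7.Pts kb G) ≫ f :=
  (Category.assoc (SGA7.specAut σ) x f).symm

theorem unip_fixed (G U : Over (Spec (CommRingCat.of k))) [GrpObj G] [GrpObj U] [IsAffine G.left]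
    [LocallyOfFiniteType G.hom] [Smooth U.hom] [IsAffineHom U.hom] [ConnectedSpace U.left]
    (iU : U ⟶ G) [IsMonHom iU] [Mono iU] (hUn : AlgGrp.IsNormalHom iU)
    (hUu : Red.HasNoSubtorus kb (GalTw.bcK kb U))
    (d : ℕ) (hd : topologicalKrullDim ↥U.left = (d : WithBot ℕ∞)) (b : SGA7.Pts kb G) :
    (∀ x : SGA7.Pts kb U, ∃ g : SGA7.Pts kb U,
        b⁻¹ * (frob k kb • (g ≫ iU : SGA7.Pts kb G)) * b * (g ≫ iU)⁻¹ = x ≫ iU) ∧
      Finite {g : SGA7.Pts kb U // (frob k kb • (g ≫ iU : SGA7.Pts kb G)) * b = b * (g ≫ iU)} ∧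
      Nat.card {g : SGA7.Pts kb U // (frob k kb • (g ≫ iU : SGA7.Pts kb G)) * b = b * (g ≫ iU)} =
        Nat.card k ^ d := by
  let e := SGA7.pt (K := k) kb
  let σ : kb ≃ₐ[k] kb := frob k kb
  obtain ⟨θ, hθ⟩ := hUn _ (snd U e ≫ b⁻¹) (fst U e)
  have hv : ∀ g : SGA7.Pts kb U, (lift g (𝟙 e) ≫ θ) ≫ iU = b⁻¹ * (g ≫ iU) * b := fun g => by
    rw [Category.assoc, ← hθ]
    simp only [MonObj.comp_mul, GrpObj.comp_inv, lift_fst_assoc, lift_snd_assoc]
    rw [show 𝟙 e ≫ b = b from Category.id_comp b, inv_inv]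
  haveI : QuasiCompact U.hom := inferInstance
  have hlang : ∀ x : SGA7.Pts kb U, ∃ g : SGA7.Pts kb U,
      b⁻¹ * (σ • (g ≫ iU : SGA7.Pts kb G)) * b * (g ≫ iU)⁻¹ = x ≫ iU := fun x => by
    obtain ⟨g, hg⟩ := exists_lang_twist kb U θ (fun p q => (cancel_mono iU).1 (by
      rw [MonObj.mul_comp, hv, hv, hv, MonObj.mul_comp]; group)) x⁻¹
    refine ⟨g, ?_⟩
    have h1 := congrArg (· ≫ iU) hg
    simp only [MonObj.mul_comp, GrpObj.inv_comp] at h1
    rw [hv, ← smul_comp_pts] at h1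
    rw [← inv_inj, ← h1]
    simp only [σ]
    group
  let p : SGA7.Pts kb U →* SGA7.Pts kb G := GalTw.ptsMap (K := kb) iU
  have hp : Function.Injective p := fun x y h => (cancel_mono iU).1 h
  let H := p.range
  haveI : (Over.pullback e.hom).PreservesMonomorphisms :=
    Functor.preservesMonomorphisms_of_adjunction (Over.mapPullbackAdj e.hom)
  haveI : Smooth (GalTw.bcK kb U).hom := bc_hom_of _ U inferInstance
  haveI : LocallyOfFiniteType (GalTw.bcK kb U).hom := inferInstance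
  haveI : IsAffineHom (GalTw.bcK kb U).hom := bc_hom_of _ U inferInstance
  haveI : IsAffine (GalTw.bcK kb U).left := isAffine_of_isAffineHom (GalTw.bcK kb U).hom
  haveI : ConnectedSpace (GalTw.bcK kb U).left := H1.GrpIrred.connectedSpace_bc U kb
  have hdim : topologicalKrullDim ↥(GalTw.bcK kb U).left = (d : WithBot ℕ∞) :=
    (H56.DimBaseChange.topologicalKrullDim_baseChange (K := kb) (k := k) e.hom U.hom _ _
      (isPullback_bc e.hom U)).trans hd
  have hH : ∀ g, g ∈ H ↔ ∃ x : 𝟙_ (Over (Spec (CommRingCat.of kb))) ⟶ GalTw.bcK kb U,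
      geomPt kb (x ≫ (Over.pullback e.hom).map iU) = g := fun g => by
    have key : ∀ x : 𝟙_ (Over (Spec (CommRingCat.of kb))) ⟶ GalTw.bcK kb U,
        geomPt kb (x ≫ (Over.pullback e.hom).map iU) = geomPt kb x ≫ iU := fun x => by
      change unitPoint kb ≫ Restrict.flat _ _ = (unitPoint kb ≫ Restrict.flat _ x) ≫ iU
      rw [Restrict.flat_comp_map, Category.assoc]
    constructor
    · rintro ⟨u, rfl⟩
      obtain ⟨x, rfl⟩ := (geomPt_bijective (G := U) kb).2 u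
      exact ⟨x, key x⟩
    · rintro ⟨x, rfl⟩
      exact ⟨geomPt kb x, (key x).symm⟩
  have hconj : ∀ (c : SGA7.Pts kb G) (g : SGA7.Pts kb G), g ∈ H → c * g * c⁻¹ ∈ H := by
    rintro c _ ⟨u, rfl⟩
    obtain ⟨n, hn⟩ := hUn _ c u
    exact ⟨n, hn.symm⟩
  have hstab : ∀ (τ : kb ≃ₐ[k] kb) (g : SGA7.Pts kb G), g ∈ H → τ • g ∈ H := by
    rintro τ _ ⟨u, rfl⟩
    exact ⟨τ • u, GalTw.ptsMap_smul (K := kb) iU τ u⟩
  let φ : H →* H := MonoidHom.mk' (fun x => ⟨b⁻¹ * (σ • x.1) * b, by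
      simpa using hconj b⁻¹ _ (hstab σ x.1 x.2)⟩) fun x y => Subtype.ext (by
      simp only [Subgroup.coe_mul, smul_mul']
      group)
  have hφs : Function.Surjective φ := fun y => ⟨⟨σ⁻¹ • (b * y.1 * b⁻¹), hstab _ _ (hconj b _ y.2)⟩,
    Subtype.ext (show b⁻¹ * (σ • σ⁻¹ • (b * y.1 * b⁻¹)) * b = y.1 by rw [smul_inv_smul]; group)⟩
  have hmass := hasMass_of_unipotent kb G (GalTw.bcK kb U) ((Over.pullback e.hom).map iU) hUu d hdim H hH b φ hφs
    fun _ => rfl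
  obtain ⟨hfin, hcard⟩ := hmass.card_fixed fun x => by
    obtain ⟨u, hu⟩ := x.2
    obtain ⟨g, hg⟩ := hlang u
    exact ⟨⟨g ≫ iU, g, rfl⟩, Subtype.ext (hg.trans hu)⟩
  let E : {g : SGA7.Pts kb U // (σ • (g ≫ iU : SGA7.Pts kb G)) * b = b * (g ≫ iU)} ≃ {g : H // φ g = g} :=
    Equiv.subtypeEquiv (Equiv.ofBijective p.rangeRestrict
      ⟨fun x y h => hp (congrArg Subtype.val h), p.rangeRestrict_surjective⟩) fun g => by
      rw [Subtype.ext_iff]
      change _ ↔ b⁻¹ * (σ • (g ≫ iU : SGA7.Pts kb G)) * b = g ≫ iU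
      rw [_root_.mul_assoc b⁻¹, inv_mul_eq_iff_eq_mul]
  refine ⟨hlang, Finite.of_equiv _ E.symm, ?_⟩
  have h2 : Nat.card {g : H // φ g = g} = Nat.card k ^ d := by
    rw [inv_inv] at hcard
    exact_mod_cast hcard
  rw [← h2]
  exact Nat.card_congr E

end Groth.Agent.Lib.GalPts
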