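import Groth.Agent.Lib.GalPts.ClosedMass
import Groth.Agent.Lib.GalPts.UnipCount

/-!
# The mass of a subgroup of geometric points containing the identity component
-/

set_option autoImplicit false
universe u

open CategoryTheory CategoryTheory.Limits MonoidalCategory CartesianMonoidalCategory MonObj AlgebraicGeometry
open Groth.Agent.Lib.GrpSch Groth.Agent.Lib.GrpQ.MonoClosed

namespace Groth.Agent.Lib.GalPts

attribute [local instance] Functor.monObjObj Functor.grpObjObj

variable {k : Type u} [Field k] (kb : Type u) [Field kb] [Algebra k kb] [IsAlgClosed kb]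

/-- Morphisms to a finite scheme are constant on the points of a connected component. -/
theorem comp_eq_of_mem_idComp {B E : Over (Spec (CommRingCat.of kb))} [GrpObj B] [IsFinite E.hom] (m : B ⟶ E)
    (x : 𝟙_ (Over (Spec (CommRingCat.of kb))) ⟶ B) (hx : x ∈ H52.CompDiv.idComp B) :
    x ≫ m = η[B] ≫ m := by
  haveI : Finite E.left := by
    exact Set.finite_univ_iff.1 ((E.hom.finite_preimage_singleton
      (IsLocalRing.closedPoint kb : Spec (CommRingCat.of kb))).subset fun z _ =>
        (Subsingleton.elim (α := PrimeSpectrum kb) _ _ : E.hom z = _))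
  haveI : JacobsonSpace E.left := LocallyOfFiniteType.jacobsonSpace (Y := Spec (CommRingCat.of kb)) E.hom
  have hsub : (m.left '' connectedComponent (ptOf η[B])).Subsingleton :=
    ((isPreconnected_connectedComponent).image _ m.left.continuous.continuousOn).subsingleton
  refine Over.OverMorphism.ext (ext_of_apply_closedPoint_eq E.hom (Over.w (x ≫ m)) (Over.w (η[B] ≫ m)) ?_)
  exact hsub ⟨ptOf x, (H52.CompDiv.mem_idComp_iff x).2 hx, rfl⟩ ⟨_, mem_connectedComponent, rfl⟩

variable [Finite k] [Algebra.IsAlgebraic k kb]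

/-- **The mass of a subgroup containing the points of the identity component.** -/
theorem hasMass_of_idComp_le (F : Over (Spec (CommRingCat.of k))) [GrpObj F] [IsAffine F.left] [Smooth F.hom]
    (hS : Red.HasNoSubtorus kb (GalTw.bcK kb F)) (d : ℕ) (hd : topologicalKrullDim ↥F.left = (d : WithBot ℕ∞))
    (P : Subgroup (SGA7.Pts kb F))
    (hle : ∀ x : 𝟙_ (Over (Spec (CommRingCat.of kb))) ⟶ GalTw.bcK kb F,
      x ∈ H52.CompDiv.idComp (GalTw.bcK kb F) → geomPt kb x ∈ P)
    (b : SGA7.Pts kb F) (φ : P →* P) (hφb : Function.Bijective φ)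
    (hφ : ∀ x : P, (φ x : SGA7.Pts kb F) = b⁻¹ * (frob k kb • (x : SGA7.Pts kb F)) * b) :
    Mass.HasMass P (Mass.Tw φ) ((((Nat.card k : ℕ) : ℚ) ^ d))⁻¹ := by
  classical
  set B := GalTw.bcK kb F with hB
  haveI : Smooth B.hom := bc_hom_of _ F inferInstance
  haveI : LocallyOfFiniteType B.hom := inferInstance
  haveI : IsAffineHom B.hom := bc_hom_of _ F inferInstance
  haveI : IsAffine B.left := isAffine_of_isAffineHom B.hom
  haveI : QuasiCompact B.hom := inferInstance
  have hdimB : topologicalKrullDim ↥B.left = (d : WithBot ℕ∞) :=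
    (H56.DimBaseChange.topologicalKrullDim_baseChange (K := kb) (k := k) (SGA7.pt (K := k) kb).hom F.hom _ _
      (isPullback_bc (SGA7.pt (K := k) kb).hom F)).trans hd
  obtain ⟨R₀, _, r₀, hr₀, hr₀c, hr₀f, hrange, hr₀i, -⟩ := Groth.Agent.S7520.result kb B
  haveI := hr₀; haveI := hr₀c; haveI := hr₀f
  haveI : LocallyOfFiniteType R₀.hom := by rw [← Over.w r₀]; infer_instance
  haveI : IsLocallyNoetherian B.left := LocallyOfFiniteType.isLocallyNoetherian B.hom
  haveI : LocallyOfFinitePresentation r₀.left := inferInstance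
  haveI : IsOpenImmersion r₀.left := IsOpenImmersion.of_flat_of_mono r₀.left
  haveI : Smooth R₀.hom := by rw [← Over.w r₀]; infer_instance
  haveI : IsAffine R₀.left := isAffine_of_isAffineHom r₀.left
  have hconn : _root_.IsConnected (Set.range r₀.left) := hrange ▸ isConnected_connectedComponent
  haveI := Subtype.connectedSpace hconn
  haveI : ConnectedSpace R₀.left :=
    (r₀.left.isOpenEmbedding.isEmbedding.toHomeomorph).symm.surjective.connectedSpace
      (r₀.left.isOpenEmbedding.isEmbedding.toHomeomorph).symm.continuous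
  haveI : Mono r₀ := Over.mono_of_mono_left r₀
  have hno : Red.HasNoSubtorus kb R₀ := fun T _ j _ _ hT => hS T (j ≫ r₀) hT
  have hdim : topologicalKrullDim ↥R₀.left = (d : WithBot ℕ∞) := by
    have hcmp : connectedComponent (η[B].left (IsLocalRing.closedPoint kb)) ∈ irreducibleComponents ↥B.left := by
      refine ⟨(Groth.Agent.S0355.result kb B).1, fun Z hZ hle => ?_⟩
      exact hZ.isConnected.isPreconnected.subset_connectedComponent (hle mem_connectedComponent)
    rw [← hdimB, IsHomeomorph.topologicalKrullDim_eq _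
        (r₀.left.isOpenEmbedding.isEmbedding.toHomeomorph).isHomeomorph, hrange,
      ActSep.topologicalKrullDim_irreducibleComponent_eq B hcmp]
  let e : (𝟙_ (Over (Spec (CommRingCat.of kb))) ⟶ B) ≃* SGA7.Pts kb F :=
    MulEquiv.ofBijective (geomPt kb) (geomPt_bijective kb)
  have he : ∀ x, e x = geomPt kb x := fun _ => rfl
  let U : Subgroup (SGA7.Pts kb F) := (H52.CompDiv.idComp B).map e.toMonoidHom
  have hU : ∀ g, g ∈ U ↔ e.symm g ∈ H52.CompDiv.idComp B := fun g => by
    constructor
    · rintro ⟨x, hx, rfl⟩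
      change e.symm (e x) ∈ _
      rwa [e.symm_apply_apply]
    · exact fun h => ⟨e.symm g, h, e.apply_symm_apply g⟩
  have hUP : U ≤ P := by
    rintro _ ⟨x, hx, rfl⟩
    exact hle x hx
  have hstab : ∀ (Φ : F ⟶ F) (c c' : SGA7.Pts kb F), c * ((1 : SGA7.Pts kb F) ≫ Φ) * c' = 1 →
      ∀ g ∈ U, c * (g ≫ Φ) * c' ∈ U := fun Φ c c' h1 g hg => by
    obtain ⟨h, hcont, hh⟩ := exists_twist_map kb Φ c c'
    have hone : (η[B] : 𝟙_ (Over (Spec (CommRingCat.of kb))) ⟶ B) = 1 := by
      rw [Hom.one_def, toUnit_unique (toUnit _) (𝟙 _), Category.id_comp]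
    have h2 : h (ptOf η[B]) = ptOf η[B] := hh η[B] η[B] (by rw [hone, map_one, h1])
    have h3 := hcont.image_connectedComponent_subset (ptOf η[B])
    rw [h2] at h3
    rw [hU, ← H52.CompDiv.mem_idComp_iff]
    rw [hU, ← H52.CompDiv.mem_idComp_iff] at hg
    rw [← hh (e.symm g) (e.symm (c * (g ≫ Φ) * c')) (by
      rw [← he, ← he, e.apply_symm_apply, e.apply_symm_apply])]
    exact h3 ⟨_, hg, rfl⟩
  haveI hUn : U.Normal := ⟨fun g hg c => by
    simpa using hstab (𝟙 F) c c⁻¹ (by simp) g hg⟩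
  obtain ⟨ΦF, hΦF⟩ := exists_frobMor kb F
  haveI hfi : U.FiniteIndex := by
    haveI : CompactSpace B.left := QuasiCompact.compactSpace_of_compactSpace B.hom
    haveI : IsNoetherian B.left := { }
    haveI : Finite (irreducibleComponents B.left) :=
      TopologicalSpace.NoetherianSpace.finite_irreducibleComponents.to_subtype
    haveI : Finite (_root_.ConnectedComponents B.left) := by
      refine Finite.of_surjective
        (fun Z : irreducibleComponents B.left => _root_.ConnectedComponents.mk (Z.2.1.nonempty.some)) fun c => ?_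
      obtain ⟨x, rfl⟩ := _root_.ConnectedComponents.surjective_coe c
      refine ⟨⟨irreducibleComponent x, irreducibleComponent_mem_irreducibleComponents x⟩, ?_⟩
      exact _root_.ConnectedComponents.coe_eq_coe'.mpr
        (isIrreducible_irreducibleComponent.isConnected.isPreconnected.subset_connectedComponent
          mem_irreducibleComponent (Set.Nonempty.some_mem _))
    have key : ∀ x y : SGA7.Pts kb F,
        x⁻¹ * y ∈ U ↔ H52.CompDiv.comp B (e.symm x⁻¹) = H52.CompDiv.comp B (e.symm y⁻¹) := fun x y => by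
      rw [H52.CompDiv.comp_eq_iff, hU, map_mul, map_inv e.symm y, inv_inv]
    haveI : Finite (SGA7.Pts kb F ⧸ U) := Finite.of_injective
      (fun q : SGA7.Pts kb F ⧸ U => H52.CompDiv.comp B (e.symm (q.out)⁻¹)) fun q q' h => by
        rw [← Quotient.out_eq q, ← Quotient.out_eq q']
        exact QuotientGroup.eq.2 ((key _ _).2 h)
    exact Subgroup.finiteIndex_of_finite_quotient
  let U' : Subgroup P := U.subgroupOf P
  have hφU : ∀ g ∈ U', φ g ∈ U' := fun g hg => by
    change (φ g).1 ∈ U
    rw [hφ, hΦF]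
    exact hstab ΦF b⁻¹ b (by rw [← hΦF, smul_one, _root_.mul_one, inv_mul_cancel]) g.1 hg
  haveI : U'.Normal := inferInstance
  haveI : U'.FiniteIndex := inferInstance
  let ψ : P ⧸ U' →* P ⧸ U' := QuotientGroup.map U' U' φ fun g hg => hφU g hg
  have hker : (QuotientGroup.mk' U').ker = U' := QuotientGroup.ker_mk' U'
  rw [show (((Nat.card k : ℕ) : ℚ) ^ d)⁻¹ = (((Nat.card k : ℕ) : ℚ) ^ d)⁻¹ * 1 by rw [_root_.mul_one]]
  refine Mass.hasMass_extension (QuotientGroup.mk' U') (QuotientGroup.mk'_surjective U') φ ψ (fun g => rfl)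
    (fun c φc hφc => ?_) (Mass.hasMass_of_finite_group ψ)
  let eA : (QuotientGroup.mk' U').ker ≃* U :=
    (MulEquiv.subgroupCongr hker).trans (Subgroup.subgroupOfEquivOfLe hUP)
  have heA : ∀ a : (QuotientGroup.mk' U').ker, (eA a).1 = (a.1 : SGA7.Pts kb F) := fun a => rfl
  let φA : U →* U := eA.toMonoidHom.comp (φc.comp eA.symm.toMonoidHom)
  have hφA : ∀ a : U, (φA a : SGA7.Pts kb F) = (b * c.1)⁻¹ * (frob k kb • a.1) * (b * c.1) := fun a => by
    obtain ⟨a, rfl⟩ := eA.surjective a
    change (eA (φc (eA.symm (eA a)))).1 = _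
    rw [eA.symm_apply_apply, heA, heA, hφc, Subgroup.coe_mul, Subgroup.coe_mul, hφ, Subgroup.coe_inv]
    group
  have hφcs : Function.Surjective φc := fun a => by
    have ha : a.1 ∈ U' := (QuotientGroup.eq_one_iff _).1 a.2
    obtain ⟨v, hv, hve⟩ := surjOn_of_finiteIndex φ hφb U' hφU (c * a.1 * c⁻¹)
      ((inferInstance : U'.Normal).conj_mem _ ha c)
    refine ⟨⟨v, (QuotientGroup.eq_one_iff _).2 hv⟩, Subtype.ext ?_⟩
    rw [hφc, hve]
    group
  have hA : ∀ g, g ∈ U ↔ ∃ x : 𝟙_ (Over (Spec (CommRingCat.of kb))) ⟶ R₀, geomPt kb (x ≫ r₀) = g := fun g => by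
    constructor
    · rintro ⟨z, hz, rfl⟩
      have h2 : ptOf z ∈ Set.range r₀.left := hrange.symm ▸ (H52.CompDiv.mem_idComp_iff _).2 hz
      obtain ⟨y, hy₁, hy₂⟩ := exists_lift_point kb R₀.hom B.hom r₀.left (Over.w r₀) z.left (Over.w z) h2
      refine ⟨Over.homMk y hy₁, ?_⟩
      rw [show (Over.homMk y hy₁ : 𝟙_ (Over (Spec (CommRingCat.of kb))) ⟶ R₀) ≫ r₀ = z from
        Over.OverMorphism.ext hy₂]
      rfl
    · rintro ⟨x, rfl⟩
      refine ⟨x ≫ r₀, (H52.CompDiv.mem_idComp_iff _).1 ?_, rfl⟩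
      exact hrange ▸ ⟨ptOf x, rfl⟩
  exact (hasMass_of_unipotent kb F R₀ r₀ hno d hdim U hA (b * c.1) φA
    (fun a => by
      obtain ⟨x, hx⟩ := hφcs (eA.symm a)
      exact ⟨eA x, by change eA (φc (eA.symm (eA x))) = a; rw [eA.symm_apply_apply, hx, eA.apply_symm_apply]⟩)
    hφA).congr eA.symm ⟨fun a => Mass.Tw.mk φc (eA.symm a.val), fun a => Mass.Tw.mk φA (eA a.val),
      fun a => eA.apply_symm_apply _, fun a => eA.symm_apply_apply _⟩ fun g a => by
    change eA.symm (φA g * a.val * g⁻¹) = φc (eA.symm g) * eA.symm a.val * (eA.symm g)⁻¹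
    rw [map_mul, map_mul, map_inv]
    congr 2

end Groth.Agent.Lib.GalPts
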