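import Groth.Agent.Lib.GalPts.Fibre
import Groth.Prelude.Def_StkCnt

/-!
# Point count of `[X/G]` over a finite field
-/

set_option autoImplicit false
universe u

open CategoryTheory CategoryTheory.Limits MonoidalCategory CartesianMonoidalCategory MonObj AlgebraicGeometry
open AlgSt (QuotObj QuotSt)

namespace Groth.Agent.Lib.GalPts

theorem mem_range_of_pow_card {E L : Type u} [Field E] [Finite E] [Field L] (f : E →+* L) (a : L)
    (ha : a ^ Nat.card E = a) : a ∈ f.range := by
  letI := Fintype.ofFinite E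
  rw [Nat.card_eq_fintype_card] at ha
  have hroot : a ∈ ((Polynomial.X ^ Fintype.card E - Polynomial.X : Polynomial E).map f).roots := by
    rw [Polynomial.mem_roots']
    exact ⟨(Polynomial.map_ne_zero_iff f.injective).mpr
      (FiniteField.X_pow_card_sub_X_ne_zero E Fintype.one_lt_card), by simp [ha, sub_eq_zero]⟩
  have hsplit := Polynomial.roots_map_of_injective_of_card_eq_natDegree (f := f) f.injective
    (p := (Polynomial.X ^ Fintype.card E - Polynomial.X : Polynomial E)) (by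
      rw [FiniteField.roots_X_pow_card_sub_X, FiniteField.X_pow_card_sub_X_natDegree_eq _ Fintype.one_lt_card]
      rfl)
  rw [← hsplit, Multiset.mem_map] at hroot
  obtain ⟨w, -, hw⟩ := hroot
  exact ⟨w, hw⟩

variable {k : Type u} [Field k]

/-- A point fixed by the Frobenius of a finite field factors through it. -/
theorem exists_factor {E L : Type u} [Field E] [Algebra k E] [Finite E] [Field L] [Algebra k L] (f : E →ₐ[k] L)
    (σ : L ≃ₐ[k] L) (hσ : ∀ a, σ a = a ^ Nat.card E) {X : Over (Spec (CommRingCat.of k))} (x : SGA7.Pts L X)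
    (hx : SGA7.specAut σ ≫ x = x) : ∃ y : SGA7.Pts E X, ptMap f ≫ y = x := by
  let e := Scheme.SpecToEquivOfField L X.left
  have hψ : Spec.map (e x.left).2 ≫ X.left.fromSpecResidueField (e x.left).1 = x.left := e.symm_apply_apply x.left
  have hfix : (e x.left).2 ≫ CommRingCat.ofHom (σ : L →+* L) = (e x.left).2 := by
    have h1 : e.symm ⟨(e x.left).1, (e x.left).2 ≫ CommRingCat.ofHom (σ : L →+* L)⟩ =
        e.symm ⟨(e x.left).1, (e x.left).2⟩ := by
      change Spec.map ((e x.left).2 ≫ CommRingCat.ofHom (σ : L →+* L)) ≫ _ = Spec.map (e x.left).2 ≫ _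
      rw [Spec.map_comp, Category.assoc, hψ]
      exact congrArg (fun g : SGA7.pt (K := k) L ⟶ X => g.left) hx
    exact eq_of_heq (Sigma.mk.inj (e.symm.injective h1)).2
  have hrange : ∀ z, (e x.left).2.hom z ∈ f.toRingHom.range := fun z =>
    mem_range_of_pow_card f.toRingHom _ ((hσ _).symm.trans (congrArg (fun g => g.hom z) hfix))
  let ec := RingEquiv.ofBijective f.toRingHom.rangeRestrict
    ⟨fun u v h => f.toRingHom.injective (congrArg Subtype.val h), f.toRingHom.rangeRestrict_surjective⟩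
  let ψ₀ : X.left.residueField (e x.left).1 ⟶ CommRingCat.of E :=
    CommRingCat.ofHom (ec.symm.toRingHom.comp ((e x.left).2.hom.codRestrict _ hrange))
  have hψ₀ : ψ₀ ≫ CommRingCat.ofHom f.toRingHom = (e x.left).2 := by
    ext z
    exact congrArg Subtype.val (ec.apply_symm_apply ⟨(e x.left).2.hom z, hrange z⟩)
  have h2 : Spec.map (CommRingCat.ofHom f.toRingHom) ≫ Spec.map ψ₀ ≫
      X.left.fromSpecResidueField (e x.left).1 = x.left := by
    rw [← Spec.map_comp_assoc, hψ₀, hψ]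
  obtain ⟨θ, hθ⟩ := Spec.map_surjective ((Spec.map ψ₀ ≫ X.left.fromSpecResidueField (e x.left).1) ≫ X.hom)
  have hθ' : θ = CommRingCat.ofHom (algebraMap k E) := by
    have h3 : Spec.map (θ ≫ CommRingCat.ofHom f.toRingHom) = Spec.map (CommRingCat.ofHom (algebraMap k L)) := by
      rw [Spec.map_comp, hθ, ← Category.assoc, h2]
      exact Over.w x
    ext a
    exact f.toRingHom.injective ((congrArg (fun g => g.hom a) (Spec.map_injective h3)).trans (f.commutes a).symm)
  exact ⟨Over.homMk (Spec.map ψ₀ ≫ X.left.fromSpecResidueField (e x.left).1) (by rw [← hθ, hθ']; rfl),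
    Over.OverMorphism.ext h2⟩

variable [Finite k] (kb : Type u) [Field kb] [Algebra k kb] [Algebra.IsAlgebraic k kb]

/-- Rational points are the Frobenius-fixed points. -/
noncomputable def fixedEquiv (X : Over (Spec (CommRingCat.of k))) :
    SGA7.Pts k X ≃ {x : SGA7.Pts kb X // SGA7.specAut (frob k kb) ≫ x = x} :=
  Equiv.ofBijective (fun y => ⟨toPt _ ≫ y, frob_smul_rational y⟩)
    ⟨fun y y' h => rational_inj (congrArg Subtype.val h), fun x => by
      obtain ⟨y, hy⟩ := exists_factor (Algebra.ofId k kb) (frob k kb) frob_apply x.1 x.2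
      exact ⟨y, Subtype.ext ((congrArg (· ≫ y) (toPt_unique _ _)).trans hy)⟩⟩

variable [IsAlgClosed kb] [IsAlgClosure k kb] {G : Over (Spec (CommRingCat.of k))} [GrpObj G]
  [LocallyOfFiniteType G.hom] [QuasiCompact G.hom]

/-- Points fixed by a twisted Frobenius form a finite set. -/
theorem finite_twisted {X : Over (Spec (CommRingCat.of k))} [LocallyOfFiniteType X.hom] [QuasiCompact X.hom]
    (aX : AlgGrp.Action G X) (b : SGA7.Pts kb G) :
    Finite {x : SGA7.Pts kb X // SGA7.specAut (frob k kb) ≫ x = lift b x ≫ aX.act} := by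
  obtain ⟨H, hHf, hbH, hH⟩ := exists_stable_finite b⁻¹
  obtain ⟨z, hz⟩ := Cocycle.exists_cocycle (fun y : kb => frob_apply y) isOpen_fixer b⁻¹ H hHf hbH hH
  obtain ⟨E, hE, hsub⟩ := (krullTopology_mem_nhds_one_iff k kb _).1
    ((z.2.isOpen_fiber 1).mem_nhds (Cocycle.z_one z) : {τ | z.1 τ = 1} ∈ nhds (1 : kb ≃ₐ[k] kb))
  haveI := hE
  haveI : Finite E := Module.finite_of_finite k
  haveI := Fintype.ofFinite E
  haveI := finite_pts (L := ↥E) X
  let π : kb ≃ₐ[k] kb := frob k kb
  let d := Module.finrank k E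
  have hfix : π ^ d ∈ E.fixingSubgroup := by
    rw [IntermediateField.mem_fixingSubgroup_iff]
    intro y hy
    change (frob k kb ^ d) y = y
    have h := congrArg Subtype.val (FiniteField.pow_card (⟨y, hy⟩ : E))
    rw [← Nat.card_eq_fintype_card, Module.natCard_eq_pow_finrank (K := k), IntermediateField.coe_pow] at h
    rw [frob_pow_apply]
    exact h
  have hz1 : z.1 (π ^ d) = 1 := hsub hfix
  refine Finite.of_surjective (α := {y : SGA7.Pts E X //
      SGA7.specAut (frob k kb) ≫ ptMap E.val ≫ y = lift b (ptMap E.val ≫ y) ≫ aX.act})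
    (fun y => ⟨ptMap E.val ≫ y.1, y.2⟩) fun x => ?_
  have hj : ∀ j : ℕ, lift (z.1 (π ^ j)) (SGA7.specAut (π ^ j) ≫ x.1) ≫ aX.act = x.1 := by
    intro j
    induction j with
    | zero => rw [pow_zero, Cocycle.z_one, GalTw.specAut_one, Category.id_comp, QuotSt.Act.one_smul]
    | succ n ih =>
      rw [pow_succ, z.1.2, hz, QuotSt.Act.mul_smul, GalTw.pts_smul_def, GalTw.specAut_mul, Category.assoc,
        ← comp_lift_assoc, x.2, ← QuotSt.Act.mul_smul, inv_mul_cancel, QuotSt.Act.one_smul, ih]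
  have hx : SGA7.specAut (π ^ d) ≫ x.1 = x.1 := by
    have h := hj d
    rwa [hz1, QuotSt.Act.one_smul] at h
  obtain ⟨y, hy⟩ := exists_factor E.val (π ^ d) (fun a => by
    rw [frob_pow_apply, ← Module.natCard_eq_pow_finrank]) x.1 hx
  exact ⟨⟨y, by rw [hy]; exact x.2⟩, Subtype.ext hy⟩

/-- The twisted centraliser of a point. -/
def centralizer (b : SGA7.Pts kb G) : Subgroup (SGA7.Pts kb G) where
  carrier := {g | (frob k kb • g) * b = b * g}
  one_mem' := by
    change (frob k kb • (1 : SGA7.Pts kb G)) * b = b * 1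
    rw [smul_one, _root_.one_mul, _root_.mul_one]
  mul_mem' := fun {g h} hg hh => by
    change (frob k kb • (g * h)) * b = b * (g * h)
    rw [smul_mul', _root_.mul_assoc, show (frob k kb • h) * b = b * h from hh, ← _root_.mul_assoc,
      show (frob k kb • g) * b = b * g from hg, _root_.mul_assoc]
  inv_mem' := fun {g} hg => by
    change (frob k kb • g⁻¹) * b = b * g⁻¹
    rw [smul_inv', inv_mul_eq_iff_eq_mul, ← _root_.mul_assoc, eq_mul_inv_iff_mul_eq]
    exact (show (frob k kb • g) * b = b * g from hg).symm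

/-- Conjugation as an action. -/
noncomputable def conjAct : AlgGrp.Action G G where
  act := fst G G * snd G G * (fst G G)⁻¹
  one_act := by
    rw [MonObj.comp_mul, MonObj.comp_mul, GrpObj.comp_inv, whiskerRight_fst, whiskerRight_snd, leftUnitor_hom,
      show fst (𝟙_ _) G ≫ η[G] = 1 by rw [Hom.one_def, toUnit_unique (fst (𝟙_ _) G) (toUnit _)],
      _root_.one_mul, inv_one, _root_.mul_one]
  mul_act := by
    simp only [MonObj.comp_mul, GrpObj.comp_inv, whiskerRight_fst, whiskerRight_snd, whiskerLeft_fst,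
      whiskerLeft_snd, associator_hom_fst, Category.assoc]
    rw [show μ[G] = fst G G * snd G G by simp [Hom.mul_def]]
    simp only [MonObj.comp_mul, GrpObj.comp_inv, associator_hom_fst, associator_hom_snd_fst, associator_hom_snd_snd,
      _root_.mul_inv_rev, _root_.mul_assoc]

omit [Algebra.IsAlgebraic k kb] [IsAlgClosed kb] [IsAlgClosure k kb] [LocallyOfFiniteType G.hom] [QuasiCompact G.hom] [Finite k] in
theorem lift_conjAct {T : Over (Spec (CommRingCat.of k))} (g h : T ⟶ G) :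
    lift g h ≫ (conjAct (G := G)).act = g * h * g⁻¹ := by
  change lift g h ≫ (fst G G * snd G G * (fst G G)⁻¹) = _
  rw [MonObj.comp_mul, MonObj.comp_mul, GrpObj.comp_inv, lift_fst, lift_snd]

theorem finite_centralizer (b : SGA7.Pts kb G) : Finite (centralizer kb b) := by
  haveI := finite_twisted kb (conjAct (G := G)) b
  exact Finite.of_injective (fun g : centralizer kb b =>
    (⟨g.1, by
      rw [lift_conjAct]
      exact eq_mul_inv_of_mul_eq g.2⟩ : {x : SGA7.Pts kb G //
        SGA7.specAut (frob k kb) ≫ x = lift b x ≫ (conjAct (G := G)).act}))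
    fun g h e => Subtype.ext (congrArg (fun x : {x : SGA7.Pts kb G //
      SGA7.specAut (frob k kb) ≫ x = lift b x ≫ (conjAct (G := G)).act} => x.1) e)

/-- The mass of a groupoid decomposed into action groupoids. -/
theorem count_eq_sum_action {C : Type*} [Category C] (h : StkCnt.IsEssFinite C) {J : Type*} [Fintype J]
    (Γ V : J → Type*) [∀ j, Group (Γ j)] [∀ j, MulAction (Γ j) (V j)] [∀ j, Finite (Γ j)] [∀ j, Finite (V j)]
    (f : ∀ j, V j → C) (hiso : ∀ {c d : C} (m : c ⟶ d), IsIso m)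
    (hsurj : ∀ c, ∃ j v, Nonempty (c ≅ f j v))
    (hdis : ∀ j j' v w, (f j v ⟶ f j' w) → j = j')
    (hhom : ∀ j v w, Nonempty ((f j v ⟶ f j w) ≃ {g : Γ j // g • w = v})) :
    StkCnt.count C h = ∑ j, (Nat.card (V j) : ℚ) / (Nat.card (Γ j) : ℚ) := by
  classical
  haveI := h.finite_isoCl
  letI := Fintype.ofFinite (StkCnt.IsoCl C)
  letI := fun j => Fintype.ofFinite (V j)
  let π : (Σ j, V j) → StkCnt.IsoCl C := fun v => StkCnt.IsoCl.mk (f v.1 v.2)
  have hπ : Function.Surjective π := fun q => by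
    induction q using Quotient.inductionOn with
    | h c =>
      obtain ⟨j, v, ⟨e⟩⟩ := hsurj c
      exact ⟨⟨j, v⟩, Quotient.sound (⟨e.symm⟩ : IsIsomorphic (f j v) c)⟩
  rw [StkCnt.count_eq_sum h]
  have hsum : ∑ j, (Nat.card (V j) : ℚ) / (Nat.card (Γ j) : ℚ) =
      ∑ q, ∑ v ∈ Finset.univ.filter (fun v => π v = q), ((Nat.card (Γ v.1) : ℚ))⁻¹ := by
    rw [Finset.sum_fiberwise, Fintype.sum_sigma]
    exact Finset.sum_congr rfl fun j _ => by
      change _ = ∑ _y : V j, ((Nat.card (Γ j) : ℚ))⁻¹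
      rw [Finset.sum_const, Finset.card_univ, ← Nat.card_eq_fintype_card, nsmul_eq_mul, div_eq_mul_inv]
  rw [hsum]
  refine Finset.sum_congr rfl fun q _ => ?_
  obtain ⟨⟨j, v⟩, hv⟩ := hπ q
  have hfib : ∀ w, π w = q ↔ ∃ u ∈ MulAction.orbit (Γ j) v, w = ⟨j, u⟩ := by
    rintro ⟨i, w⟩
    rw [← hv]
    constructor
    · intro e
      obtain ⟨m⟩ := (Quotient.exact (s := isIsomorphicSetoid C) e : IsIsomorphic (f i w) (f j v))
      obtain rfl := hdis _ _ _ _ m.hom
      obtain ⟨e'⟩ := hhom i w v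
      exact ⟨w, ⟨(e' m.hom).1, (e' m.hom).2⟩, rfl⟩
    · rintro ⟨u, ⟨g, rfl⟩, he⟩
      rw [he]
      obtain ⟨e'⟩ := hhom j (g • v) v
      exact Quotient.sound (⟨@asIso _ _ _ _ (e'.symm ⟨g, rfl⟩) (hiso _)⟩ : IsIsomorphic (f j (g • v)) (f j v))
  have hfs : Finset.univ.filter (fun w => π w = q) =
      ((MulAction.orbit (Γ j) v).toFinset).map ⟨Sigma.mk j, sigma_mk_injective⟩ := by
    ext w
    simp only [Finset.mem_filter, Finset.mem_univ, true_and, hfib, Finset.mem_map, Set.mem_toFinset,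
      Function.Embedding.coeFn_mk]
    exact ⟨fun ⟨u, hu, e⟩ => ⟨u, hu, e.symm⟩, fun ⟨u, hu, e⟩ => ⟨u, hu, e.symm⟩⟩
  obtain ⟨e'⟩ := hhom j v v
  let eA : Aut (f j v) ≃ MulAction.stabilizer (Γ j) v :=
    (Equiv.ofBijective (fun e : Aut (f j v) => e.hom)
      ⟨fun _ _ e => Iso.ext e, fun m => ⟨@asIso _ _ _ _ m (hiso m), rfl⟩⟩).trans
      (e'.trans (Equiv.subtypeEquivRight fun g => MulAction.mem_stabilizer_iff.symm))
  rw [hfs, Finset.sum_map]
  simp only [Function.Embedding.coeFn_mk, Finset.sum_const, nsmul_eq_mul]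
  rw [← hv]
  change ((Nat.card (Aut (f j v)) : ℕ) : ℚ)⁻¹ = _
  have hne : Nat.card (MulAction.orbit (Γ j) v) ≠ 0 :=
    (Nat.card_pos_iff.2 ⟨⟨⟨v, MulAction.mem_orbit_self v⟩⟩, inferInstance⟩).ne'
  rw [Nat.card_congr eA, Set.toFinset_card, ← Nat.card_eq_fintype_card,
    show Nat.card (Γ j) = Nat.card (MulAction.orbit (Γ j) v) * Nat.card (MulAction.stabilizer (Γ j) v) from by
      rw [← Nat.card_prod]
      exact (Nat.card_congr (MulAction.orbitProdStabilizerEquivGroup (Γ j) v)).symm,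
    Nat.cast_mul, _root_.mul_inv_rev, mul_left_comm, mul_inv_cancel₀ (Nat.cast_ne_zero.2 hne), _root_.mul_one]

/-- The twisted fixed points as a set with an action of the twisted centraliser. -/
@[reducible] noncomputable def fixedAction {X : Over (Spec (CommRingCat.of k))} (aX : AlgGrp.Action G X)
    (b : SGA7.Pts kb G) :
    MulAction (centralizer kb b) {x : SGA7.Pts kb X // SGA7.specAut (frob k kb) ≫ x = lift b x ≫ aX.act} where
  smul g x := ⟨lift g.1 x.1 ≫ aX.act, by
    rw [comp_lift_assoc, x.2, ← QuotSt.Act.mul_smul, show (SGA7.specAut (frob k kb) ≫ g.1) * b = b * g.1 from g.2,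
      QuotSt.Act.mul_smul]⟩
  one_smul x := Subtype.ext (QuotSt.Act.one_smul aX x.1)
  mul_smul g h x := Subtype.ext (QuotSt.Act.mul_smul aX g.1 h.1 x.1)

/-- **Point count.** `#[X/G](k)` is the sum over the twisted classes `b` of
`#{x | π x = b x} / #{g | (π g) b = b g}`. -/
theorem count_quotSt [IsAffineHom G.hom] {X : Over (Spec (CommRingCat.of k))} [LocallyOfFiniteType X.hom]
    [QuasiCompact X.hom] (aX : AlgGrp.Action G X) {J : Type*} [Fintype J] (b : J → SGA7.Pts kb G)
    (hdis : ∀ j j' g, (SGA7.specAut (frob k kb) ≫ g) * b j' = b j * g → j = j')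
    (hall : ∀ a : SGA7.Pts kb G, ∃ j g, (SGA7.specAut (frob k kb) ≫ g) * a = b j * g)
    (h : StkCnt.IsEssFinite (StkCnt.pts (QuotSt Scheme.etalePrecoverage G aX) k)) :
    StkCnt.ptCount (QuotSt Scheme.etalePrecoverage G aX) k h =
      ∑ j, (Nat.card {x : SGA7.Pts kb X // SGA7.specAut (frob k kb) ≫ x = lift (b j) x ≫ aX.act} : ℚ) /
        (Nat.card {g : SGA7.Pts kb G // (SGA7.specAut (frob k kb) ≫ g) * b j = b j * g} : ℚ) := by
  letI := fun j => fixedAction kb aX (b j)
  haveI := fun j => finite_twisted kb aX (b j)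
  haveI := fun j => finite_centralizer kb (b j)
  choose A hA F hFb hFx using fun (j : J) (x : {x : SGA7.Pts kb X //
    SGA7.specAut (frob k kb) ≫ x = lift (b j) x ≫ aX.act}) => exists_framed (aX := aX) (b j) x.1 x.2
  refine count_eq_sum_action h (fun j => centralizer kb (b j))
    (fun j => {x : SGA7.Pts kb X // SGA7.specAut (frob k kb) ≫ x = lift (b j) x ≫ aX.act})
    (fun j x => ⟨A j x, hA j x⟩) (fun m => QuotSt.PointCount.isIso_fiber m) (fun c => ?_)
    (fun j j' x y m => ?_) (fun j x y => ?_)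
  · obtain ⟨Fc⟩ := exists_frame kb c.1 c.2
    obtain ⟨j, g, hg⟩ := hall Fc.b
    have hy : SGA7.specAut (frob k kb) ≫ lift g (Fc.p ≫ c.1.φ) ≫ aX.act =
        lift (b j) (lift g (Fc.p ≫ c.1.φ) ≫ aX.act) ≫ aX.act := by
      rw [comp_lift_assoc, Fc.x_rel, ← QuotSt.Act.mul_smul, hg, QuotSt.Act.mul_smul]
    obtain ⟨e⟩ := exists_homEquiv rfl c ⟨A j ⟨_, hy⟩, hA j ⟨_, hy⟩⟩ Fc (F j ⟨_, hy⟩)
    refine ⟨j, ⟨_, hy⟩, ⟨@asIso _ _ _ _ (e.symm ⟨g⁻¹, ?_, ?_⟩) (QuotSt.PointCount.isIso_fiber _)⟩⟩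
    · rw [hFb, GrpObj.comp_inv, inv_mul_eq_iff_eq_mul, ← _root_.mul_assoc, eq_mul_inv_iff_mul_eq, hg]
    · rw [hFx, ← QuotSt.Act.mul_smul, inv_mul_cancel, QuotSt.Act.one_smul]
  · obtain ⟨e⟩ := exists_homEquiv rfl ⟨A j x, hA j x⟩ ⟨A j' y, hA j' y⟩ (F j x) (F j' y)
    exact hdis j j' (e m).1 ((congrArg₂ (fun u v => (SGA7.specAut (frob k kb) ≫ (e m).1) * u = v * (e m).1)
      (hFb j' y) (hFb j x)).mp (e m).2.1)
  · obtain ⟨e⟩ := exists_homEquiv rfl ⟨A j x, hA j x⟩ ⟨A j y, hA j y⟩ (F j x) (F j y)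
    exact ⟨e.trans
      { toFun := fun g => ⟨⟨g.1, (congrArg₂ (fun u v => (SGA7.specAut (frob k kb) ≫ g.1) * u = v * g.1)
            (hFb j y) (hFb j x)).mp g.2.1⟩,
          Subtype.ext ((congrArg₂ (fun u v => lift g.1 u ≫ aX.act = v) (hFx j y) (hFx j x)).mp g.2.2)⟩
        invFun := fun g => ⟨g.1.1, (congrArg₂ (fun u v => (SGA7.specAut (frob k kb) ≫ g.1.1) * u = v * g.1.1)
            (hFb j y) (hFb j x)).mpr g.1.2,
          (congrArg₂ (fun u v => lift g.1.1 u ≫ aX.act = v) (hFx j y) (hFx j x)).mpr (congrArg Subtype.val g.2)⟩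
        left_inv := fun g => rfl
        right_inv := fun g => rfl }⟩

end Groth.Agent.Lib.GalPts
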