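import Groth.Agent.Lib.GalPts.Basic
import Groth.Agent.Lib.GalDescent.SplitCover

/-!
# Galois descent of morphisms out of `T ⊗ Spec E`
-/

set_option autoImplicit false
universe u

open CategoryTheory CategoryTheory.Limits MonoidalCategory CartesianMonoidalCategory MonObj AlgebraicGeometry

namespace Groth.Agent.Lib.GalPts

variable {k : Type u} [Field k]

/-- The map to `Spec k`. -/
noncomputable def toPt (Y : Over (Spec (CommRingCat.of k))) : Y ⟶ SGA7.pt (K := k) k :=
  Over.homMk Y.hom (by
    change Y.hom ≫ Spec.map (CommRingCat.ofHom (algebraMap k k)) = Y.hom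
    rw [show CommRingCat.ofHom (algebraMap k k) = 𝟙 (CommRingCat.of k) from rfl, Spec.map_id]
    exact Category.comp_id _)

theorem pt_self_hom : (SGA7.pt (K := k) k).hom = 𝟙 _ := by
  change Spec.map (CommRingCat.ofHom (algebraMap k k)) = _
  rw [show CommRingCat.ofHom (algebraMap k k) = 𝟙 (CommRingCat.of k) from rfl, Spec.map_id]
  rfl

theorem toPt_unique {Y : Over (Spec (CommRingCat.of k))} (f g : Y ⟶ SGA7.pt (K := k) k) : f = g := by
  apply Over.OverMorphism.ext
  have hf := Over.w f
  have hg := Over.w g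
  rw [pt_self_hom] at hf hg
  exact ((Category.comp_id f.left).symm.trans hf).trans (hg.symm.trans (Category.comp_id g.left))

variable (E : Type u) [Field E] [Algebra k E]

theorem whisker_specAut_left (σ : E ≃ₐ[k] E) (T : Over (Spec (CommRingCat.of k))) :
    (T ◁ SGA7.specAut σ).left = GalTw.galMap E σ T := by
  apply pullback.hom_ext
  · rw [GalTw.galMap_fst]
    exact congrArg CommaMorphism.left (CartesianMonoidalCategory.whiskerLeft_fst T (SGA7.specAut σ))
  · rw [GalTw.galMap_snd]
    exact congrArg CommaMorphism.left (CartesianMonoidalCategory.whiskerLeft_snd T (SGA7.specAut σ))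

variable [FiniteDimensional k E] [IsGalois k E]

omit [FiniteDimensional k E] [IsGalois k E] in
theorem fst_cancel {T Z : Over (Spec (CommRingCat.of k))} {f g : T ⟶ Z}
    (h : fst T (SGA7.pt (K := k) E) ≫ f = fst T (SGA7.pt (K := k) E) ≫ g) : f = g :=
  Over.OverMorphism.ext (GalDescent.SplitCover.hom_ext E T (congrArg CommaMorphism.left h))

/-- Galois descent. -/
theorem exists_desc {T Z : Over (Spec (CommRingCat.of k))} (f : T ⊗ SGA7.pt (K := k) E ⟶ Z)
    (h : ∀ σ : E ≃ₐ[k] E, (T ◁ SGA7.specAut σ) ≫ f = f) :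
    ∃ f₀ : T ⟶ Z, fst T (SGA7.pt (K := k) E) ≫ f₀ = f := by
  obtain ⟨g, hg⟩ := GalDescent.SplitCover.exists_desc E T f.left fun σ => by
    rw [← whisker_specAut_left]
    exact congrArg CommaMorphism.left (h σ)
  refine ⟨Over.homMk g (GalDescent.SplitCover.hom_ext E T ?_), Over.OverMorphism.ext hg⟩
  rw [← Category.assoc]
  exact (congrArg (· ≫ Z.hom) hg).trans ((Over.w f).trans (Over.w (fst T (SGA7.pt (K := k) E))).symm)

theorem invariant_of_frob [Finite k] {T Z : Over (Spec (CommRingCat.of k))} (f : T ⊗ SGA7.pt (K := k) E ⟶ Z)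
    (h : (T ◁ SGA7.specAut (frob k E)) ≫ f = f) (σ : E ≃ₐ[k] E) : (T ◁ SGA7.specAut σ) ≫ f = f := by
  obtain ⟨j, rfl⟩ := exists_eq_frob_pow σ
  induction j with
  | zero => rw [pow_zero, GalTw.specAut_one, MonoidalCategory.whiskerLeft_id, Category.id_comp]
  | succ n ih => rw [pow_succ, GalTw.specAut_mul, MonoidalCategory.whiskerLeft_comp, Category.assoc, h, ih]

theorem exists_desc_of_frob [Finite k] {T Z : Over (Spec (CommRingCat.of k))} (f : T ⊗ SGA7.pt (K := k) E ⟶ Z)
    (h : (T ◁ SGA7.specAut (frob k E)) ≫ f = f) :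
    ∃ f₀ : T ⟶ Z, fst T (SGA7.pt (K := k) E) ≫ f₀ = f :=
  exists_desc E f (invariant_of_frob E f h)

section Rational

variable [Finite k] {L : Type u} [Field L] [Algebra k L] [Algebra.IsAlgebraic k L]

/-- Frobenius-invariant points are rational. -/
theorem exists_rational {X : Over (Spec (CommRingCat.of k))} [LocallyOfFiniteType X.hom] (x : SGA7.Pts L X)
    (hx : frob k L • x = x) : ∃ y : SGA7.Pts k X, toPt _ ≫ y = x := by
  obtain ⟨E, hE, y, rfl⟩ := exists_finite_level x
  haveI : Finite E := Module.finite_of_finite k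
  have hy : SGA7.specAut (frob k E) ≫ y = y := ptMap_inj E.val ((frob_smul_ptMap E.val y).symm.trans hx)
  obtain ⟨y₀, hy₀⟩ := exists_desc_of_frob E (snd (SGA7.pt (K := k) k) (SGA7.pt (K := k) E) ≫ y)
    (by rw [CartesianMonoidalCategory.whiskerLeft_snd_assoc, hy])
  refine ⟨y₀, ?_⟩
  have h := congrArg (lift (toPt (SGA7.pt (K := k) E)) (𝟙 _) ≫ ·) hy₀
  simp only [lift_fst_assoc, lift_snd_assoc, Category.id_comp] at h
  rw [← h, ← Category.assoc]
  exact congrArg (· ≫ y₀) (toPt_unique _ _)

theorem frob_smul_rational {X : Over (Spec (CommRingCat.of k))} (y : SGA7.Pts k X) :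
    frob k L • (toPt _ ≫ y : SGA7.Pts L X) = toPt _ ≫ y := by
  rw [GalTw.pts_smul_def, ← Category.assoc]
  exact congrArg (· ≫ y) (toPt_unique _ _)

omit [Finite k] [Algebra.IsAlgebraic k L] in
theorem rational_inj {X : Over (Spec (CommRingCat.of k))} {y y' : SGA7.Pts k X}
    (h : toPt (SGA7.pt (K := k) L) ≫ y = toPt _ ≫ y') : y = y' := by
  have e : toPt (SGA7.pt (K := k) L) = ptMap (Algebra.ofId k L) := toPt_unique _ _
  rw [e] at h
  exact ptMap_inj _ h

/-- Rational points are the Frobenius-fixed points. -/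
noncomputable def rationalEquiv (X : Over (Spec (CommRingCat.of k))) [LocallyOfFiniteType X.hom] :
    SGA7.Pts k X ≃ {x : SGA7.Pts L X // frob k L • x = x} :=
  Equiv.ofBijective (fun y => ⟨toPt _ ≫ y, frob_smul_rational y⟩)
    ⟨fun y y' h => rational_inj (congrArg Subtype.val h),
      fun x => by
        obtain ⟨y, hy⟩ := exists_rational x.1 x.2
        exact ⟨y, Subtype.ext hy⟩⟩

end Rational

end Groth.Agent.Lib.GalPts
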