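import Groth.Agent.Lib.GalPts.Torsor
import Groth.Agent.Lib.GalPts.Cocycle
import Groth.Agent.Lib.GrpSch.SmoothReduced
import Groth.Agent.Lib.QuotSt.PointCount

/-!
# The groupoid of rational points of `[X/G]` over a finite field
-/

set_option autoImplicit false
universe u

open CategoryTheory CategoryTheory.Limits MonoidalCategory CartesianMonoidalCategory MonObj AlgebraicGeometry
open AlgSt (QuotObj QuotSt)

namespace Groth.Agent.Lib.GalPts

variable {k : Type u} [Field k] {G : Over (Spec (CommRingCat.of k))} [GrpObj G]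
  {X : Over (Spec (CommRingCat.of k))} {aX : AlgGrp.Action G X}

theorem base_subsingleton {A : QuotObj Scheme.etalePrecoverage G aX} (hb : A.base = SGA7.pt (K := k) k)
    {W : Over (Spec (CommRingCat.of k))} (f g : W ⟶ A.base) : f = g := by
  rw [← cancel_mono (eqToHom hb)]
  exact toPt_unique _ _

theorem existsUnique_div {A : QuotObj Scheme.etalePrecoverage G aX} (hb : A.base = SGA7.pt (K := k) k)
    {W : Over (Spec (CommRingCat.of k))} (q q' : W ⟶ A.P) :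
    ∃! g : W ⟶ G, lift g q' ≫ A.act.act = q := by
  have w : q ≫ A.π = q' ≫ A.π := base_subsingleton hb _ _
  refine ⟨A.cart.lift q q' w ≫ fst G A.P, ?_, fun g hg => ?_⟩
  · have e : lift (A.cart.lift q q' w ≫ fst G A.P) q' = A.cart.lift q q' w := by
      apply CartesianMonoidalCategory.hom_ext
      · rw [lift_fst]
      · rw [lift_snd, A.cart.lift_snd]
    change lift _ q' ≫ A.act.act = q
    rw [e, A.cart.lift_fst]
  · have e : lift g q' = A.cart.lift q q' w :=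
      A.cart.hom_ext (hg.trans (A.cart.lift_fst _ _ _).symm) ((lift_snd _ _).trans (A.cart.lift_snd _ _ _).symm)
    rw [← e, lift_fst]

theorem div_cancel {A : QuotObj Scheme.etalePrecoverage G aX} (hb : A.base = SGA7.pt (K := k) k)
    {W : Over (Spec (CommRingCat.of k))} {g g' : W ⟶ G} {q : W ⟶ A.P}
    (h : lift g q ≫ A.act.act = lift g' q ≫ A.act.act) : g = g' :=
  (existsUnique_div hb (lift g' q ≫ A.act.act) q).unique h rfl

section Level

variable [Finite k] (E : Type u) [Field E] [Algebra k E] [FiniteDimensional k E]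

/-- Equivariant maps out of a torsor are determined by, and given by, the image of a point. -/
theorem existsUnique_extend {A : QuotObj Scheme.etalePrecoverage G aX} (hb : A.base = SGA7.pt (K := k) k)
    (p : SGA7.Pts E A.P) (b : SGA7.Pts E G) (hp : SGA7.specAut (frob k E) ≫ p = lift b p ≫ A.act.act)
    {Z : Over (Spec (CommRingCat.of k))} (aZ : AlgGrp.Action G Z) (z : SGA7.Pts E Z)
    (hz : SGA7.specAut (frob k E) ≫ z = lift b z ≫ aZ.act) :
    ∃! f : A.P ⟶ Z, A.act.act ≫ f = (G ◁ f) ≫ aZ.act ∧ p ≫ f = z := by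
  haveI : Finite E := Module.finite_of_finite k
  let W := A.P ⊗ SGA7.pt (K := k) E
  obtain ⟨d, hd, -⟩ := existsUnique_div hb (fst A.P (SGA7.pt (K := k) E)) (snd A.P (SGA7.pt (K := k) E) ≫ p)
  have hds : (A.P ◁ SGA7.specAut (frob k E)) ≫ d = d * (snd _ _ ≫ b)⁻¹ := by
    refine div_cancel hb (q := (A.P ◁ SGA7.specAut (frob k E)) ≫ snd _ _ ≫ p) ?_
    rw [← comp_lift_assoc, hd, whiskerLeft_fst, whiskerLeft_snd_assoc, hp, comp_lift_assoc,
      ← QuotSt.Act.mul_smul, inv_mul_cancel_right, hd]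
  obtain ⟨f, hf⟩ := exists_desc_of_frob E (lift d (snd A.P (SGA7.pt (K := k) E) ≫ z) ≫ aZ.act) (by
    rw [comp_lift_assoc, hds, whiskerLeft_snd_assoc, hz, comp_lift_assoc, ← QuotSt.Act.mul_smul,
      inv_mul_cancel_right])
  have hdu : ∀ {W' : Over (Spec (CommRingCat.of k))} (h : W' ⟶ A.P ⊗ SGA7.pt (K := k) E) (g : W' ⟶ G),
      h ≫ fst _ _ = lift g (h ≫ snd _ _ ≫ p) ≫ A.act.act → h ≫ d = g := fun h g hh => by
    refine div_cancel hb (q := h ≫ snd _ _ ≫ p) ?_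
    rw [← hh, ← comp_lift_assoc, hd]
  refine ⟨f, ⟨?_, ?_⟩, fun f' hf' => ?_⟩
  · refine fst_cancel E ?_
    have h1 := congrArg ((A.act.act ▷ SGA7.pt (K := k) E) ≫ ·) hf
    simp only [whiskerRight_fst_assoc, comp_lift_assoc, whiskerRight_snd_assoc] at h1
    have h2 := congrArg ((snd G A.P ▷ SGA7.pt (K := k) E) ≫ ·) hf
    simp only [whiskerRight_fst_assoc, comp_lift_assoc, whiskerRight_snd_assoc] at h2
    rw [h1, show (G ◁ f) = lift (fst G A.P) (snd G A.P ≫ f) from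
      CartesianMonoidalCategory.hom_ext _ _ (by simp) (by simp), comp_lift_assoc, h2, ← QuotSt.Act.mul_smul]
    congr 2
    refine hdu _ _ ?_
    rw [whiskerRight_fst, QuotSt.Act.mul_smul, whiskerRight_snd_assoc]
    have h3 := congrArg ((snd G A.P ▷ SGA7.pt (K := k) E) ≫ ·) hd
    simp only [whiskerRight_fst, comp_lift_assoc, whiskerRight_snd_assoc] at h3
    rw [h3, ← comp_lift_assoc, lift_fst_snd, Category.id_comp]
  · have h1 := congrArg (lift p (𝟙 _) ≫ ·) hf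
    simp only [lift_fst_assoc, comp_lift_assoc, lift_snd_assoc, Category.id_comp] at h1
    rw [h1, hdu (lift p (𝟙 _)) 1 (by
      rw [lift_fst, lift_snd_assoc, Category.id_comp, QuotSt.Act.one_smul]), QuotSt.Act.one_smul]
  · refine fst_cancel E ?_
    rw [hf]
    conv_lhs => rw [← hd]
    rw [Category.assoc, hf'.1, lift_whiskerLeft_assoc, Category.assoc, hf'.2]

end Level

variable (kb : Type u) [Field kb] [Algebra k kb]

/-- A point coming from a finite subextension. -/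
def AtLevel {Z : Over (Spec (CommRingCat.of k))} (E : IntermediateField k kb) (z : SGA7.Pts kb Z) : Prop :=
  ∃ y : SGA7.Pts E Z, ptMap E.val ≫ y = z

theorem AtLevel.mono {Z : Over (Spec (CommRingCat.of k))} {E E' : IntermediateField k kb} {z : SGA7.Pts kb Z}
    (h : AtLevel kb E z) (hle : E ≤ E') : AtLevel kb E' z := by
  obtain ⟨y, rfl⟩ := h
  exact exists_level_mono hle y

variable [IsAlgClosed kb] [Algebra.IsAlgebraic k kb]

/-- The torsor of an object over `Spec k` has a point over a finite extension. -/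
theorem exists_point (A : QuotObj Scheme.etalePrecoverage G aX) (hb : A.base = SGA7.pt (K := k) k) :
    ∃ (E : IntermediateField k kb) (_ : FiniteDimensional k E) (p : SGA7.Pts kb A.P), AtLevel kb E p := by
  obtain ⟨R, hR, hs⟩ := A.loc
  obtain ⟨I, Y, f, rfl⟩ := R.exists_eq_ofArrows
  obtain ⟨hc, he⟩ := (Scheme.ofArrows_mem_precoverage_iff _).1 hR
  obtain ⟨i, y, -⟩ := hc (eqToHom (congrArg (fun B => B.left) hb.symm) (IsLocalRing.closedPoint k))
  have : Etale (f i) := he i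
  have : IsIso A.base.hom := by
    rw [show A.base.hom = eqToHom (congrArg (fun B => B.left) hb) ≫ (SGA7.pt (K := k) k).hom from by
      have h := Over.w (eqToHom hb); rw [Over.eqToHom_left] at h; exact h.symm, pt_self_hom]
    infer_instance
  let Z : Over (Spec (CommRingCat.of k)) := Over.mk (f i ≫ A.base.hom)
  have : LocallyOfFiniteType Z.hom := inferInstanceAs (LocallyOfFiniteType (f i ≫ A.base.hom))
  let b : Spec (CommRingCat.of kb) ⟶ Spec (CommRingCat.of k) := (SGA7.pt (K := k) kb).hom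
  have hsurj : Surjective b :=
    ⟨fun z => ⟨IsLocalRing.closedPoint kb, Subsingleton.elim (α := Spec (CommRingCat.of k)) _ _⟩⟩
  have : Surjective (pullback.fst Z.hom b) :=
    MorphismProperty.of_isPullback (P := @Surjective) (IsPullback.of_hasPullback Z.hom b).flip hsurj
  have : Nonempty ↥(pullback Z.hom b) := ⟨(this.surj y).choose⟩
  have : JacobsonSpace ↥(pullback Z.hom b) := LocallyOfFiniteType.jacobsonSpace (pullback.snd Z.hom b)
  obtain ⟨c, -, hcl⟩ := nonempty_inter_closedPoints (X := ↥(pullback Z.hom b)) Set.univ_nonempty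
    isClosed_univ.isLocallyClosed
  let z : SGA7.Pts kb Z := Over.homMk (pointOfClosedPoint (pullback.snd Z.hom b) c hcl ≫ pullback.fst Z.hom b) (by
    rw [Category.assoc, pullback.condition, ← Category.assoc, pointOfClosedPoint_comp]
    exact Category.id_comp _)
  obtain ⟨E, hE, zE, -⟩ := exists_finite_level z
  obtain ⟨s, hs'⟩ := hs (f i) ⟨i⟩
  let sO : Z ⟶ A.P := Over.homMk s (by
    change s ≫ A.P.hom = f i ≫ A.base.hom
    rw [← hs', ← Over.w A.π, Category.assoc]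
    rfl)
  exact ⟨E, hE, ptMap E.val ≫ zE ≫ sO, zE ≫ sO, rfl⟩

variable [Finite k]

/-- A chosen frame of an object: a point defined over a finite extension and the Frobenius value. -/
structure Frame (A : QuotObj Scheme.etalePrecoverage G aX) where
  E : IntermediateField k kb
  fd : FiniteDimensional k E
  p : SGA7.Pts kb A.P
  level : AtLevel kb E p
  b : SGA7.Pts kb G
  hp : SGA7.specAut (frob k kb) ≫ p = lift b p ≫ A.act.act

theorem exists_frame (A : QuotObj Scheme.etalePrecoverage G aX) (hb : A.base = SGA7.pt (K := k) k) :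
    Nonempty (Frame kb A) := by
  obtain ⟨E, hE, p, hp⟩ := exists_point kb A hb
  obtain ⟨b, hb', -⟩ := existsUnique_div hb (SGA7.specAut (frob k kb) ≫ p) p
  exact ⟨⟨E, hE, p, hp, b, hb'.symm⟩⟩

variable {kb}

theorem Frame.x_rel {A : QuotObj Scheme.etalePrecoverage G aX} (F : Frame kb A) :
    SGA7.specAut (frob k kb) ≫ F.p ≫ A.φ = lift F.b (F.p ≫ A.φ) ≫ aX.act := by
  rw [reassoc_of% F.hp, A.eqv, lift_whiskerLeft_assoc]

/-- Morphisms between framed objects. -/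
theorem exists_homEquiv [LocallyOfFiniteType G.hom] {T : Over (Spec (CommRingCat.of k))}
    (hT : T = SGA7.pt (K := k) k) (c d : (QuotSt Scheme.etalePrecoverage G aX).p.Fiber T)
    (Fc : Frame kb c.1) (Fd : Frame kb d.1) :
    Nonempty ((c ⟶ d) ≃ {g : SGA7.Pts kb G //
      (SGA7.specAut (frob k kb) ≫ g) * Fd.b = Fc.b * g ∧ lift g (Fd.p ≫ d.1.φ) ≫ aX.act = Fc.p ≫ c.1.φ}) := by
  have hbc : c.1.base = SGA7.pt (K := k) k := c.2.trans hT
  have hbd : d.1.base = SGA7.pt (K := k) k := d.2.trans hT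
  have hg : ∀ m : c ⟶ d, ∃ g : SGA7.Pts kb G,
      ((SGA7.specAut (frob k kb) ≫ g) * Fd.b = Fc.b * g ∧ lift g (Fd.p ≫ d.1.φ) ≫ aX.act = Fc.p ≫ c.1.φ) ∧
        lift g Fd.p ≫ d.1.act.act = Fc.p ≫ m.1.top := fun m => by
    obtain ⟨g, hg, -⟩ := existsUnique_div hbd (Fc.p ≫ m.1.top) Fd.p
    refine ⟨g, ⟨div_cancel hbd (q := Fd.p) ?_, ?_⟩, hg⟩
    · rw [QuotSt.Act.mul_smul, ← Fd.hp, ← comp_lift_assoc, hg, reassoc_of% Fc.hp, m.1.eqv,
        lift_whiskerLeft_assoc, QuotSt.Act.mul_smul, hg]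
    · rw [← lift_whiskerLeft_assoc, ← d.1.eqv, reassoc_of% hg, m.1.wφ]
  choose f hf hf' using hg
  refine ⟨Equiv.ofBijective (fun m => ⟨f m, hf m⟩) ⟨fun m m' h => ?_, fun g => ?_⟩⟩
  · have h1 : Fc.p ≫ m.1.top = Fc.p ≫ m'.1.top := by
      exact (hf' m).symm.trans ((congrArg (fun g => lift g Fd.p ≫ d.1.act.act) (congrArg Subtype.val h)).trans (hf' m'))
    haveI := Fc.fd
    obtain ⟨p₀, hp₀⟩ := Fc.level
    obtain ⟨b₀, hb₀, -⟩ := existsUnique_div hbc (SGA7.specAut (frob k Fc.E) ≫ p₀) p₀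
    refine Functor.Fiber.hom_ext (AlgSt.QuotObj.hom_ext (base_subsingleton hbd _ _) ?_)
    have h2 : p₀ ≫ m.1.top = p₀ ≫ m'.1.top := ptMap_inj Fc.E.val (by rwa [← Category.assoc, ← Category.assoc, hp₀])
    exact (existsUnique_extend Fc.E hbc p₀ b₀ hb₀.symm d.1.act (p₀ ≫ m.1.top) (by
      rw [← Category.assoc, ← hb₀, Category.assoc, m.1.eqv, lift_whiskerLeft_assoc])).unique
      ⟨m.1.eqv, rfl⟩ ⟨m'.1.eqv, h2.symm⟩
  · haveI := Fc.fd
    haveI := Fd.fd
    obtain ⟨Eg, hEg, hgl⟩ : ∃ E, FiniteDimensional k (E : IntermediateField k kb) ∧ AtLevel kb E g.1 :=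
      exists_finite_level g.1
    haveI := hEg
    obtain ⟨L, hL⟩ : ∃ L, L = Fc.E ⊔ (Fd.E ⊔ Eg) := ⟨_, rfl⟩
    haveI : FiniteDimensional k L := by rw [hL]; infer_instance
    obtain ⟨p₁, hp₁⟩ := Fc.level.mono kb (hL ▸ le_sup_left : Fc.E ≤ L)
    obtain ⟨p₂, hp₂⟩ := Fd.level.mono kb (hL ▸ (le_sup_left : Fd.E ≤ Fd.E ⊔ Eg).trans le_sup_right : Fd.E ≤ L)
    obtain ⟨g₁, hg₁⟩ := hgl.mono kb (hL ▸ (le_sup_right : Eg ≤ Fd.E ⊔ Eg).trans le_sup_right : Eg ≤ L)
    let π := SGA7.specAut (K := k) (frob k L)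
    have hfr : ∀ {Z : Over (Spec (CommRingCat.of k))} (y : SGA7.Pts L Z),
        SGA7.specAut (frob k kb) ≫ ptMap L.val ≫ y = ptMap L.val ≫ π ≫ y := fun y => frob_smul_ptMap L.val y
    obtain ⟨b₁, hb₁, -⟩ := existsUnique_div hbc (π ≫ p₁) p₁
    obtain ⟨b₂, hb₂, -⟩ := existsUnique_div hbd (π ≫ p₂) p₂
    have eb₁ : ptMap L.val ≫ b₁ = Fc.b := div_cancel hbc (q := Fc.p) (by
      rw [← Fc.hp, ← hp₁, ← comp_lift_assoc, hb₁, hfr])
    have eb₂ : ptMap L.val ≫ b₂ = Fd.b := div_cancel hbd (q := Fd.p) (by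
      rw [← Fd.hp, ← hp₂, ← comp_lift_assoc, hb₂, hfr])
    have hr : (π ≫ g₁) * b₂ = b₁ * g₁ := ptMap_inj L.val (by
      rw [MonObj.comp_mul, MonObj.comp_mul, eb₁, eb₂, ← hfr, hg₁, g.2.1])
    have hz : π ≫ lift g₁ p₂ ≫ d.1.act.act = lift b₁ (lift g₁ p₂ ≫ d.1.act.act) ≫ d.1.act.act := by
      rw [comp_lift_assoc, ← hb₂, ← QuotSt.Act.mul_smul, hr, QuotSt.Act.mul_smul]
    obtain ⟨t, ⟨ht₁, ht₂⟩, -⟩ := existsUnique_extend L hbc p₁ b₁ hb₁.symm d.1.act _ hz
    have hr' : (π ≫ g₁⁻¹) * b₁ = b₂ * g₁⁻¹ := by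
      rw [GrpObj.comp_inv, inv_mul_eq_iff_eq_mul, ← _root_.mul_assoc, eq_mul_inv_iff_mul_eq, hr]
    have hz' : π ≫ lift g₁⁻¹ p₁ ≫ c.1.act.act = lift b₂ (lift g₁⁻¹ p₁ ≫ c.1.act.act) ≫ c.1.act.act := by
      rw [comp_lift_assoc, ← hb₁, ← QuotSt.Act.mul_smul, hr', QuotSt.Act.mul_smul]
    obtain ⟨t', ⟨ht₁', ht₂'⟩, -⟩ := existsUnique_extend L hbd p₂ b₂ hb₂.symm c.1.act _ hz'
    have hinv : t ≫ t' = 𝟙 _ :=
      (existsUnique_extend L hbc p₁ b₁ hb₁.symm c.1.act p₁ hb₁.symm).unique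
        ⟨by rw [reassoc_of% ht₁, ht₁', MonoidalCategory.whiskerLeft_comp, Category.assoc],
          by rw [reassoc_of% ht₂, ht₁', lift_whiskerLeft_assoc, ht₂', ← QuotSt.Act.mul_smul, mul_inv_cancel,
            QuotSt.Act.one_smul]⟩
        ⟨by rw [Category.comp_id, MonoidalCategory.whiskerLeft_id, Category.id_comp], Category.comp_id _⟩
    have hinv' : t' ≫ t = 𝟙 _ :=
      (existsUnique_extend L hbd p₂ b₂ hb₂.symm d.1.act p₂ hb₂.symm).unique
        ⟨by rw [reassoc_of% ht₁', ht₁, MonoidalCategory.whiskerLeft_comp, Category.assoc],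
          by rw [reassoc_of% ht₂', ht₁, lift_whiskerLeft_assoc, ht₂, ← QuotSt.Act.mul_smul, inv_mul_cancel,
            QuotSt.Act.one_smul]⟩
        ⟨by rw [Category.comp_id, MonoidalCategory.whiskerLeft_id, Category.id_comp], Category.comp_id _⟩
    haveI : IsIso t := ⟨t', hinv, hinv'⟩
    have hxe : lift g₁ (p₂ ≫ d.1.φ) ≫ aX.act = p₁ ≫ c.1.φ := ptMap_inj L.val (by
      rw [comp_lift_assoc, hg₁, reassoc_of% hp₂, g.2.2, reassoc_of% hp₁])
    have hwφ : t ≫ d.1.φ = c.1.φ :=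
      (existsUnique_extend L hbc p₁ b₁ hb₁.symm aX (p₁ ≫ c.1.φ) (by
        rw [← Category.assoc, ← hb₁, Category.assoc, c.1.eqv, lift_whiskerLeft_assoc])).unique
        ⟨by rw [reassoc_of% ht₁, d.1.eqv, MonoidalCategory.whiskerLeft_comp, Category.assoc],
          by rw [reassoc_of% ht₂, d.1.eqv, lift_whiskerLeft_assoc, hxe]⟩
        ⟨c.1.eqv, rfl⟩
    let bm : c.1.base ⟶ d.1.base := eqToHom (c.2.trans d.2.symm)
    let m : c.1 ⟶ d.1 :=
      { base := bm, top := t, eqv := ht₁, wφ := hwφ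
        cart := IsPullback.of_horiz_isIso ⟨base_subsingleton hbd _ _⟩ }
    have hm := (QuotSt.PointCount.base_eq_id c.2 d.2 m).2 rfl
    refine ⟨⟨m, hm⟩, Subtype.ext (div_cancel hbd (q := Fd.p) ?_)⟩
    refine (hf' ⟨m, hm⟩).trans ?_
    change Fc.p ≫ t = lift g.1 Fd.p ≫ d.1.act.act
    refine (congrArg (· ≫ t) hp₁.symm).trans ?_
    exact (Category.assoc _ _ _).trans ((congrArg (ptMap L.val ≫ ·) ht₂).trans
      ((comp_lift_assoc _ _ _ _).trans (congrArg₂ (fun a q => lift a q ≫ d.1.act.act) hg₁ hp₂)))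

omit [IsAlgClosed kb] in
theorem isOpen_fixer {Z : Over (Spec (CommRingCat.of k))} [LocallyOfFiniteType Z.hom] (z : SGA7.Pts kb Z) :
    IsOpen {σ : kb ≃ₐ[k] kb | σ • z = z} := by
  obtain ⟨E, hE, y, rfl⟩ := exists_finite_level z
  refine Subgroup.isOpen_mono (H₁ := E.fixingSubgroup)
    (H₂ := MulAction.stabilizer (kb ≃ₐ[k] kb) (ptMap E.val ≫ y : SGA7.Pts kb Z)) (fun σ hσ => ?_)
    E.fixingSubgroup_isOpen
  change SGA7.specAut σ ≫ ptMap E.val ≫ y = ptMap E.val ≫ y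
  rw [← Category.assoc, specAut_eq_ptMap, ptMap_comp]
  congr 2
  exact AlgHom.ext fun x => (IntermediateField.mem_fixingSubgroup_iff _ _).1 hσ x.1 x.2

theorem exists_stable_finite [LocallyOfFiniteType G.hom] [QuasiCompact G.hom] (a : SGA7.Pts kb G) :
    ∃ H : Subgroup (SGA7.Pts kb G), (H : Set (SGA7.Pts kb G)).Finite ∧ a ∈ H ∧
      ∀ (σ : kb ≃ₐ[k] kb) (x : SGA7.Pts kb G), x ∈ H → σ • x ∈ H := by
  obtain ⟨E, hE, y, hy⟩ := exists_finite_level a
  haveI := hE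
  haveI : Finite E := Module.finite_of_finite k
  haveI := finite_pts (L := ↥E) G
  let i : SGA7.Pts E G →* SGA7.Pts kb G :=
    MonoidHom.mk' (fun y => ptMap E.val ≫ y) fun y y' => MonObj.comp_mul _ _ _
  refine ⟨i.range, Set.finite_range i, ⟨y, hy⟩, ?_⟩
  rintro σ _ ⟨z, rfl⟩
  refine ⟨SGA7.specAut (σ.restrictNormal E) ≫ z, ?_⟩
  change ptMap E.val ≫ SGA7.specAut (σ.restrictNormal E) ≫ z = SGA7.specAut σ ≫ ptMap E.val ≫ z
  rw [← Category.assoc, ← Category.assoc, specAut_eq_ptMap, specAut_eq_ptMap, ptMap_comp, ptMap_comp]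
  congr 2
  exact AlgHom.ext fun x => σ.restrictNormal_commutes E x

/-- Every compatible pair is realised. -/
theorem exists_framed [IsAffineHom G.hom] [LocallyOfFiniteType G.hom] [QuasiCompact G.hom]
    [LocallyOfFiniteType X.hom] [IsAlgClosure k kb] (b : SGA7.Pts kb G) (x : SGA7.Pts kb X)
    (hx : SGA7.specAut (frob k kb) ≫ x = lift b x ≫ aX.act) :
    ∃ (A : QuotObj Scheme.etalePrecoverage G aX) (_ : A.base = SGA7.pt (K := k) k) (F : Frame kb A),
      F.b = b ∧ F.p ≫ A.φ = x := by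
  obtain ⟨H, hHf, hbH, hH⟩ := exists_stable_finite b⁻¹
  obtain ⟨z, hz⟩ := Cocycle.exists_cocycle (fun y : kb => frob_apply y) isOpen_fixer b⁻¹ H hHf hbH hH
  obtain ⟨E₁, hE₁, hE₁'⟩ := exists_finite_level b⁻¹
  obtain ⟨E₂, hE₂, hE₂'⟩ := exists_finite_level x
  obtain ⟨E₃, hE₃, hsub⟩ := (krullTopology_mem_nhds_one_iff k kb _).1
    ((z.2.isOpen_fiber 1).mem_nhds (Cocycle.z_one z) : {τ | z.1 τ = 1} ∈ nhds (1 : kb ≃ₐ[k] kb))
  haveI := hE₁; haveI := hE₂; haveI := hE₃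
  obtain ⟨L, hL⟩ : ∃ L, L = E₁ ⊔ (E₂ ⊔ E₃) := ⟨_, rfl⟩
  haveI : FiniteDimensional k L := by rw [hL]; infer_instance
  obtain ⟨a₁, ha₁⟩ := AtLevel.mono kb hE₁' (hL ▸ le_sup_left : E₁ ≤ L)
  obtain ⟨x₁, hx₁⟩ := AtLevel.mono kb hE₂' (hL ▸ (le_sup_left : E₂ ≤ E₂ ⊔ E₃).trans le_sup_right : E₂ ≤ L)
  have hL3 : E₃ ≤ L := hL ▸ (le_sup_right : E₃ ≤ E₂ ⊔ E₃).trans le_sup_right
  haveI : Finite L := Module.finite_of_finite k
  let π : kb ≃ₐ[k] kb := frob k kb
  have hpow : ∀ j : ℕ, ∃ v : SGA7.Pts L G, ptMap L.val ≫ v = z.1 (π ^ j) := by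
    intro j
    induction j with
    | zero => exact ⟨1, by rw [MonObj.comp_one, pow_zero, Cocycle.z_one]⟩
    | succ n ih =>
      obtain ⟨v, hv⟩ := ih
      exact ⟨a₁ * (frob k L • v), by
        rw [MonObj.comp_mul, ha₁, ← frob_smul_ptMap, hv, pow_succ', z.1.2 π (π ^ n), hz]⟩
  have hwd : ∀ i j : ℕ, frob k L ^ i = frob k L ^ j → z.1 (π ^ i) = z.1 (π ^ j) := by
    intro i j h
    have hmem : (π ^ i)⁻¹ * π ^ j ∈ E₃.fixingSubgroup := by
      rw [IntermediateField.mem_fixingSubgroup_iff]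
      intro y hy
      change (π ^ i).symm ((π ^ j) y) = y
      rw [AlgEquiv.symm_apply_eq, frob_pow_apply, frob_pow_apply]
      have h' := congrArg Subtype.val (DFunLike.congr_fun h ⟨y, hL3 hy⟩)
      rw [frob_pow_apply, frob_pow_apply] at h'
      simpa using h'.symm
    have h1 : z.1 ((π ^ i)⁻¹ * π ^ j) = 1 := hsub hmem
    conv_rhs => rw [← mul_inv_cancel_left (π ^ i) (π ^ j), z.1.2, h1, smul_one, _root_.mul_one]
  choose J hJ using fun σ : L ≃ₐ[k] L => exists_eq_frob_pow σ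
  choose v hv using hpow
  let c : (L ≃ₐ[k] L) → SGA7.Pts L G := fun σ => v (J σ)
  have hsmul : ∀ (i : ℕ) {Z : Over (Spec (CommRingCat.of k))} (y : SGA7.Pts L Z),
      (π ^ i) • (ptMap L.val ≫ y : SGA7.Pts kb Z) = ptMap L.val ≫ (frob k L ^ i • y) := by
    intro i Z y
    induction i with
    | zero => rw [pow_zero, pow_zero, one_smul, one_smul]
    | succ n ih => rw [pow_succ', mul_smul, ih, frob_smul_ptMap, pow_succ', mul_smul]
  have hc : ∀ σ τ, c (σ * τ) = c σ * σ • c τ := fun σ τ => ptMap_inj L.val (by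
    change ptMap L.val ≫ v (J (σ * τ)) = ptMap L.val ≫ (v (J σ) * σ • v (J τ))
    rw [MonObj.comp_mul, hv, hv, hwd (J (σ * τ)) (J σ + J τ) (by rw [pow_add, ← hJ, ← hJ, ← hJ]), pow_add,
      z.1.2, ← hv (J τ), hsmul, ← hJ σ])
  have hc1 : c (frob k L) = a₁ := ptMap_inj L.val (by
    rw [hv, hwd _ 1 (by rw [← hJ, pow_one]), pow_one, hz, ha₁])
  have hxc : ∀ σ, lift (c σ) (SGA7.specAut σ ≫ x₁) ≫ aX.act = x₁ := by
    intro σ
    obtain ⟨j, rfl⟩ := exists_eq_frob_pow σ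
    induction j with
    | zero =>
      have h1 : c 1 = 1 := by
        have h := hc 1 1
        rw [_root_.mul_one, one_smul] at h
        exact left_eq_mul.mp h
      rw [pow_zero, h1, GalTw.specAut_one, Category.id_comp, QuotSt.Act.one_smul]
    | succ n ih =>
      have hfx : lift a₁ (SGA7.specAut (frob k L) ≫ x₁) ≫ aX.act = x₁ := ptMap_inj L.val (by
        have hp : ptMap L.val ≫ SGA7.specAut (frob k L) ≫ x₁ = lift b x ≫ aX.act := by
          rw [← hx, ← hx₁]; exact (frob_smul_ptMap L.val x₁).symm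
        rw [comp_lift_assoc, ha₁, hp, hx₁, ← QuotSt.Act.mul_smul, inv_mul_cancel, QuotSt.Act.one_smul])
      rw [pow_succ, hc, QuotSt.Act.mul_smul, hc1]
      rw [GalTw.pts_smul_def, GalTw.specAut_mul, Category.assoc, ← comp_lift_assoc, hfx, ih]
  obtain ⟨A, hA, p, hp, hpx⟩ := exists_obj L aX c hc x₁ hxc
  refine ⟨A, hA, ⟨L, inferInstance, ptMap L.val ≫ p, ⟨p, rfl⟩, b, ?_⟩, rfl, by rw [Category.assoc, hpx, hx₁]⟩
  have h := congrArg (ptMap L.val ≫ ·) (hp (frob k L))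
  simp only [comp_lift_assoc, hc1, ha₁] at h
  rw [show ptMap L.val ≫ SGA7.specAut (frob k L) ≫ p = SGA7.specAut (frob k kb) ≫ ptMap L.val ≫ p from
    (frob_smul_ptMap L.val p).symm] at h
  conv_rhs => rw [← h]
  rw [← QuotSt.Act.mul_smul, mul_inv_cancel, QuotSt.Act.one_smul]

end Groth.Agent.Lib.GalPts
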