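import Groth.Agent.S16480
import Groth.Agent.H60.HM.Point
import Groth.Agent.H1.Hopf
import Groth.Agent.Lib.RedPts.Points
import Groth.Agent.H1.Classical.Scheme

/-!
# A faithful matrix representation of an affine group, on points with values in any scheme
-/

set_option autoImplicit false
universe u

open CategoryTheory MonoidalCategory CartesianMonoidalCategory MonObj AlgebraicGeometry
open Groth.Agent.Lib.RedPts.Points

namespace Groth.Agent.Lib.GalPts.MatRep

attribute [local instance] baseAlgebra

variable {k : Type u} [Field k]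

/-- The matrix of values of given functions at a point. -/
noncomputable def mat {G : Over (Spec (CommRingCat.of k))} {N : ℕ} (a : Fin N → Fin N → Γ(G.left, ⊤))
    {W : Over (Spec (CommRingCat.of k))} (x : W ⟶ G) : Matrix (Fin N) (Fin N) Γ(W.left, ⊤) :=
  Matrix.of fun i j => x.left.appTop (a i j)

theorem mat_comp {G : Over (Spec (CommRingCat.of k))} {N : ℕ} (a : Fin N → Fin N → Γ(G.left, ⊤))
    {W W' : Over (Spec (CommRingCat.of k))} (f : W' ⟶ W) (x : W ⟶ G) :
    mat a (f ≫ x) = (mat a x).map f.left.appTop := by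
  ext i j
  change (f.left ≫ x.left).appTop (a i j) = f.left.appTop (x.left.appTop (a i j))
  rw [Scheme.Hom.comp_appTop]
  rfl

open scoped TensorProduct in
theorem exists_rep (G : Over (Spec (CommRingCat.of k))) [GrpObj G] [IsAffine G.left] [LocallyOfFiniteType G.hom] :
    ∃ (N : ℕ) (a : Fin N → Fin N → Γ(G.left, ⊤)), ∀ (W : Over (Spec (CommRingCat.of k))),
      (∀ x y : W ⟶ G, mat a (x * y) = mat a x * mat a y) ∧ mat a (1 : W ⟶ G) = 1 ∧
        Function.Injective (mat a (W := W)) := by
  obtain ⟨A, _, _, e, he⟩ := H1.Hopf.exists_iso G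
  haveI := he
  haveI : IsMonHom e.inv := inferInstance
  haveI : Algebra.FiniteType k A := H1.Hopf.finiteType_of_locallyOfFiniteType (by
    haveI : IsIso e.inv.left := ((Over.forget _).mapIso e).isIso_inv
    rw [← Over.w e.inv]
    infer_instance)
  obtain ⟨N, π, hπ⟩ := Groth.Agent.S16480.result k A
  let P : Fin N → Fin N → A := fun i j => π (CoordGrp.GLn.X i j)
  let a : Fin N → Fin N → Γ(G.left, ⊤) := fun i j => e.hom.left.appTop ((Scheme.ΓSpecIso (CommRingCat.of A)).inv (P i j))
  have hmat : ∀ {W : Over (Spec (CommRingCat.of k))} (x : W ⟶ G) i j,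
      mat a x i j = algHomOf (x ≫ e.hom) (P i j) := fun x i j => by
    change x.left.appTop (e.hom.left.appTop _) = ringHomOf (x.left ≫ e.hom.left) _
    rw [ringHomOf_apply, Scheme.Hom.comp_appTop]
    rfl
  refine ⟨N, a, fun W => ⟨fun x y => ?_, ?_, fun x y h => ?_⟩⟩
  · ext i j
    rw [Matrix.mul_apply, hmat, MonObj.mul_comp, algHomOf_mul]
    have hc : Coalgebra.comul (R := k) (P i j) = ∑ l, P i l ⊗ₜ[k] P l j := by
      change Coalgebra.comul (R := k) (π (CoordGrp.GLn.X i j)) = _
      rw [← CoalgHomClass.map_comp_comul_apply π, CoordGrp.GLn.comul_X, map_sum]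
      rfl
    rw [hc, map_sum]
    exact Finset.sum_congr rfl fun l _ => by rw [Algebra.TensorProduct.lift_tmul, ← hmat, ← hmat]
  · ext i j
    rw [hmat, MonObj.one_comp, algHomOf_one]
    have hc : Coalgebra.counit (R := k) (P i j) = if i = j then 1 else 0 := by
      change Coalgebra.counit (R := k) (π (CoordGrp.GLn.X i j)) = _
      rw [CoalgHomClass.counit_comp_apply π, CoordGrp.GLn.counit_X]
    rw [hc, Matrix.one_apply]
    split_ifs <;> simp
  · rw [← cancel_mono e.hom]
    refine algHomOf_injective (AlgHom.ext fun b => ?_)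
    obtain ⟨b, rfl⟩ := hπ b
    exact AlgHom.congr_fun (H60.HM.algHom_ext_X (f := (algHomOf (x ≫ e.hom)).comp (π : CoordGrp.GLn N k →ₐ[k] A))
      (g := (algHomOf (y ≫ e.hom)).comp (π : CoordGrp.GLn N k →ₐ[k] A)) fun i j => by
        change algHomOf (x ≫ e.hom) (P i j) = algHomOf (y ≫ e.hom) (P i j)
        rw [← hmat, ← hmat, h]) b

end Groth.Agent.Lib.GalPts.MatRep
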