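import Groth.Agent.Lib.GalPts.UnipMass
import Groth.Agent.Lib.GalPts.MatRep
import Groth.Agent.Lib.GalPts.Restrict
import Groth.Agent.Lib.GalPts.Fibre
import Groth.Agent.H1.Classical.Unipotent

/-!
# The mass of a unipotent group of geometric points of an affine group over a finite field
-/

set_option autoImplicit false
universe u

open CategoryTheory CategoryTheory.Limits MonoidalCategory CartesianMonoidalCategory MonObj AlgebraicGeometry
open Groth.Agent.Lib.RedPts.Points
open Groth.Agent.H1.Classical.Scheme' (GA ptHom algHomOf_ptHom)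
open Groth.Agent.H1.Classical
open WithConv

namespace Groth.Agent.Lib.GalPts

attribute [local instance] baseAlgebra Functor.monObjObj Functor.grpObjObj

variable {k : Type u} [Field k] (kb : Type u) [Field kb] [Algebra k kb]

/-- The point of `Spec kb` over `k`, seen in the restriction of the unit object over `kb`. -/
noncomputable def unitPoint : SGA7.pt (K := k) kb ⟶
    (Over.map (SGA7.pt (K := k) kb).hom).obj (𝟙_ (Over (Spec (CommRingCat.of kb)))) :=
  Over.homMk (𝟙 _) (Category.id_comp _ |>.trans (Category.id_comp _))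

/-- The geometric point of a `kb`-point of the base change, as a group homomorphism. -/
noncomputable def geomPt {G : Over (Spec (CommRingCat.of k))} [GrpObj G] :
    (𝟙_ (Over (Spec (CommRingCat.of kb))) ⟶ GalTw.bcK kb G) →* SGA7.Pts kb G :=
  MonoidHom.mk' (fun x => unitPoint kb ≫ Restrict.flat _ x) fun x y => by rw [Restrict.flat_mul, MonObj.comp_mul]

theorem geomPt_bijective {G : Over (Spec (CommRingCat.of k))} [GrpObj G] :
    Function.Bijective (geomPt (G := G) kb) := by
  refine ⟨fun x y h => Restrict.flat_injective _ (Over.OverMorphism.ext ?_), fun g => ?_⟩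
  · have h' := congrArg CommaMorphism.left h
    exact ((Category.id_comp _).symm.trans h').trans (Category.id_comp _)
  · let g' : (Over.map (SGA7.pt (K := k) kb).hom).obj (𝟙_ (Over (Spec (CommRingCat.of kb)))) ⟶ G :=
      Over.homMk g.left ((Over.w g).trans (Category.id_comp _).symm)
    refine ⟨Restrict.sharp _ g', ?_⟩
    change unitPoint kb ≫ Restrict.flat _ (Restrict.sharp _ g') = g
    rw [Restrict.flat_sharp]
    exact Over.OverMorphism.ext (Category.id_comp _)

/-- The values of functions at a geometric point. -/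
noncomputable def valMat {G : Over (Spec (CommRingCat.of k))} {N : ℕ} (a : Fin N → Fin N → Γ(G.left, ⊤))
    (x : SGA7.Pts kb G) : Matrix (Fin N) (Fin N) kb :=
  (MatRep.mat a x).map (Scheme.ΓSpecIso (CommRingCat.of kb)).hom

theorem valMat_smul {G : Over (Spec (CommRingCat.of k))} {N : ℕ} (a : Fin N → Fin N → Γ(G.left, ⊤))
    (σ : kb ≃ₐ[k] kb) (x : SGA7.Pts kb G) : valMat kb a (σ • x) = (valMat kb a x).map σ := by
  change (MatRep.mat a (SGA7.specAut σ ≫ x)).map (Scheme.ΓSpecIso (CommRingCat.of kb)).hom = _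
  rw [MatRep.mat_comp]
  ext i j
  exact congrArg (fun f => f.hom (MatRep.mat a x i j))
    (Scheme.ΓSpecIso_naturality (CommRingCat.ofHom (σ : kb →+* kb)))

/-- The matrix representation on geometric points. -/
noncomputable def valHom {G : Over (Spec (CommRingCat.of k))} [GrpObj G] {N : ℕ} (a : Fin N → Fin N → Γ(G.left, ⊤))
    (h1 : ∀ W : Over (Spec (CommRingCat.of k)), MatRep.mat a (1 : W ⟶ G) = 1)
    (hm : ∀ (W : Over (Spec (CommRingCat.of k))) (x y : W ⟶ G), MatRep.mat a (x * y) = MatRep.mat a x * MatRep.mat a y) :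
    SGA7.Pts kb G →* Matrix (Fin N) (Fin N) kb :=
  let V : Matrix (Fin N) (Fin N) Γ(Spec (CommRingCat.of kb), ⊤) →+* Matrix (Fin N) (Fin N) kb :=
    RingHom.mapMatrix (Scheme.ΓSpecIso (CommRingCat.of kb)).hom.hom
  { toFun := valMat kb a
    map_one' := (congrArg V (h1 _)).trans (map_one V)
    map_mul' := fun x y => (congrArg V (hm _ x y)).trans (map_mul V _ _) }

theorem valMat_geomPt {G : Over (Spec (CommRingCat.of k))} [GrpObj G] {N : ℕ} (a : Fin N → Fin N → Γ(G.left, ⊤))
    {B : Type u} [CommRing B] [HopfAlgebra kb B] (j : GA kb B ⟶ GalTw.bcK kb G) (χ : HopfPts.Pt kb B) :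
    valMat kb a (geomPt kb (ptHom (𝟙_ (Over (Spec (CommRingCat.of kb)))) χ ≫ j)) =
      ((MatRep.mat a (Restrict.flat _ j)).map (Scheme.ΓSpecIso (CommRingCat.of B)).hom).map χ.ofConv := by
  change (MatRep.mat a (unitPoint kb ≫ Restrict.flat _ (ptHom _ χ ≫ j))).map _ = _
  rw [Restrict.flat_comp, ← Category.assoc, MatRep.mat_comp]
  ext r s
  simp only [Matrix.map_apply]
  generalize MatRep.mat a (Restrict.flat _ j) r s = t
  change (Scheme.ΓSpecIso (CommRingCat.of kb)).hom ((𝟙 _ ≫ (ptHom (𝟙_ _) χ).left).appTop t) = _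
  rw [Category.id_comp]
  obtain ⟨b', rfl⟩ := (ConcreteCategory.bijective_of_isIso (Scheme.ΓSpecIso (CommRingCat.of B)).inv).2 t
  rw [Iso.inv_hom_id_apply]
  change (Scheme.ΓSpecIso (CommRingCat.of kb)).hom (algHomOf (ptHom (𝟙_ (Over (Spec (CommRingCat.of kb)))) χ) b') = _
  rw [algHomOf_ptHom]
  change (Scheme.ΓSpecIso (CommRingCat.of kb)).hom (baseHom (𝟙_ (Over (Spec (CommRingCat.of kb)))) (χ.ofConv b')) = _
  change (Scheme.ΓSpecIso (CommRingCat.of kb)).hom ((𝟙 (Spec (CommRingCat.of kb)) : _ ⟶ _).appTop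
    ((Scheme.ΓSpecIso (CommRingCat.of kb)).inv (χ.ofConv b'))) = _
  rw [Scheme.Hom.id_appTop]
  exact Iso.inv_hom_id_apply _ _

variable [IsAlgClosed kb] [Finite k] [Algebra.IsAlgebraic k kb]

/-- Points of a unipotent group have `p`-power order. -/
theorem exists_pow_eq_one (p : ℕ) [Fact p.Prime] [CharP kb p] {G : Over (Spec (CommRingCat.of k))} [GrpObj G]
    [LocallyOfFiniteType G.hom] [QuasiCompact G.hom] {U : Over (Spec (CommRingCat.of kb))} [GrpObj U]
    (i : U ⟶ GalTw.bcK kb G) [IsMonHom i] [Mono i] (hnt : Unipotent.NoTorsion U) (g : SGA7.Pts kb G)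
    (hg : ∃ x : 𝟙_ (Over (Spec (CommRingCat.of kb))) ⟶ U, geomPt kb (x ≫ i) = g) :
    ∃ c : ℕ, g ^ p ^ c = 1 := by
  have hpp : p.Prime := Fact.out
  obtain ⟨S, hSf, hxS, -⟩ := exists_stable_finite (kb := kb) g
  haveI : Finite S := hSf.to_subtype
  have hord : IsOfFinOrder g :=
    (Submonoid.isOfFinOrder_coe (x := (⟨_, hxS⟩ : S.toSubmonoid))).2 (isOfFinOrder_of_finite (⟨_, hxS⟩ : S))
  obtain ⟨m', hm', hpow⟩ := isOfFinOrder_iff_pow_eq_one.1 hord
  obtain ⟨c, m, hm, rfl⟩ := Nat.exists_eq_pow_mul_and_not_dvd hm'.ne' p hpp.ne_one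
  obtain ⟨y, hy⟩ := hg
  have hyc : (y ^ p ^ c) = 1 := hnt _ m (by rwa [Ne, CharP.cast_eq_zero_iff kb p]) (by
    rw [← pow_mul]
    refine (cancel_mono i).1 ((geomPt_bijective kb).1 ?_)
    rw [H1.Classical.Unipotent.pow_comp, map_pow, hy, hpow, MonObj.one_comp, map_one])
  have hx1 : g ^ p ^ c = 1 := by
    rw [← hy, ← map_pow, ← H1.Classical.Unipotent.pow_comp, hyc, MonObj.one_comp, map_one]
  refine ⟨c, hx1⟩

/-- **The mass of a unipotent group of geometric points.** -/
theorem hasMass_of_unipotent (G : Over (Spec (CommRingCat.of k))) [GrpObj G] [IsAffine G.left]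
    [LocallyOfFiniteType G.hom] (U : Over (Spec (CommRingCat.of kb))) [GrpObj U] [IsAffine U.left] [Smooth U.hom]
    [ConnectedSpace U.left] (i : U ⟶ GalTw.bcK kb G) [IsMonHom i] [Mono i] (hU : Red.HasNoSubtorus kb U)
    (d : ℕ) (hd : topologicalKrullDim ↥U.left = (d : WithBot ℕ∞)) (H : Subgroup (SGA7.Pts kb G))
    (hH : ∀ g, g ∈ H ↔ ∃ x : 𝟙_ (Over (Spec (CommRingCat.of kb))) ⟶ U, geomPt kb (x ≫ i) = g)
    (b : SGA7.Pts kb G) (φ : H →* H) (hφs : Function.Surjective φ)
    (hφ : ∀ x : H, (φ x : SGA7.Pts kb G) = b⁻¹ * (frob k kb • (x : SGA7.Pts kb G)) * b) :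
    Mass.HasMass H (Mass.Tw φ) ((((Nat.card k : ℕ) : ℚ) ^ d))⁻¹ := by
  classical
  letI := Fintype.ofFinite k
  obtain ⟨p, hp⟩ := CharP.exists k
  obtain ⟨n, hpp, hcard⟩ := FiniteField.card k p
  haveI : Fact p.Prime := ⟨hpp⟩
  haveI : CharP kb p := charP_of_injective_algebraMap (algebraMap k kb).injective p
  obtain ⟨N, a, ha⟩ := MatRep.exists_rep G
  haveI : QuasiCompact G.hom := inferInstance
  let ρ := valHom kb a (fun W => (ha W).2.1) (fun W => (ha W).1)
  have hρi : Function.Injective ρ := fun x y h => (ha _).2.2 (by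
    ext r s
    exact (ConcreteCategory.bijective_of_isIso (Scheme.ΓSpecIso (CommRingCat.of kb)).hom).1 (congrFun (congrFun h r) s))
  obtain ⟨B, _, _, _, _, e, he⟩ := H1.Classical.MaxTorusApply.exists_GA U
  haveI := he
  haveI : IsMonHom e.inv := inferInstance
  let j : GA kb B ⟶ GalTw.bcK kb G := e.inv ≫ i
  let u : HopfPts.Pt kb B →* SGA7.Pts kb G :=
    (geomPt kb).comp ((H1.Classical.Scheme'.postcomp j _).comp (ptHom (𝟙_ _)))
  have hu : ∀ χ, u χ = geomPt kb (ptHom (𝟙_ _) χ ≫ j) := fun χ => rfl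
  obtain ⟨M, hM⟩ : ∃ M : Matrix (Fin N) (Fin N) B, ∀ χ, ρ (u χ) = M.map χ.ofConv :=
    ⟨_, fun χ => valMat_geomPt kb a j χ⟩
  have hur : ∀ g, g ∈ H ↔ ∃ χ, u χ = g := fun g => by
    rw [hH]
    constructor
    · rintro ⟨x, hx⟩
      obtain ⟨χ, hχ⟩ := H1.Classical.Scheme'.ptHom_surjective (x ≫ e.hom)
      refine ⟨χ, ?_⟩
      rw [hu, hχ, ← hx]
      simp [j]
    · rintro ⟨χ, rfl⟩
      exact ⟨ptHom (𝟙_ _) χ ≫ e.inv, by rw [hu, Category.assoc]⟩
  have hui : Function.Injective u := fun χ χ' h => by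
    rw [hu, hu] at h
    exact H1.Classical.Scheme'.ptHom_injective ((cancel_mono j).1 ((geomPt_bijective kb).1 h))
  obtain ⟨u', hu'⟩ : ∃ u' : HopfPts.Pt kb B ≃* H, ∀ χ, (u' χ : SGA7.Pts kb G) = u χ :=
    ⟨MulEquiv.ofBijective (u.codRestrict H fun χ => (hur _).2 ⟨χ, rfl⟩)
      ⟨fun χ χ' h => hui (congrArg Subtype.val h), fun g => ((hur g.1).1 g.2).imp fun χ h => Subtype.ext h⟩,
      fun _ => rfl⟩
  have hρu : ∀ x : H, ρ x = M.map (u'.symm x).ofConv := fun x => by
    refine Eq.trans ?_ (hM (u'.symm x))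
    rw [← hu', MulEquiv.apply_symm_apply]
  have hnt : Unipotent.NoTorsion U := H1.Classical.Unipotent.noTorsion_of_hasNoSubtorus hU
  have hunip : ∀ x : H, IsNilpotent (ρ x - 1) := fun x => by
    obtain ⟨c, hc⟩ := exists_pow_eq_one kb p i hnt x.1 ((hH x.1).1 x.2)
    refine ⟨p ^ c, ?_⟩
    rcases isEmpty_or_nonempty (Fin N) with hN | hN
    · exact Subsingleton.elim _ _
    haveI : CharP (Matrix (Fin N) (Fin N) kb) p := Matrix.charP p
    rw [sub_pow_char_pow_of_commute (p := p) (n := c) (h := Commute.one_right _), one_pow, ← map_pow, hc, map_one, sub_self]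
  have hq : ∀ y : kb, frob k kb y = y ^ p ^ (n : ℕ) := fun y => by
    rw [frob_apply, Nat.card_eq_fintype_card, hcard]
  obtain ⟨r, hr, hdim⟩ := UnipMass.hasMass_unipotent p n n.pos M (fun x : H => (u'.symm x).ofConv)
    ((WithConv.equiv _).bijective.comp u'.symm.bijective) (ρ.comp H.subtype) (hρi.comp Subtype.val_injective) hρu hunip
    φ hφs (ρ b⁻¹) (ρ b) (by rw [← map_mul, inv_mul_cancel, map_one]) fun x => by
      change ρ (φ x).1 = _
      rw [hφ, map_mul, map_mul]
      congr 2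
      refine (valMat_smul kb a (frob k kb) x.1).trans ?_
      ext r s
      exact hq _
  have hdB : topologicalKrullDim ↥U.left = ringKrullDim B := by
    haveI : IsIso e.hom.left := ((Over.forget _).mapIso e).isIso_hom
    exact (IsHomeomorph.topologicalKrullDim_eq _ e.hom.left.homeomorph.isHomeomorph).trans
      (PrimeSpectrum.topologicalKrullDim_eq_ringKrullDim B)
  rw [hd, hdim] at hdB
  have hdr : d = r := by exact_mod_cast hdB
  subst hdr
  rwa [Nat.card_eq_fintype_card, hcard, Nat.cast_pow]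

end Groth.Agent.Lib.GalPts
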