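import Mathlib.GroupTheory.GroupAction.Quotient
import Mathlib.GroupTheory.Index
import Mathlib.SetTheory.Cardinal.Finite
import Mathlib.Tactic.Group
import Mathlib.GroupTheory.GroupAction.Hom
import Mathlib.Algebra.BigOperators.Field
import Mathlib.Data.Rat.Defs
import Mathlib.Algebra.Order.Field.Rat

/-!
# The mass of an action groupoid

`HasMass G X m`: finitely many orbits, finite stabilisers, `m = ∑ 1 / #stabiliser` over the orbits.
-/

set_option autoImplicit false
universe u v w z

namespace Groth.Agent.Lib.GalPts.Mass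

open MulAction

variable {G : Type u} [Group G] {X : Type v} [MulAction G X]

/-- The mass of the action groupoid is `m`. -/
def HasMass (G : Type u) [Group G] (X : Type v) [MulAction G X] (m : ℚ) : Prop :=
  ∃ (n : ℕ) (r : Fin n → X), (∀ i j (g : G), g • r i = r j → i = j) ∧ (∀ x, ∃ i, ∃ g : G, g • r i = x) ∧
    (∀ x : X, Finite (stabilizer G x)) ∧ m = ∑ i, ((Nat.card (stabilizer G (r i)) : ℚ))⁻¹

theorem card_stabilizer_smul (g : G) (x : X) :
    Nat.card (stabilizer G (g • x)) = Nat.card (stabilizer G x) :=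
  (Nat.card_congr (stabilizerEquivStabilizer (G := G) (a := x) (b := g • x) rfl).toEquiv).symm

theorem HasMass.of_reps {ι : Type w} [Fintype ι] (r : ι → X) (hd : ∀ i j (g : G), g • r i = r j → i = j)
    (hc : ∀ x, ∃ i, ∃ g : G, g • r i = x) (hf : ∀ x : X, Finite (stabilizer G x)) :
    HasMass G X (∑ i, ((Nat.card (stabilizer G (r i)) : ℚ))⁻¹) :=
  ⟨Fintype.card ι, r ∘ (Fintype.equivFin ι).symm, fun i j g h => (Fintype.equivFin ι).symm.injective (hd _ _ g h),
    fun x => (hc x).elim fun i hi => ⟨Fintype.equivFin ι i, by simpa using hi⟩, hf,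
    ((Fintype.equivFin ι).symm.sum_comp fun i => ((Nat.card (stabilizer G (r i)) : ℚ))⁻¹).symm⟩

theorem HasMass.unique {m m' : ℚ} (h : HasMass G X m) (h' : HasMass G X m') : m = m' := by
  obtain ⟨n, r, hd, hc, -, rfl⟩ := h
  obtain ⟨n', r', hd', hc', -, rfl⟩ := h'
  choose f g hg using fun i => hc' (r i)
  choose f' g' hg' using fun i => hc (r' i)
  have h1 : ∀ i, f' (f i) = i := fun i => hd _ _ (g i * g' (f i)) (by rw [mul_smul, hg', hg])
  have h2 : ∀ i, f (f' i) = i := fun i => hd' _ _ (g' i * g (f' i)) (by rw [mul_smul, hg, hg'])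
  refine Fintype.sum_equiv ⟨f, f', h1, h2⟩ _ _ fun i => ?_
  rw [← hg i, card_stabilizer_smul]
  rfl

theorem HasMass.finite_stabilizer {m : ℚ} (h : HasMass G X m) (x : X) : Finite (stabilizer G x) := h.choose_spec.choose_spec.2.2.1 x

/-- A finite group acting on a finite set. -/
theorem hasMass_of_finite [Finite G] [Finite X] : HasMass G X ((Nat.card X : ℚ) / Nat.card G) := by
  classical
  letI := Fintype.ofFinite (orbitRel.Quotient G X)
  letI := Fintype.ofFinite X
  have h : HasMass G X (∑ q : orbitRel.Quotient G X, ((Nat.card (stabilizer G q.out) : ℚ))⁻¹) :=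
    HasMass.of_reps _ (fun i j g hg => by
        rw [← Quotient.out_eq' i, ← Quotient.out_eq' j, ← hg]
        exact (Quotient.sound' (orbitRel_apply.2 (mem_orbit _ g) : orbitRel G X _ _)).symm)
      (fun x => ⟨Quotient.mk'' x, (mem_orbit_symm.1 (orbitRel_apply.1 (Quotient.mk_out' x : orbitRel G X _ x)))⟩)
      fun x => inferInstance
  have hc : Nat.card X = ∑ q : orbitRel.Quotient G X, Nat.card (orbit G q.out) := by
    rw [← Nat.card_sigma]
    exact Nat.card_congr (selfEquivSigmaOrbits G X)
  suffices (Nat.card X : ℚ) / Nat.card G = ∑ q : orbitRel.Quotient G X, ((Nat.card (stabilizer G q.out) : ℚ))⁻¹ from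
    this ▸ h
  rw [hc, Nat.cast_sum, Finset.sum_div]
  refine Finset.sum_congr rfl fun q _ => ?_
  rw [← Nat.card_congr (orbitProdStabilizerEquivGroup G q.out), Nat.card_prod, Nat.cast_mul]
  have : (Nat.card (orbit G q.out) : ℚ) ≠ 0 :=
    Nat.cast_ne_zero.2 (Nat.card_pos_iff.2 ⟨⟨⟨q.out, mem_orbit_self _⟩⟩, inferInstance⟩).ne'
  rw [div_mul_eq_div_div, div_self this, one_div]

/-- Transport along a compatible pair of bijections. -/
theorem HasMass.congr {H : Type w} [Group H] {Y : Type z} [MulAction H Y] {m : ℚ} (h : HasMass G X m)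
    (e : G ≃* H) (f : X ≃ Y) (hf : ∀ (g : G) x, f (g • x) = e g • f x) : HasMass H Y m := by
  obtain ⟨n, r, hd, hc, hfin, rfl⟩ := h
  have hstab : ∀ x, stabilizer H (f x) ≃ stabilizer G x := fun x =>
    (Equiv.subtypeEquiv e.toEquiv fun g => by
      change g • x = x ↔ e g • f x = f x
      rw [← hf, f.injective.eq_iff]).symm
  refine ⟨n, f ∘ r, fun i j g hg => hd i j (e.symm g) (f.injective (by simpa [hf] using hg)), fun y => ?_,
    fun y => ?_, Finset.sum_congr rfl fun i _ => by rw [Function.comp_apply, Nat.card_congr (hstab (r i))]⟩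
  · obtain ⟨i, g, hg⟩ := hc (f.symm y)
    exact ⟨i, e g, by rw [Function.comp_apply, ← hf, hg, f.apply_symm_apply]⟩
  · haveI := hfin (f.symm y)
    have := Finite.of_equiv _ (hstab (f.symm y)).symm
    rwa [f.apply_symm_apply] at this

section fibration

variable {B : Type w} [MulAction G B]

/-- The fibre of an equivariant map, with its action of the stabiliser. -/
def Fib (p : X → B) (_hp : ∀ (g : G) x, p (g • x) = g • p x) (b : B) : Type v := {x // p x = b}

variable {p : X → B} {hp : ∀ (g : G) x, p (g • x) = g • p x}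

instance (b : B) : MulAction (stabilizer G b) (Fib p hp b) where
  smul g x := ⟨g.1 • x.1, (hp g.1 x.1).trans ((congrArg (g.1 • ·) x.2).trans g.2)⟩
  one_smul x := Subtype.ext (one_smul G x.1)
  mul_smul g g' x := Subtype.ext (mul_smul g.1 g'.1 x.1)

@[simp] theorem Fib.coe_smul {b : B} (g : stabilizer G b) (x : Fib p hp b) : (g • x).1 = g.1 • x.1 := rfl

/-- The stabiliser of a point of a fibre. -/
noncomputable def Fib.stabilizerEquiv {b : B} (x : Fib p hp b) : stabilizer (stabilizer G b) x ≃ stabilizer G x.1 where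
  toFun g := ⟨g.1.1, congrArg Subtype.val (show g.1 • x = x from g.2)⟩
  invFun g := ⟨⟨g.1, by
    exact ((congrArg (g.1 • ·) x.2).symm.trans (hp g.1 x.1).symm).trans ((congrArg p g.2).trans x.2)⟩, Subtype.ext g.2⟩
  left_inv _ := rfl
  right_inv _ := rfl

/-- The mass is the sum of the masses of the fibres. -/
theorem hasMass_fibration (p : X → B) (hp : ∀ (g : G) x, p (g • x) = g • p x) {J : Type z} [Fintype J]
    (b : J → B) (hbd : ∀ i j (g : G), g • b i = b j → i = j) (hbc : ∀ x, ∃ j, ∃ g : G, g • b j = p x)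
    (m : J → ℚ) (hm : ∀ j, HasMass (stabilizer G (b j)) (Fib p hp (b j)) (m j)) :
    HasMass G X (∑ j, m j) := by
  choose n r hd hc hf he using hm
  have hr := HasMass.of_reps (G := G) (fun i : Σ j, Fin (n j) => (r i.1 i.2).1)
    (fun i i' g hg => by
      obtain ⟨j, i⟩ := i
      obtain ⟨j', i'⟩ := i'
      obtain rfl := hbd j j' g (by rw [← (r j i).2, ← (r j' i').2, ← hp, hg])
      obtain rfl := hd j i i' ⟨g, by
        change g • b j = b j
        conv_lhs => rw [← (r j i).2, ← hp, hg, (r j i').2]⟩ (Subtype.ext hg)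
      rfl)
    (fun x => by
      obtain ⟨j, g, hg⟩ := hbc x
      obtain ⟨i, g', hg'⟩ := hc j ⟨g⁻¹ • x, by rw [hp, ← hg, inv_smul_smul]⟩
      exact ⟨⟨j, i⟩, g * g'.1, by rw [mul_smul, show g'.1 • (r j i).1 = g⁻¹ • x from congrArg Subtype.val hg',
        smul_inv_smul]⟩)
    (fun x => by
      obtain ⟨j, g, hg⟩ := hbc x
      let x' : Fib p hp (b j) := ⟨g⁻¹ • x, by rw [hp, ← hg, inv_smul_smul]⟩
      haveI := hf j x'
      haveI : Finite (stabilizer G (g⁻¹ • x)) := Finite.of_equiv _ (Fib.stabilizerEquiv x')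
      exact Finite.of_equiv _ (stabilizerEquivStabilizer (G := G) (a := x) (b := g⁻¹ • x) rfl).symm.toEquiv)
  convert hr using 1
  rw [Fintype.sum_sigma]
  refine Finset.sum_congr rfl fun j _ => ?_
  rw [he j]
  refine Finset.sum_congr rfl fun i _ => ?_
  rw [Nat.card_congr (Fib.stabilizerEquiv (r j i))]

/-- Converse: if the whole has a mass and the fibres have masses, the former is the sum. -/
theorem HasMass.eq_sum {M : ℚ} (h : HasMass G X M) (p : X → B) (hp : ∀ (g : G) x, p (g • x) = g • p x)
    {J : Type z} [Fintype J] (b : J → B) (hbd : ∀ i j (g : G), g • b i = b j → i = j)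
    (hbc : ∀ x, ∃ j, ∃ g : G, g • b j = p x) (m : J → ℚ)
    (hm : ∀ j, HasMass (stabilizer G (b j)) (Fib p hp (b j)) (m j)) : M = ∑ j, m j :=
  h.unique (hasMass_fibration p hp b hbd hbc m hm)

end fibration

section extension

variable {Q : Type w} [Group Q] (π : G →* Q)

/-- The product with a quotient group. -/
def WithQuot (_π : G →* Q) (X : Type v) : Type (max v w) := X × Q

instance : MulAction G (WithQuot π X) where
  smul g x := (g • x.1, π g * x.2)
  one_smul x := Prod.ext (one_smul G x.1) (by change π 1 * x.2 = x.2; rw [map_one, one_mul])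
  mul_smul g g' x := Prod.ext (mul_smul g g' x.1) (by
    change π (g * g') * x.2 = π g * (π g' * x.2)
    rw [map_mul, mul_assoc])

/-- Passing from the kernel of a map to a finite group. -/
theorem hasMass_of_ker [Finite Q] (hπ : Function.Surjective π) {m : ℚ} (h : HasMass π.ker X m) :
    HasMass G X (m / Nat.card Q) := by
  classical
  obtain ⟨n, r, hd, hc, hf, he⟩ := h
  letI : MulAction G Q := MulAction.compHom Q π
  have hV : HasMass G (WithQuot π X) m := by
    let e : π.ker ≃* stabilizer G (1 : Q) :=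
      { toFun := fun g => ⟨g.1, by change π g.1 * 1 = 1; rw [mul_one]; exact g.2⟩
        invFun := fun g => ⟨g.1, by simpa using (show π g.1 * 1 = 1 from g.2)⟩
        left_inv := fun _ => rfl
        right_inv := fun _ => rfl
        map_mul' := fun _ _ => rfl }
    have := hasMass_fibration (X := WithQuot π X) (B := Q) Prod.snd (fun _ _ => rfl)
      (fun _ : Unit => (1 : Q)) (fun _ _ _ _ => rfl)
      (fun y => ⟨(), (hπ y.2).choose, by change π _ * 1 = y.2; rw [mul_one, (hπ y.2).choose_spec]⟩) (fun _ => m)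
      (fun _ => HasMass.congr ⟨n, r, hd, hc, hf, he⟩ e
        { toFun := fun x => ⟨(x, 1), rfl⟩
          invFun := fun v => v.1.1
          left_inv := fun _ => rfl
          right_inv := fun v => Subtype.ext (Prod.ext rfl v.2.symm) }
        fun g x => Subtype.ext (Prod.ext rfl (show (1 : Q) = π g.1 * 1 by rw [g.2, mul_one])))
    simpa using this
  have hfin : ∀ x : X, Finite (stabilizer G x) := fun x => by
    haveI := hf x
    let φ : stabilizer G x →* Q := π.comp (stabilizer G x).subtype
    haveI : Finite φ.ker := Finite.of_injective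
      (fun g : φ.ker => (⟨⟨g.1.1, g.2⟩, g.1.2⟩ : stabilizer π.ker x)) fun g g' h => by
        have := congrArg (fun t : stabilizer π.ker x => t.1.1) h
        exact Subtype.ext (Subtype.ext this)
    haveI : φ.ker.FiniteIndex := ⟨by
      rw [Subgroup.index_ker]; exact (Nat.card_pos (α := φ.range)).ne'⟩
    exact Finite.of_equiv _ (Subgroup.groupEquivQuotientProdSubgroup (s := φ.ker)).symm
  haveI : Finite (orbitRel.Quotient G X) := by
    refine Finite.of_surjective (fun i : Fin n => (Quotient.mk'' (r i) : orbitRel.Quotient G X)) fun q => ?_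
    induction q using Quotient.inductionOn' with
    | h x =>
      obtain ⟨i, g, hg⟩ := hc x
      exact ⟨i, Quotient.sound' (orbitRel_apply.2 (hg ▸ mem_orbit_symm.2 (mem_orbit (r i) (g : G))))⟩
  letI := Fintype.ofFinite (orbitRel.Quotient G X)
  have hX : HasMass G X (∑ q : orbitRel.Quotient G X, ((Nat.card (stabilizer G q.out) : ℚ))⁻¹) :=
    HasMass.of_reps _ (fun i j g hg => by
        rw [← Quotient.out_eq' i, ← Quotient.out_eq' j, ← hg]
        exact (Quotient.sound' (orbitRel_apply.2 (mem_orbit _ g) : orbitRel G X _ _)).symm)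
      (fun x => ⟨Quotient.mk'' x, (mem_orbit_symm.1 (orbitRel_apply.1 (Quotient.mk_out' x : orbitRel G X _ x)))⟩)
      hfin
  have key := hV.eq_sum (Prod.fst : WithQuot π X → X) (fun _ _ => rfl)
    (fun q : orbitRel.Quotient G X => q.out) (fun i j g hg => by
      rw [← Quotient.out_eq' i, ← Quotient.out_eq' j, ← hg]
      exact (Quotient.sound' (orbitRel_apply.2 (mem_orbit _ g) : orbitRel G X _ _)).symm)
    (fun v => ⟨Quotient.mk'' v.1, (mem_orbit_symm.1 (orbitRel_apply.1 (Quotient.mk_out' v.1 : orbitRel G X _ v.1)))⟩)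
    (fun q => (Nat.card Q : ℚ) / Nat.card (stabilizer G q.out)) fun q => by
      haveI := hfin q.out
      let e : Fib (Prod.fst : WithQuot π X → X) (fun (_ : G) _ => rfl) q.out ≃ Q :=
        { toFun := fun v => v.1.2
          invFun := fun t => ⟨(q.out, t), rfl⟩
          left_inv := fun v => Subtype.ext (Prod.ext v.2.symm rfl)
          right_inv := fun _ => rfl }
      rw [← Nat.card_congr e]
      exact @hasMass_of_finite _ _ _ _ _ (Finite.of_equiv _ e.symm)
  have hne : (Nat.card Q : ℚ) ≠ 0 := Nat.cast_ne_zero.2 (Nat.card_pos (α := Q)).ne'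
  convert hX using 1
  rw [key, Finset.sum_div]
  exact Finset.sum_congr rfl fun q _ => by rw [div_right_comm, div_self hne, one_div]

end extension

section twisted

variable {P : Type u} [Group P]

/-- `P` with the twisted conjugation `g • x = φ g * x * g⁻¹`. -/
def Tw (_φ : P →* P) : Type u := P

/-- The element as a point of the twisted set. -/
def Tw.mk (φ : P →* P) (x : P) : Tw φ := x

/-- The point as an element of the group. -/
def Tw.val {φ : P →* P} (x : Tw φ) : P := x

instance (φ : P →* P) : MulAction P (Tw φ) where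
  smul g x := (φ g * x.val * g⁻¹ : P)
  one_smul x := show φ 1 * x.val * 1⁻¹ = x.val by simp
  mul_smul g h x := show φ (g * h) * x.val * (g * h)⁻¹ = φ g * (φ h * x.val * h⁻¹) * g⁻¹ by
    simp [mul_assoc]

theorem Tw.smul_def {φ : P →* P} (g : P) (x : Tw φ) : g • x = Tw.mk φ (φ g * x.val * g⁻¹) := rfl

/-- The base change of the twisted set of the quotient. -/
def Tw.Pull {C : Type w} [Group C] (_π : P →* C) (ψ : C →* C) : Type w := Tw ψ

/-- The point of the pulled back twisted set. -/
def Tw.Pull.mk {C : Type w} [Group C] (π : P →* C) (ψ : C →* C) (x : Tw ψ) : Tw.Pull π ψ := x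

instance {C : Type w} [Group C] (π : P →* C) (ψ : C →* C) : MulAction P (Tw.Pull π ψ) :=
  MulAction.compHom (Tw ψ) π

/-- Masses multiply in extensions. -/
theorem hasMass_extension {C : Type w} [Group C] (π : P →* C) (hπ : Function.Surjective π)
    (φ : P →* P) (ψ : C →* C) (hc : ∀ g, π (φ g) = ψ (π g)) {mA mC : ℚ}
    (hA : ∀ b : P, ∀ φb : π.ker →* π.ker, (∀ a : π.ker, (φb a : P) = b⁻¹ * φ a * b) → HasMass π.ker (Tw φb) mA)
    (hC : HasMass C (Tw ψ) mC) : HasMass P (Tw φ) (mA * mC) := by
  classical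
  obtain ⟨n, r, hd, hcov, hf, rfl⟩ := hC
  rw [Finset.mul_sum]
  refine hasMass_fibration (B := Tw.Pull π ψ) (fun x : Tw φ => Tw.Pull.mk π ψ (Tw.mk ψ (π x.val)))
    (fun g x => show π (φ g * x.val * g⁻¹) = ψ (π g) * π x.val * (π g)⁻¹ by rw [map_mul, map_mul, hc, map_inv])
    (fun i => Tw.Pull.mk π ψ (r i)) (fun i j g h => hd i j (π g) h) (fun y => ?_) _ fun j => ?_
  · obtain ⟨i, g, hg⟩ := hcov (Tw.mk ψ (π y.val))
    obtain ⟨g, rfl⟩ := hπ g
    exact ⟨i, g, hg⟩
  · obtain ⟨b, hb⟩ := hπ (r j : Tw ψ).val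
    haveI := hf (r j)
    let π' : stabilizer P (Tw.Pull.mk π ψ (r j)) →* stabilizer C (r j : Tw ψ) :=
      (π.comp (stabilizer P (Tw.Pull.mk π ψ (r j))).subtype).codRestrict _ fun g => g.2
    have hπ' : Function.Surjective π' := fun c => by
      obtain ⟨g, hg⟩ := hπ c.1
      exact ⟨⟨g, show π g • (r j : Tw ψ) = r j by rw [hg]; exact c.2⟩, Subtype.ext hg⟩
    rw [← div_eq_mul_inv]
    refine hasMass_of_ker π' hπ' ?_
    let φb : π.ker →* π.ker := MonoidHom.mk' (fun a => ⟨b⁻¹ * φ a.1 * b, by
        rw [MonoidHom.mem_ker, map_mul, map_mul, hc, show π a.1 = 1 from a.2, map_one, mul_one, map_inv,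
          inv_mul_cancel]⟩) fun a a' => Subtype.ext (by simp [mul_assoc])
    let e : π.ker ≃* π'.ker :=
      { toFun := fun a => ⟨⟨a.1, show π a.1 • (r j : Tw ψ) = r j by rw [a.2, one_smul]⟩, Subtype.ext a.2⟩
        invFun := fun a => ⟨a.1.1, congrArg Subtype.val a.2⟩
        left_inv := fun _ => rfl
        right_inv := fun _ => rfl
        map_mul' := fun _ _ => rfl }
    refine HasMass.congr (hA b φb fun _ => rfl) e
      { toFun := fun a => ⟨Tw.mk φ (b * a.val.1), show π (b * a.val.1) = (r j : Tw ψ).val by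
          rw [map_mul, a.val.2, mul_one, hb]⟩
        invFun := fun x => Tw.mk φb ⟨b⁻¹ * x.1.val, by
          rw [MonoidHom.mem_ker, map_mul, map_inv, hb]
          exact inv_mul_eq_one.2 (show (r j : Tw ψ).val = π x.1.val from x.2.symm)⟩
        left_inv := fun a => Subtype.ext (inv_mul_cancel_left b a.val.1)
        right_inv := fun x => Subtype.ext (mul_inv_cancel_left b x.1.val) } fun a x => Subtype.ext ?_
    change b * ((b⁻¹ * φ a.1 * b) * x.val.1 * a.1⁻¹) = φ a.1 * (b * x.val.1) * a.1⁻¹
    simp [mul_assoc]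

/-- One orbit. -/
theorem hasMass_of_transitive (φ : P →* P) (h : ∀ x : P, ∃ g : P, φ g * g⁻¹ = x)
    [Finite {g : P // φ g = g}] : HasMass P (Tw φ) ((Nat.card {g : P // φ g = g} : ℚ))⁻¹ := by
  have e : stabilizer P (Tw.mk φ 1) ≃ {g : P // φ g = g} := Equiv.subtypeEquivRight fun g => by
    change φ g * 1 * g⁻¹ = 1 ↔ φ g = g
    rw [mul_one, mul_inv_eq_one]
  have := HasMass.of_reps (G := P) (fun _ : Unit => Tw.mk φ 1) (fun _ _ _ _ => rfl)
    (fun x => ⟨(), (h x.val).choose, by
      change φ _ * 1 * _ = x.val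
      rw [mul_one, (h x.val).choose_spec]⟩)
    (fun x => by
      obtain ⟨g, hg⟩ := h x.val
      have hx : g • Tw.mk φ 1 = x := by change φ g * 1 * g⁻¹ = x.val; rw [mul_one, hg]
      haveI : Finite (stabilizer P (Tw.mk φ 1)) := Finite.of_equiv _ e.symm
      rw [← hx]
      exact Finite.of_equiv _ (stabilizerEquivStabilizer (G := P) (a := Tw.mk φ 1) (b := g • Tw.mk φ 1) rfl).toEquiv)
  simpa only [Fintype.sum_unique, Nat.card_congr e] using this

/-- A finite group has mass one. -/
theorem hasMass_of_finite_group [Finite P] (φ : P →* P) : HasMass P (Tw φ) 1 := by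
  haveI : Finite (Tw φ) := inferInstanceAs (Finite P)
  have h := hasMass_of_finite (G := P) (X := Tw φ)
  rwa [show Nat.card (Tw φ) = Nat.card P from rfl, div_self (Nat.cast_ne_zero.2 (Nat.card_pos (α := P)).ne')] at h

end twisted

end Groth.Agent.Lib.GalPts.Mass

namespace Groth.Agent.Lib.GalPts.Mass

open MulAction

/-- The mass of a twisted set with one orbit determines the number of fixed points. -/
theorem HasMass.card_fixed {P : Type u} [Group P] {φ : P →* P} {m : ℚ} (h : HasMass P (Tw φ) m)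
    (ht : ∀ x : P, ∃ g : P, φ g * g⁻¹ = x) :
    Finite {g : P // φ g = g} ∧ (Nat.card {g : P // φ g = g} : ℚ) = m⁻¹ := by
  have e : stabilizer P (Tw.mk φ 1) ≃ {g : P // φ g = g} := Equiv.subtypeEquivRight fun g => by
    change φ g * 1 * g⁻¹ = 1 ↔ φ g = g
    rw [mul_one, mul_inv_eq_one]
  haveI := h.finite_stabilizer (Tw.mk φ 1)
  haveI : Finite {g : P // φ g = g} := Finite.of_equiv _ e
  exact ⟨inferInstance, by rw [h.unique (hasMass_of_transitive φ ht), inv_inv]⟩

end Groth.Agent.Lib.GalPts.Mass
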