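import Groth.Agent.Lib.GalPts.Restrict

/-!
# Counts over finite extensions; the mass of `BG` for a finite group
-/

set_option autoImplicit false
universe u

open CategoryTheory CategoryTheory.Limits MonoidalCategory CartesianMonoidalCategory MonObj AlgebraicGeometry
open AlgSt (QuotObj QuotSt)

namespace Groth.Agent.Lib.GalPts

variable {k : Type u} [Field k]

theorem map_pt (k' : Type u) [Field k'] [Algebra k k'] :
    (Over.map (SGA7.pt (K := k) k').hom).obj (SGA7.pt (K := k') k') = SGA7.pt (K := k) k' := by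
  refine congrArg Over.mk ?_
  change (SGA7.pt (K := k') k').hom ≫ _ = _
  rw [pt_self_hom, Category.id_comp]
  rfl

/-- Reduction of a point count over an extension to the base changed action. -/
theorem ptCount_baseChange {G X : Over (Spec (CommRingCat.of k))} [GrpObj G] (aX : AlgGrp.Action G X)
    (k' : Type u) [Field k'] [Algebra k k']
    (h : StkCnt.IsEssFinite (StkCnt.pts (QuotSt Scheme.etalePrecoverage G aX) k')) :
    ∃ h' : StkCnt.IsEssFinite (StkCnt.pts (QuotSt Scheme.etalePrecoverage
        (Red.bc (SGA7.pt (K := k) k').hom G) (Restrict.bcAct (SGA7.pt (K := k) k').hom aX)) k'),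
      StkCnt.ptCount _ k' h' = StkCnt.ptCount (QuotSt Scheme.etalePrecoverage G aX) k' h :=
  Restrict.count_of_equivalence (Restrict.restrFunctor (SGA7.pt (K := k) k').hom (map_pt k')) h

theorem finite_pts_of_isFinite {G : Over (Spec (CommRingCat.of k))} [IsFinite G.hom] (L : Type u) [Field L]
    [Algebra k L] : Finite (SGA7.Pts L G) := by
  haveI : IsAffine G.left := isAffine_of_isAffineHom G.hom
  obtain ⟨φ, hφ⟩ := Spec.map_surjective (G.left.isoSpec.inv ≫ G.hom)
  have hfin : φ.hom.Finite := by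
    rw [← IsFinite.SpecMap_iff, hφ]
    infer_instance
  letI := φ.hom.toAlgebra
  haveI : Module.Finite k Γ(G.left, ⊤) := hfin
  refine Finite.of_injective (β := Γ(G.left, ⊤) →ₐ[k] L)
    (fun g => { (Spec.preimage (g.left ≫ G.left.isoSpec.hom)).hom with
      commutes' := fun a => by
        have : φ ≫ Spec.preimage (g.left ≫ G.left.isoSpec.hom) = CommRingCat.ofHom (algebraMap k L) := by
          apply Spec.map_injective
          rw [Spec.map_comp, Spec.map_preimage, hφ, Category.assoc, Iso.hom_inv_id_assoc]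
          exact Over.w g
        exact ConcreteCategory.congr_hom this a }) fun a b hab => ?_
  have h1 : Spec.preimage (a.left ≫ G.left.isoSpec.hom) = Spec.preimage (b.left ≫ G.left.isoSpec.hom) :=
    CommRingCat.hom_ext (congrArg AlgHom.toRingHom hab)
  have h2 := congrArg Spec.map h1
  rw [Spec.map_preimage, Spec.map_preimage, cancel_mono] at h2
  exact Over.OverMorphism.ext h2

/-- Orbit counting: the mass of the groupoid of a finite group acting on itself by twisted conjugation is one. -/
theorem sum_inv_stabilizer_eq_one {A : Type*} [Group A] [Finite A] (π : A →* A) {J : Type*} [Fintype J]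
    (b : J → A) (hdis : ∀ j j' g, π g * b j' = b j * g → j = j')
    (hall : ∀ a, ∃ j g, π g * a = b j * g) :
    ∑ j, (Nat.card {g : A // π g * b j = b j * g} : ℚ)⁻¹ = 1 := by
  classical
  haveI := Fintype.ofFinite A
  have key : ∀ a, ∃! j, ∃ g, π g * a = b j * g := fun a => by
    obtain ⟨j, g, hg⟩ := hall a
    refine ⟨j, ⟨g, hg⟩, fun j' ⟨g', hg'⟩ => hdis j' j (g' * g⁻¹) ?_⟩
    rw [map_mul, map_inv, ← _root_.mul_assoc (b j'), ← hg', _root_.mul_assoc (π g'), _root_.mul_assoc (π g')]
    congr 1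
    rw [inv_mul_eq_iff_eq_mul, ← _root_.mul_assoc, eq_mul_inv_iff_mul_eq, hg]
  choose cls hcls using fun a => (key a).exists
  have hfib : ∀ j, Nat.card {a // cls a = j} * Nat.card {g : A // π g * b j = b j * g} = Nat.card A := by
    intro j
    rw [← Nat.card_prod]
    have hmap : ∀ g, cls ((π g)⁻¹ * b j * g) = j := fun g =>
      (key _).unique (hcls _) ⟨g, by rw [_root_.mul_assoc, mul_inv_cancel_left]⟩
    have hrep : ∀ a : {a // cls a = j}, ∃ g, π g * a.1 = b j * g := fun a => by
      have := hcls a.1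
      rwa [a.2] at this
    choose f hf using hrep
    refine Nat.card_congr (Equiv.ofBijective (fun p => p.2.1 * f p.1) ⟨?_, fun g => ?_⟩)
    · rintro ⟨a, g⟩ ⟨a', g'⟩ h
      have hh : ∀ (x : {a // cls a = j}) (y : {g : A // π g * b j = b j * g}),
          π (y.1 * f x) * x.1 = b j * (y.1 * f x) := fun x y => by
        rw [map_mul, _root_.mul_assoc, hf, ← _root_.mul_assoc, y.2, _root_.mul_assoc]
      have h1 := hh a g
      have h2 := hh a' g'
      simp only at h
      rw [h] at h1
      obtain rfl : a = a' := Subtype.ext (mul_left_cancel (h1.trans h2.symm))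
      rw [Subtype.ext (mul_right_cancel h)]
    · let a : {a // cls a = j} := ⟨(π g)⁻¹ * b j * g, hmap g⟩
      refine ⟨⟨a, ⟨g * (f a)⁻¹, ?_⟩⟩, inv_mul_cancel_right _ _⟩
      have h1 := hf a
      rw [eq_comm, ← eq_inv_mul_iff_mul_eq] at h1
      rw [map_mul, map_inv]
      conv_rhs => rw [h1]
      simp only [a]
      group
  have hA : (Nat.card A : ℚ) ≠ 0 := Nat.cast_ne_zero.2 Nat.card_pos.ne'
  have hterm : ∀ j, (Nat.card {g : A // π g * b j = b j * g} : ℚ)⁻¹ = (Nat.card {a // cls a = j} : ℚ) / Nat.card A := by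
    intro j
    haveI : Nonempty {g : A // π g * b j = b j * g} := ⟨⟨1, by simp⟩⟩
    rw [← hfib j, Nat.cast_mul]
    have : (Nat.card {a // cls a = j} : ℚ) ≠ 0 := by
      intro h0
      apply hA
      rw [← hfib j, Nat.cast_mul, h0, zero_mul]
    rw [div_mul_cancel_left₀ this]
  simp_rw [hterm]
  rw [← Finset.sum_div, ← Nat.cast_sum, ← Nat.card_sigma, Nat.card_congr (Equiv.sigmaFiberEquiv cls),
    div_self hA]

/-- The mass of `B G` for a finite étale group. -/
theorem ptCount_quotSt_trivial [Finite k] {G X : Over (Spec (CommRingCat.of k))} [GrpObj G] [IsFinite G.hom]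
    [IsIso X.hom] (aX : AlgGrp.Action G X)
    (h : StkCnt.IsEssFinite (StkCnt.pts (QuotSt Scheme.etalePrecoverage G aX) k)) :
    StkCnt.ptCount (QuotSt Scheme.etalePrecoverage G aX) k h = 1 := by
  classical
  let kb := AlgebraicClosure k
  haveI := finite_pts_of_isFinite (G := G) kb
  let π : SGA7.Pts kb G →* SGA7.Pts kb G :=
    MonoidHom.mk' (fun g => SGA7.specAut (frob k kb) ≫ g) fun g g' => MonObj.comp_mul _ _ _
  let s : Setoid (SGA7.Pts kb G) := ⟨fun a a' => ∃ g, π g * a = a' * g,
    ⟨fun a => ⟨1, by simp⟩, fun {a a'} ⟨g, hg⟩ => ⟨g⁻¹, by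
      rw [map_inv, inv_mul_eq_iff_eq_mul, ← _root_.mul_assoc, eq_mul_inv_iff_mul_eq, hg]⟩,
      fun {a a' a''} ⟨g, hg⟩ ⟨g', hg'⟩ => ⟨g' * g, by
        rw [map_mul, _root_.mul_assoc, hg, ← _root_.mul_assoc, hg', _root_.mul_assoc]⟩⟩⟩
  letI : Fintype (Quotient s) := Fintype.ofFinite _
  have hd : ∀ (j j' : Quotient s) (g : SGA7.Pts kb G), π g * j'.out = j.out * g → j = j' := fun j j' g hg => by
    rw [← Quotient.out_eq j, ← Quotient.out_eq j']
    exact (Quotient.sound (s := s) (⟨g, hg⟩ : ∃ g, π g * j'.out = j.out * g)).symm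
  have ha : ∀ a : SGA7.Pts kb G, ∃ (j : Quotient s) (g : SGA7.Pts kb G), π g * a = j.out * g :=
    fun a => ⟨Quotient.mk s a, Quotient.exact (s := s) (Quotient.out_eq (Quotient.mk s a)).symm⟩
  rw [count_quotSt kb aX (fun j : Quotient s => j.out) hd ha h]
  rw [← sum_inv_stabilizer_eq_one π (fun j : Quotient s => j.out) hd ha]
  refine Finset.sum_congr rfl fun j _ => ?_
  haveI : Subsingleton (SGA7.Pts kb X) := ⟨fun x y => Over.OverMorphism.ext
    ((cancel_mono X.hom).1 ((Over.w x).trans (Over.w y).symm))⟩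
  let x₀ : SGA7.Pts kb X := Over.homMk ((SGA7.pt (K := k) kb).hom ≫ inv X.hom) (by
    rw [Category.assoc, IsIso.inv_hom_id, Category.comp_id])
  haveI : Unique {x : SGA7.Pts kb X // SGA7.specAut (frob k kb) ≫ x = lift j.out x ≫ aX.act} :=
    { default := ⟨x₀, Subsingleton.elim _ _⟩, uniq := fun x => Subtype.ext (Subsingleton.elim _ _) }
  rw [Nat.card_unique, Nat.cast_one, one_div]
  rfl

end Groth.Agent.Lib.GalPts
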