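import Groth.Agent.Lib.GalPts.Count
import Groth.Agent.Lib.GalPts.Mass

/-!
# The point count of `[X/G]` as the mass of `G(kb)` acting on the pairs `(b, x)` with `π x = b x`
-/

set_option autoImplicit false
universe u

open CategoryTheory CategoryTheory.Limits MonoidalCategory CartesianMonoidalCategory MonObj AlgebraicGeometry
open AlgSt (QuotObj QuotSt)

namespace Groth.Agent.Lib.GalPts

variable {k : Type u} [Field k] [Finite k] (kb : Type u) [Field kb] [Algebra k kb] [Algebra.IsAlgebraic k kb]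
  {G X : Over (Spec (CommRingCat.of k))} [GrpObj G] (aX : AlgGrp.Action G X)

/-- Pairs `(b, x)` with `π x = b x`. -/
def Pair : Type u :=
  {v : SGA7.Pts kb G × SGA7.Pts kb X // SGA7.specAut (frob k kb) ≫ v.2 = lift v.1 v.2 ≫ aX.act}

variable {kb aX}

noncomputable instance : MulAction (SGA7.Pts kb G) (Pair kb aX) where
  smul g v := ⟨((SGA7.specAut (frob k kb) ≫ g) * v.1.1 * g⁻¹, lift g v.1.2 ≫ aX.act), by
    rw [comp_lift_assoc, v.2, ← QuotSt.Act.mul_smul, ← QuotSt.Act.mul_smul, inv_mul_cancel_right]⟩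
  one_smul v := Subtype.ext (Prod.ext
    (show (SGA7.specAut (frob k kb) ≫ (1 : SGA7.Pts kb G)) * v.1.1 * 1⁻¹ = v.1.1 by
      rw [MonObj.comp_one, inv_one, _root_.mul_one]; exact _root_.one_mul _)
    (QuotSt.Act.one_smul aX v.1.2))
  mul_smul g h v := Subtype.ext (Prod.ext
    (show (SGA7.specAut (frob k kb) ≫ (g * h)) * v.1.1 * (g * h)⁻¹ =
        (SGA7.specAut (frob k kb) ≫ g) * ((SGA7.specAut (frob k kb) ≫ h) * v.1.1 * h⁻¹) * g⁻¹ by
      rw [MonObj.comp_mul, mul_inv_rev]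
      simp only [_root_.mul_assoc])
    (QuotSt.Act.mul_smul aX g h v.1.2))

theorem Pair.smul_fst (g : SGA7.Pts kb G) (v : Pair kb aX) :
    (g • v).1.1 = (SGA7.specAut (frob k kb) ≫ g) * v.1.1 * g⁻¹ := rfl

theorem Pair.smul_snd (g : SGA7.Pts kb G) (v : Pair kb aX) : (g • v).1.2 = lift g v.1.2 ≫ aX.act := rfl

variable (kb aX)

/-- **The point count is the mass of the pairs.** -/
theorem hasMass_pairs [IsAlgClosed kb] [IsAlgClosure k kb] [IsAffineHom G.hom] [LocallyOfFiniteType G.hom]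
    [QuasiCompact G.hom] [LocallyOfFiniteType X.hom] [QuasiCompact X.hom]
    (h : StkCnt.IsEssFinite (StkCnt.pts (QuotSt Scheme.etalePrecoverage G aX) k)) :
    Mass.HasMass (SGA7.Pts kb G) (Pair kb aX)
      (StkCnt.ptCount (QuotSt Scheme.etalePrecoverage G aX) k h) := by
  classical
  let C := StkCnt.pts (QuotSt Scheme.etalePrecoverage G aX) k
  haveI := h.finite_isoCl
  letI := Fintype.ofFinite (StkCnt.IsoCl C)
  have hiso : ∀ {c d : C} (m : c ⟶ d), IsIso m := fun m => QuotSt.PointCount.isIso_fiber m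
  have hfr : ∀ c : C, ∃ v : Pair kb aX, ∃ F : Frame kb c.1, v.1 = (F.b, F.p ≫ c.1.φ) := fun c => by
    obtain ⟨F⟩ := exists_frame kb c.1 c.2
    exact ⟨⟨(F.b, F.p ≫ c.1.φ), F.x_rel⟩, F, rfl⟩
  choose r F hr using hfr
  have hsmul : ∀ (c d : C) (g : SGA7.Pts kb G), g • r d = r c ↔
      ((SGA7.specAut (frob k kb) ≫ g) * (F d).b = (F c).b * g ∧
        lift g ((F d).p ≫ d.1.φ) ≫ aX.act = (F c).p ≫ c.1.φ) := fun c d g =>
    Subtype.ext_iff.trans (Prod.ext_iff.trans ((Iff.of_eq (congrArg₂ And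
      (congrArg₂ (fun u v : SGA7.Pts kb G × SGA7.Pts kb X =>
        (SGA7.specAut (frob k kb) ≫ g) * u.1 * g⁻¹ = v.1) (hr d) (hr c))
      (congrArg₂ (fun u v : SGA7.Pts kb G × SGA7.Pts kb X => lift g u.2 ≫ aX.act = v.2) (hr d) (hr c)))).trans
      (and_congr_left' mul_inv_eq_iff_eq_mul)))
  have hhom : ∀ c d : C, Nonempty ((c ⟶ d) ≃ {g : SGA7.Pts kb G // g • r d = r c}) := fun c d => by
    obtain ⟨e⟩ := exists_homEquiv rfl c d (F c) (F d)
    exact ⟨e.trans (Equiv.subtypeEquivRight fun g => (hsmul c d g).symm)⟩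
  have hcov : ∀ v : Pair kb aX, ∃ (q : StkCnt.IsoCl C) (g : SGA7.Pts kb G), g • r q.out = v := fun v => by
    obtain ⟨A, hA, Fa, hb, hx⟩ := exists_framed (aX := aX) v.1.1 v.1.2 v.2
    let c : C := ⟨A, hA⟩
    obtain ⟨i⟩ := (Quotient.mk_out (s := isIsomorphicSetoid C) c : IsIsomorphic _ c)
    obtain ⟨e⟩ := exists_homEquiv rfl c (StkCnt.IsoCl.mk c).out Fa (F (StkCnt.IsoCl.mk c).out)
    refine ⟨StkCnt.IsoCl.mk c, (e i.inv).1, Subtype.ext (Prod.ext ?_ ?_)⟩
    · refine (congrArg (fun u : SGA7.Pts kb G × SGA7.Pts kb X =>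
        (SGA7.specAut (frob k kb) ≫ (e i.inv).1) * u.1 * (e i.inv).1⁻¹) (hr _)).trans ?_
      exact (mul_inv_eq_iff_eq_mul.2 (e i.inv).2.1).trans hb
    · refine (congrArg (fun u : SGA7.Pts kb G × SGA7.Pts kb X => lift (e i.inv).1 u.2 ≫ aX.act) (hr _)).trans ?_
      exact (e i.inv).2.2.trans hx
  have hfin : ∀ v : Pair kb aX, Finite (MulAction.stabilizer (SGA7.Pts kb G) v) := fun v => by
    obtain ⟨q, g, hg⟩ := hcov v
    obtain ⟨e⟩ := hhom q.out q.out
    haveI := h.finite_hom q.out q.out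
    haveI : Finite (MulAction.stabilizer (SGA7.Pts kb G) (r q.out)) := Finite.of_equiv _ e
    rw [← hg]
    exact Finite.of_equiv _ (MulAction.stabilizerEquivStabilizer (G := SGA7.Pts kb G) (a := r q.out) (b := g • r q.out) rfl).toEquiv
  have hmass := Mass.HasMass.of_reps (fun q : StkCnt.IsoCl C => r q.out) (fun q q' g hg => by
    obtain ⟨e⟩ := hhom q'.out q.out
    have m : q'.out ⟶ q.out := e.symm ⟨g, hg⟩
    rw [← Quotient.out_eq q, ← Quotient.out_eq q']
    exact (Quotient.sound (⟨@asIso _ _ _ _ m (hiso m)⟩ : IsIsomorphic q'.out q.out)).symm) hcov hfin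
  convert hmass using 1
  change StkCnt.count C h = _
  rw [StkCnt.count_eq_sum h]
  refine Finset.sum_congr rfl fun q _ => ?_
  conv_lhs => rw [← Quotient.out_eq q]
  obtain ⟨e⟩ := hhom q.out q.out
  let eA : Aut q.out ≃ MulAction.stabilizer (SGA7.Pts kb G) (r q.out) :=
    (Equiv.ofBijective (fun e : Aut q.out => e.hom)
      ⟨fun _ _ e => Iso.ext e, fun m => ⟨@asIso _ _ _ _ m (hiso m), rfl⟩⟩).trans
      (e.trans (Equiv.subtypeEquivRight fun g => MulAction.mem_stabilizer_iff.symm))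
  change ((Nat.card (Aut q.out) : ℕ) : ℚ)⁻¹ = _
  rw [Nat.card_congr eA]

end Groth.Agent.Lib.GalPts
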