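import Mathlib.FieldTheory.IsAlgClosed.Basic
import Mathlib.LinearAlgebra.FiniteDimensional.Lemmas
import Mathlib.Algebra.CharP.Lemmas
import Mathlib.LinearAlgebra.Matrix.Charpoly.Coeff
import Mathlib.LinearAlgebra.Dimension.DivisionRing
import Mathlib.LinearAlgebra.Dimension.OrzechProperty

/-!
# Fixed vectors of semilinear maps for a power of the characteristic
-/

set_option autoImplicit false
universe u

namespace Groth.Agent.Lib.GalPts.Semilinear

variable {k : Type u} [Field k] (p : ℕ) [Fact p.Prime] [CharP k p] [IsAlgClosed k]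
  {V : Type u} [AddCommGroup V] [Module k V]

theorem exists_fixed_ne_zero [FiniteDimensional k V] (n : ℕ) (hn : 0 < n) (F : V →+ V)
    (hF : ∀ (c : k) (v : V), F (c • v) = c ^ (p ^ n) • F v) (hi : Function.Injective F) (v : V)
    (hv : v ≠ 0) : ∃ x : V, x ≠ 0 ∧ F x = x := by
  classical
  let S : ℕ → Submodule k V := fun m =>
    Submodule.span k (Set.range fun i : Fin m => F^[(i : ℕ)] v)
  have hex : ∃ m, F^[m] v ∈ S m := by
    by_contra hne
    simp only [not_exists] at hne
    have key : ∀ m, m ≤ Module.finrank k (S m) := by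
      intro m
      induction m with
      | zero => simp
      | succ m ih =>
        refine Nat.succ_le_of_lt (lt_of_le_of_lt ih (Submodule.finrank_lt_finrank_of_lt ?_))
        refine lt_of_le_of_ne (Submodule.span_mono ?_) fun he => hne m ?_
        · rintro _ ⟨i, rfl⟩; exact ⟨i.castSucc, rfl⟩
        · rw [he]; exact Submodule.subset_span ⟨Fin.last m, rfl⟩
    have := (key (Module.finrank k V + 1)).trans (Submodule.finrank_le _)
    omega
  obtain ⟨M, hM, hmin⟩ : ∃ M, F^[M + 1] v ∈ S (M + 1) ∧ F^[M] v ∉ S M := by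
    have hpos : Nat.find hex ≠ 0 := by
      intro h0
      have := Nat.find_spec hex
      rw [h0] at this
      exact hv (by simpa [S] using this)
    obtain ⟨M, hM⟩ := Nat.exists_eq_succ_of_ne_zero hpos
    refine ⟨M, ?_, Nat.find_min hex (by omega)⟩
    have := Nat.find_spec hex
    rwa [hM] at this
  obtain ⟨a', ha'⟩ := (Submodule.mem_span_range_iff_exists_fun k).1 hM
  let a : ℕ → k := fun i => if h : i < M + 1 then a' ⟨i, h⟩ else 0
  have hrel : ∑ i ∈ Finset.range (M + 1), a i • F^[i] v = F^[M + 1] v := by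
    rw [← ha', Finset.sum_range]
    exact Finset.sum_congr rfl fun i _ => by simp [a, i.is_lt, Nat.le_of_lt_succ i.is_lt]
  obtain ⟨j₀, hj₀, hane⟩ : ∃ j ∈ Finset.range (M + 1), a j ≠ 0 := by
    by_contra hne
    simp only [not_exists, not_and, not_not] at hne
    rw [Finset.sum_eq_zero fun j hj => by rw [hne j hj, zero_smul]] at hrel
    apply hv
    have hit : Function.Injective (F^[M + 1]) := hi.iterate _
    apply hit
    rw [← hrel]
    exact (Function.iterate_fixed (map_zero F) _).symm
  have hp : 1 < p ^ n := Nat.one_lt_pow (by omega) (Fact.out : p.Prime).one_lt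
  set q := p ^ n with hqdef
  let Q : Polynomial k := ∑ j ∈ Finset.range (M + 1),
    Polynomial.C (a j ^ q ^ (M - j)) * Polynomial.X ^ (q ^ (M - j + 1) - 1) - 1
  have hexp : ∀ j, 0 < q ^ (M - j + 1) - 1 := fun j => by
    have : 1 < q ^ (M - j + 1) := Nat.one_lt_pow (by omega) hp
    omega
  have hQ : Q.degree ≠ 0 := by
    intro hdeg
    have hc : Q.coeff (q ^ (M - j₀ + 1) - 1) = 0 := by
      apply Polynomial.coeff_eq_zero_of_degree_lt
      rw [hdeg]
      exact_mod_cast hexp j₀
    rw [Polynomial.coeff_sub, Polynomial.finsetSum_coeff, Finset.sum_eq_single j₀,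
      Polynomial.coeff_C_mul_X_pow, if_pos rfl, Polynomial.coeff_one, if_neg (hexp j₀).ne',
      sub_zero] at hc
    · exact hane (eq_zero_of_pow_eq_zero hc)
    · intro j hj hne
      rw [Polynomial.coeff_C_mul_X_pow, if_neg]
      intro he
      have h1 : 0 < q ^ (M - j + 1) := Nat.pow_pos (by omega)
      have h2 : 0 < q ^ (M - j₀ + 1) := Nat.pow_pos (by omega)
      have := Nat.pow_right_injective hp (show q ^ (M - j + 1) = q ^ (M - j₀ + 1) by omega)
      simp only [Finset.mem_range] at hj hj₀
      omega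
    · exact fun h => absurd hj₀ h
  obtain ⟨t, ht⟩ := IsAlgClosed.exists_root Q hQ
  have hQt : ∑ j ∈ Finset.range (M + 1), a j ^ q ^ (M - j) * t ^ (q ^ (M - j + 1) - 1) = 1 := by
    have h := ht
    simp only [Polynomial.IsRoot, Q, Polynomial.eval_sub, Polynomial.eval_finsetSum,
      Polynomial.eval_mul, Polynomial.eval_C, Polynomial.eval_pow, Polynomial.eval_X,
      Polynomial.eval_one] at h
    exact sub_eq_zero.1 h
  have ht0 : t ≠ 0 := by
    intro h0
    rw [h0, Finset.sum_eq_zero fun j _ => by rw [zero_pow (hexp j).ne', mul_zero]] at hQt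
    exact zero_ne_one hQt
  let c : ℕ → k := fun i =>
    ∑ j ∈ Finset.range (i + 1), a j ^ q ^ (i - j) * t ^ q ^ (i - j + 1)
  have hc0 : c 0 = a 0 * t ^ q := by simp [c]
  have hcs : ∀ i, c (i + 1) = c i ^ q + a (i + 1) * t ^ q := by
    intro i
    simp only [c]
    rw [Finset.sum_range_succ, hqdef, sum_pow_char_pow, ← hqdef]
    congr 1
    · refine Finset.sum_congr rfl fun j hj => ?_
      simp only [Finset.mem_range] at hj
      rw [show i + 1 - j = i - j + 1 by omega]
      simp only [hqdef, mul_pow, ← pow_mul, ← pow_add]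
      ring_nf
    · simp
  have hcM : c M = t := by
    conv_rhs => rw [← one_mul t, ← hQt, Finset.sum_mul]
    refine Finset.sum_congr rfl fun j _ => ?_
    rw [mul_assoc, ← pow_succ, Nat.sub_add_cancel (Nat.one_le_pow _ _ (by omega))]
  refine ⟨∑ i ∈ Finset.range (M + 1), c i • F^[i] v, ?_, ?_⟩
  · intro h0
    rw [Finset.sum_range_succ, hcM, add_comm, add_eq_zero_iff_eq_neg] at h0
    apply hmin
    have : t • F^[M] v ∈ S M := by
      rw [h0]
      exact Submodule.neg_mem _ (Submodule.sum_mem _ fun i hi =>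
        Submodule.smul_mem _ _ (Submodule.subset_span ⟨⟨i, Finset.mem_range.1 hi⟩, rfl⟩))
    simpa [smul_smul, inv_mul_cancel₀ ht0] using (S M).smul_mem t⁻¹ this
  · simp only [map_sum, hF, ← Function.iterate_succ_apply' (⇑F)]
    rw [Finset.sum_range_succ, hcM, Nat.succ_eq_add_one, ← hrel, Finset.sum_range_succ',
      Finset.sum_range_succ', hc0, smul_add, Finset.smul_sum, ← add_assoc, ← Finset.sum_add_distrib]
    congr 1
    · exact Finset.sum_congr rfl fun i _ => by rw [hcs, add_smul, smul_smul, mul_comm]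
    · rw [smul_smul, mul_comm]

end Groth.Agent.Lib.GalPts.Semilinear

namespace Groth.Agent.Lib.GalPts.Semilinear

variable {k : Type u} [Field k] (p : ℕ) [Fact p.Prime] [CharP k p] [IsAlgClosed k]
  {V : Type u} [AddCommGroup V] [Module k V]

omit [CharP k p] [IsAlgClosed k] in
theorem injective_of_surjective [FiniteDimensional k V] (n : ℕ) (F : V →+ V)
    (hF : ∀ (c : k) (v : V), F (c • v) = c ^ (p ^ n) • F v) (hs : Function.Surjective F) :
    Function.Injective F := by
  set B := Module.finBasis k V
  have hspan : ⊤ ≤ Submodule.span k (Set.range fun i => F (B i)) := by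
    rintro w -
    obtain ⟨v, rfl⟩ := hs w
    rw [← B.sum_repr v, map_sum]
    exact Submodule.sum_mem _ fun i _ => by
      rw [hF]; exact Submodule.smul_mem _ _ (Submodule.subset_span ⟨i, rfl⟩)
  have hli := linearIndependent_of_top_le_span_of_card_eq_finrank hspan (Fintype.card_fin _)
  rw [injective_iff_map_eq_zero]
  intro v hv
  rw [← B.sum_repr v, map_sum] at hv
  simp only [hF] at hv
  have h := Fintype.linearIndependent_iff.1 hli _ hv
  rw [← B.sum_repr v]
  refine Finset.sum_eq_zero fun i _ => ?_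
  rw [eq_zero_of_pow_eq_zero (h i), zero_smul]

end Groth.Agent.Lib.GalPts.Semilinear
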