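import Groth.Agent.Lib.GalPts.Desc
import Groth.Agent.Lib.GalDescent.TwistDatum
import Groth.Agent.Lib.QuotSt.Atlas
import Mathlib.RingTheory.Etale.Field

/-!
# The object of `[X/G]` of a Galois cocycle
-/

set_option autoImplicit false
universe u

open CategoryTheory CategoryTheory.Limits MonoidalCategory CartesianMonoidalCategory MonObj AlgebraicGeometry

namespace Groth.Agent.Lib.GalPts

variable {k : Type u} [Field k] (E : Type u) [Field E] [Algebra k E]
  {G : Over (Spec (CommRingCat.of k))} [GrpObj G]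

/-- Right multiplication by a point, on `G ⊗ Spec E`. -/
noncomputable def rr (d : SGA7.Pts E G) : G ⊗ SGA7.pt (K := k) E ⟶ G ⊗ SGA7.pt (K := k) E :=
  lift (fst G (SGA7.pt (K := k) E) * (snd G (SGA7.pt (K := k) E) ≫ d)) (snd G (SGA7.pt (K := k) E))

theorem rr_snd (d : SGA7.Pts E G) : rr E d ≫ snd _ _ = snd _ _ := lift_snd _ _

theorem rr_fst (d : SGA7.Pts E G) :
    rr E d ≫ fst _ _ = fst G (SGA7.pt (K := k) E) * (snd G (SGA7.pt (K := k) E) ≫ d) := lift_fst _ _

theorem rr_one : rr E (1 : SGA7.Pts E G) = 𝟙 _ := by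
  apply CartesianMonoidalCategory.hom_ext
  · rw [rr_fst, MonObj.comp_one, _root_.mul_one, Category.id_comp]
  · rw [rr_snd, Category.id_comp]

theorem rr_comp (d e : SGA7.Pts E G) : rr E d ≫ rr E e = rr E (d * e) := by
  apply CartesianMonoidalCategory.hom_ext
  · rw [Category.assoc, rr_fst, MonObj.comp_mul, ← Category.assoc (rr E d), rr_snd, rr_fst, rr_fst,
      MonObj.comp_mul, _root_.mul_assoc]
  · rw [Category.assoc, rr_snd, rr_snd, rr_snd]

theorem whisker_rr (σ : E ≃ₐ[k] E) (d : SGA7.Pts E G) :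
    (G ◁ SGA7.specAut σ) ≫ rr E d = rr E (SGA7.specAut σ ≫ d) ≫ (G ◁ SGA7.specAut σ) := by
  apply CartesianMonoidalCategory.hom_ext
  · rw [Category.assoc, rr_fst, MonObj.comp_mul, whiskerLeft_fst, whiskerLeft_snd_assoc, Category.assoc,
      whiskerLeft_fst, rr_fst]
  · rw [Category.assoc, rr_snd, Category.assoc, whiskerLeft_snd, ← Category.assoc, rr_snd]

/-- `rr` as an automorphism of `G_E` over `E`. -/
noncomputable def rrAut (d : SGA7.Pts E G) : Aut (GalTw.bcK E G) where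
  hom := Over.homMk (rr E d).left (congrArg CommaMorphism.left (rr_snd E d))
  inv := Over.homMk (rr E d⁻¹).left (congrArg CommaMorphism.left (rr_snd E d⁻¹))
  hom_inv_id := Over.OverMorphism.ext (show (rr E d ≫ rr E d⁻¹).left =
      Over.Hom.left (𝟙 (G ⊗ SGA7.pt (K := k) E)) by rw [rr_comp, mul_inv_cancel, rr_one])
  inv_hom_id := Over.OverMorphism.ext (show (rr E d⁻¹ ≫ rr E d).left =
      Over.Hom.left (𝟙 (G ⊗ SGA7.pt (K := k) E)) by rw [rr_comp, inv_mul_cancel, rr_one])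

variable [FiniteDimensional k E] [IsGalois k E]

/-- The representing object of twisted-invariant maps. -/
theorem exists_rep [IsAffineHom G.hom] (c : (E ≃ₐ[k] E) → SGA7.Pts E G)
    (hc : ∀ σ τ, c (σ * τ) = c σ * σ • c τ) :
    ∃ (Y : Over (Spec (CommRingCat.of k))) (u : Y ⊗ SGA7.pt (K := k) E ⟶ G),
      (∀ σ, (Y ◁ SGA7.specAut σ) ≫ u = u * (snd _ _ ≫ c σ)) ∧
      (∀ (T : Over (Spec (CommRingCat.of k))) (f : T ⊗ SGA7.pt (K := k) E ⟶ G),
        (∀ σ, (T ◁ SGA7.specAut σ) ≫ f = f * (snd _ _ ≫ c σ)) →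
          ∃! y : T ⟶ Y, (y ▷ SGA7.pt (K := k) E) ≫ u = f) ∧
      ∃ p : SGA7.Pts E Y, lift p (𝟙 _) ≫ u = 1 := by
  let a : GpH1.OneCocycle (E ≃ₐ[k] E) (Aut (GalTw.bcK E G)) := ⟨fun σ => rrAut E (c σ)⁻¹, fun σ τ => by
    refine Iso.ext (Over.OverMorphism.ext ?_)
    change (rr E (c (σ * τ))⁻¹).left =
      (GalTw.galMap E σ G ≫ (rr E (c τ)⁻¹).left ≫ GalTw.galMap E σ⁻¹ G) ≫ (rr E (c σ)⁻¹).left
    rw [← whisker_specAut_left, ← whisker_specAut_left, ← Over.comp_left, ← Over.comp_left, ← Over.comp_left]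
    congr 1
    rw [← Category.assoc (G ◁ SGA7.specAut σ), whisker_rr, Category.assoc (rr E _),
      ← MonoidalCategory.whiskerLeft_comp, ← GalTw.specAut_mul, mul_inv_cancel, GalTw.specAut_one,
      MonoidalCategory.whiskerLeft_id, Category.comp_id, rr_comp, hc, _root_.mul_inv_rev, GalTw.pts_smul_def, ← GrpObj.comp_inv]⟩
  obtain ⟨Y, -, -, φ, hφ⟩ := GalDescent.TwistDatum.exists_isTwist_of_isAffineHom E G a
  let Φ : Y ⊗ SGA7.pt (K := k) E ≅ G ⊗ SGA7.pt (K := k) E :=
    Over.isoMk ((Over.forget _).mapIso φ) (by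
      change φ.hom.left ≫ (G ⊗ SGA7.pt (K := k) E).hom = _
      rw [← Over.w (snd Y (SGA7.pt (K := k) E)), ← Over.w (snd G (SGA7.pt (K := k) E)), ← Category.assoc]
      exact congrArg (· ≫ (SGA7.pt (K := k) E).hom) (Over.w φ.hom))
  have hsnd : Φ.hom ≫ snd _ _ = snd _ _ := Over.OverMorphism.ext (Over.w φ.hom)
  have hsnd' : Φ.inv ≫ snd _ _ = snd _ _ := by rw [Iso.inv_comp_eq, hsnd]
  have hΦ : ∀ σ, (Y ◁ SGA7.specAut σ) ≫ Φ.hom = Φ.hom ≫ rr E (c σ) ≫ (G ◁ SGA7.specAut σ) := by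
    intro σ
    have h1 : GalTw.twHom σ φ.hom ≫ (a σ).hom = φ.hom := by
      rw [← hφ σ, GalTw.cocycle_apply_hom]
      exact (GalTw.twIso σ φ).hom_inv_id_assoc φ.hom
    have h2 := congrArg CommaMorphism.left h1
    change (GalTw.galMap E σ Y ≫ φ.hom.left ≫ GalTw.galMap E σ⁻¹ G) ≫ (rr E (c σ)⁻¹).left = φ.hom.left at h2
    rw [← whisker_specAut_left, ← whisker_specAut_left] at h2
    have h3 : ((Y ◁ SGA7.specAut σ) ≫ Φ.hom ≫ (G ◁ SGA7.specAut σ⁻¹)) ≫ rr E (c σ)⁻¹ = Φ.hom :=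
      Over.OverMorphism.ext h2
    conv_rhs => rw [← h3]
    simp only [Category.assoc]
    rw [← Category.assoc (rr E (c σ)⁻¹), rr_comp, inv_mul_cancel, rr_one, Category.id_comp,
      ← MonoidalCategory.whiskerLeft_comp, ← GalTw.specAut_mul, inv_mul_cancel, GalTw.specAut_one,
      MonoidalCategory.whiskerLeft_id, Category.comp_id]
  have hΦ' : ∀ σ, rr E (c σ) ≫ (G ◁ SGA7.specAut σ) ≫ Φ.inv = Φ.inv ≫ (Y ◁ SGA7.specAut σ) := fun σ => by
    rw [Iso.eq_inv_comp, ← reassoc_of% hΦ σ, Iso.hom_inv_id, Category.comp_id]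
  refine ⟨Y, Φ.hom ≫ fst _ _, fun σ => ?_, fun T f hf => ?_, lift (1 : SGA7.Pts E G) (𝟙 _) ≫ Φ.inv ≫ fst _ _, ?_⟩
  · rw [reassoc_of% hΦ σ, whiskerLeft_fst, rr_fst, MonObj.comp_mul, ← Category.assoc _ (snd _ _), hsnd]
  · have hl : ∀ σ, (T ◁ SGA7.specAut σ) ≫ lift f (snd T (SGA7.pt (K := k) E)) =
        lift f (snd T (SGA7.pt (K := k) E)) ≫ rr E (c σ) ≫ (G ◁ SGA7.specAut σ) := fun σ => by
      apply CartesianMonoidalCategory.hom_ext
      · rw [Category.assoc, lift_fst, hf, Category.assoc, Category.assoc, whiskerLeft_fst, rr_fst,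
          MonObj.comp_mul, lift_fst, lift_snd_assoc]
      · rw [Category.assoc, lift_snd, whiskerLeft_snd, Category.assoc, Category.assoc, whiskerLeft_snd,
          ← Category.assoc (rr E _), rr_snd, lift_snd_assoc]
    obtain ⟨y, hy⟩ := exists_desc E (lift f (snd T (SGA7.pt (K := k) E)) ≫ Φ.inv ≫ fst _ _) fun σ => by
      rw [reassoc_of% hl σ, reassoc_of% hΦ' σ, whiskerLeft_fst]
    refine ⟨y, ?_, fun y' hy' => fst_cancel E ?_⟩
    · have : (y ▷ SGA7.pt (K := k) E) = lift f (snd T (SGA7.pt (K := k) E)) ≫ Φ.inv := by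
        apply CartesianMonoidalCategory.hom_ext
        · rw [whiskerRight_fst, hy, Category.assoc]
        · rw [whiskerRight_snd, Category.assoc, hsnd', lift_snd]
      change (y ▷ _) ≫ Φ.hom ≫ fst _ _ = f
      rw [this, Category.assoc, Iso.inv_hom_id_assoc, lift_fst]
    · rw [hy]
      have : (y' ▷ SGA7.pt (K := k) E) ≫ Φ.hom = lift f (snd T (SGA7.pt (K := k) E)) := by
        apply CartesianMonoidalCategory.hom_ext
        · rw [Category.assoc, hy', lift_fst]
        · rw [Category.assoc, hsnd, whiskerRight_snd, lift_snd]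
      rw [← this, Category.assoc, Iso.hom_inv_id_assoc, whiskerRight_fst]
  · have : lift (lift (1 : SGA7.Pts E G) (𝟙 _) ≫ Φ.inv ≫ fst _ _) (𝟙 _) =
        lift (1 : SGA7.Pts E G) (𝟙 _) ≫ Φ.inv := by
      apply CartesianMonoidalCategory.hom_ext
      · rw [lift_fst, Category.assoc]
      · rw [lift_snd, Category.assoc, hsnd', lift_snd]
    rw [this, Category.assoc, Iso.inv_hom_id_assoc, lift_fst]

open AlgSt in
/-- The object of `[X/G]` over `Spec k` attached to a cocycle and a compatible point. -/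
theorem exists_obj [IsAffineHom G.hom] {X : Over (Spec (CommRingCat.of k))} (aX : AlgGrp.Action G X)
    (c : (E ≃ₐ[k] E) → SGA7.Pts E G) (hc : ∀ σ τ, c (σ * τ) = c σ * σ • c τ)
    (x : SGA7.Pts E X) (hx : ∀ σ, lift (c σ) (SGA7.specAut σ ≫ x) ≫ aX.act = x) :
    ∃ (A : QuotObj Scheme.etalePrecoverage G aX) (_ : A.base = SGA7.pt (K := k) k) (p : SGA7.Pts E A.P),
      (∀ σ, lift (c σ) (SGA7.specAut σ ≫ p) ≫ A.act.act = p) ∧ p ≫ A.φ = x := by
  obtain ⟨Y, u, hu, huniv, p, hp⟩ := exists_rep E c hc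
  have ext : ∀ {W : Over (Spec (CommRingCat.of k))} {q q' : W ⟶ Y},
      lift (fst W (SGA7.pt (K := k) E) ≫ q) (snd W (SGA7.pt (K := k) E)) ≫ u = lift (fst W (SGA7.pt (K := k) E) ≫ q') (snd W (SGA7.pt (K := k) E)) ≫ u → q = q' := by
    intro W q q' h
    have hr : ∀ r : W ⟶ Y, (r ▷ (SGA7.pt (K := k) E)) = lift (fst W (SGA7.pt (K := k) E) ≫ r) (snd W (SGA7.pt (K := k) E)) := fun r => by
      apply CartesianMonoidalCategory.hom_ext <;> simp
    have hinv : ∀ σ, (W ◁ SGA7.specAut σ) ≫ (q ▷ (SGA7.pt (K := k) E)) ≫ u = (q ▷ (SGA7.pt (K := k) E)) ≫ u * (snd _ _ ≫ c σ) := fun σ => by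
      rw [MonoidalCategory.whisker_exchange_assoc, hu, MonObj.comp_mul, whiskerRight_snd_assoc]
    exact (huniv W _ hinv).unique rfl (by rw [hr, hr, h])
  obtain ⟨act, hact, -⟩ := huniv (G ⊗ Y) ((fst (G ⊗ Y) (SGA7.pt (K := k) E) ≫ fst G Y) * ((snd G Y ▷ (SGA7.pt (K := k) E)) ≫ u)) fun σ => by
    rw [MonObj.comp_mul, whiskerLeft_fst_assoc, MonoidalCategory.whisker_exchange_assoc, hu, MonObj.comp_mul,
      whiskerRight_snd_assoc, _root_.mul_assoc]
  have hua : ∀ {W : Over (Spec (CommRingCat.of k))} (g : W ⟶ G) (q : W ⟶ Y) (t : W ⟶ (SGA7.pt (K := k) E)),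
      lift (lift g q ≫ act) t ≫ u = g * (lift q t ≫ u) := by
    intro W g q t
    have h := congrArg (lift (lift g q) t ≫ ·) hact
    simp only [MonObj.comp_mul, lift_fst_assoc, lift_fst] at h
    rw [← Category.assoc, ← Category.assoc, lift_whiskerRight, lift_whiskerRight, lift_snd] at h
    exact h
  let aY : AlgGrp.Action G Y :=
    { act := act
      one_act := by
        refine ext ?_
        rw [leftUnitor_hom, show (η[G] ▷ Y) = lift (toUnit _ ≫ η[G]) (snd _ _) from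
          CartesianMonoidalCategory.hom_ext _ _ (by rw [whiskerRight_fst, lift_fst, toUnit_unique (fst _ _)])
            (by rw [whiskerRight_snd, lift_snd]), comp_lift_assoc, hua, ← Category.assoc, comp_toUnit,
          show toUnit ((𝟙_ _ ⊗ Y) ⊗ (SGA7.pt (K := k) E)) ≫ η[G] = 1 from (Hom.one_def).symm, _root_.one_mul]
      mul_act := by
        refine ext ?_
        rw [show (μ[G] ▷ Y) = lift (fst _ _ ≫ μ[G]) (snd _ _) from
          CartesianMonoidalCategory.hom_ext _ _ (by rw [whiskerRight_fst, lift_fst])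
            (by rw [whiskerRight_snd, lift_snd]), comp_lift_assoc, hua, ← Category.assoc (α_ G G Y).hom]
        rw [show (α_ G G Y).hom ≫ (G ◁ act) = lift (fst _ _ ≫ fst _ _) (lift (fst _ _ ≫ snd _ _) (snd _ _) ≫ act) from
            by
              apply CartesianMonoidalCategory.hom_ext
              · simp
              · rw [Category.assoc, whiskerLeft_snd, lift_snd, ← Category.assoc]
                congr 1
                apply CartesianMonoidalCategory.hom_ext <;> simp,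
          comp_lift_assoc, hua, comp_lift_assoc, hua, ← _root_.mul_assoc]
        congr 1
        rw [show μ[G] = fst G G * snd G G from by simp [Hom.mul_def], MonObj.comp_mul, MonObj.comp_mul] }
  obtain ⟨φ, hφ⟩ := exists_desc E (lift u (snd Y (SGA7.pt (K := k) E) ≫ x) ≫ aX.act) fun σ => by
    rw [comp_lift_assoc, hu, whiskerLeft_snd_assoc, QuotSt.Act.mul_smul, ← comp_lift_assoc, hx]
  have hφu : ∀ {W : Over (Spec (CommRingCat.of k))} (q : W ⟶ Y) (t : W ⟶ (SGA7.pt (K := k) E)),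
      q ≫ φ = lift (lift q t ≫ u) (t ≫ x) ≫ aX.act := fun q t => by
    have h := congrArg (lift q t ≫ ·) hφ
    simp only [lift_fst_assoc, comp_lift_assoc, lift_snd_assoc] at h
    exact h
  have hdiv : ∀ {W : Over (Spec (CommRingCat.of k))} (q q' : W ⟶ Y),
      ∃! g : W ⟶ G, lift g q' ≫ act = q := by
    intro W q q'
    have hr : ∀ (r : W ⟶ Y) σ, (W ◁ SGA7.specAut σ) ≫ lift (fst W (SGA7.pt (K := k) E) ≫ r) (snd W (SGA7.pt (K := k) E)) ≫ u =
        lift (fst W (SGA7.pt (K := k) E) ≫ r) (snd W (SGA7.pt (K := k) E)) ≫ u * (snd _ _ ≫ c σ) := fun r σ => by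
      rw [comp_lift_assoc, whiskerLeft_fst_assoc, whiskerLeft_snd]
      have h := congrArg (lift (fst W (SGA7.pt (K := k) E) ≫ r) (snd W (SGA7.pt (K := k) E)) ≫ ·) (hu σ)
      simp only [MonObj.comp_mul, lift_snd_assoc] at h
      rw [← Category.assoc, lift_whiskerLeft] at h
      exact h
    obtain ⟨g, hg⟩ := exists_desc E
      ((lift (fst W (SGA7.pt (K := k) E) ≫ q) (snd W (SGA7.pt (K := k) E)) ≫ u) * (lift (fst W (SGA7.pt (K := k) E) ≫ q') (snd W (SGA7.pt (K := k) E)) ≫ u)⁻¹) fun σ => by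
      rw [MonObj.comp_mul, GrpObj.comp_inv, hr, hr]
      group
    refine ⟨g, ext ?_, fun g' hg' => fst_cancel E ?_⟩
    · rw [comp_lift_assoc, hua, hg, inv_mul_cancel_right]
    · rw [hg, ← hg', comp_lift_assoc, hua, mul_inv_cancel_right]
  refine ⟨{ base := SGA7.pt (K := k) k, P := Y, act := aY, π := toPt Y, φ := φ,
            cart := ?_, loc := ?_, eqv := ?_ }, rfl, p, ?_, ?_⟩
  · refine ⟨⟨toPt_unique _ _⟩, ⟨PullbackCone.IsLimit.mk _
      (fun s => lift (hdiv s.fst s.snd).exists.choose s.snd)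
      (fun s => (hdiv s.fst s.snd).exists.choose_spec) (fun s => lift_snd _ _) fun s m hm1 hm2 => ?_⟩⟩
    apply CartesianMonoidalCategory.hom_ext
    · rw [lift_fst]
      refine (hdiv s.fst s.snd).unique ?_ (hdiv s.fst s.snd).exists.choose_spec
      rw [← hm1]
      change lift (m ≫ fst G Y) s.snd ≫ act = m ≫ act
      congr 1
      apply CartesianMonoidalCategory.hom_ext
      · rw [lift_fst]
      · rw [lift_snd]; exact hm2.symm
    · rw [lift_snd]; exact hm2
  · have hsurj : Surjective (SGA7.pt (K := k) E).hom :=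
      ⟨fun y => ⟨IsLocalRing.closedPoint E, Subsingleton.elim (α := Spec (CommRingCat.of k)) _ _⟩⟩
    have het : Etale (SGA7.pt (K := k) E).hom := by
      change Etale (Spec.map (CommRingCat.ofHom (algebraMap k E)))
      rw [HasRingHomProperty.Spec_iff (P := @Etale), CommRingCat.hom_ofHom, RingHom.etale_algebraMap]
      haveI : Algebra.FormallyEtale k E := Algebra.FormallyEtale.of_isSeparable k E
      exact ⟨inferInstance, Algebra.FinitePresentation.of_finiteType.1 inferInstance⟩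
    refine ⟨Presieve.ofArrows (fun _ : PUnit.{1} => Spec (CommRingCat.of E)) fun _ => (SGA7.pt (K := k) E).hom,
      (Scheme.ofArrows_mem_precoverage_iff _).2 ⟨fun z => ⟨⟨⟩, hsurj.surj z⟩, fun _ => het⟩, ?_⟩
    rintro S' f ⟨-⟩
    exact ⟨p.left, Over.w p⟩
  · refine fst_cancel E ?_
    rw [← Category.assoc, hφu (fst (G ⊗ Y) (SGA7.pt (K := k) E) ≫ act) (snd _ _),
      show fst (G ⊗ Y) (SGA7.pt (K := k) E) ≫ act = lift (fst _ _ ≫ fst G Y) (fst _ _ ≫ snd G Y) ≫ act from by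
        rw [← comp_lift, lift_fst_snd, Category.comp_id],
      hua, QuotSt.Act.mul_smul, ← hφu, ← Category.assoc (fst (G ⊗ Y) (SGA7.pt (K := k) E))]
    congr 1
    apply CartesianMonoidalCategory.hom_ext <;> simp
  · intro σ
    refine (hdiv p (SGA7.specAut σ ≫ p)).exists.elim fun g hg => ?_
    suffices g = c σ by rw [← this]; exact hg
    have h1 : lift (SGA7.specAut σ ≫ p) (SGA7.specAut σ) ≫ u = 1 := by
      have h := congrArg (SGA7.specAut σ ≫ ·) hp
      simp only [comp_lift_assoc, MonObj.comp_one, Category.comp_id] at h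
      exact h
    have h2 : lift p (SGA7.specAut σ) ≫ u = c σ := by
      have h := congrArg (lift p (𝟙 _) ≫ ·) (hu σ)
      simp only [MonObj.comp_mul, lift_snd_assoc, Category.id_comp, hp, _root_.one_mul] at h
      rw [← Category.assoc, lift_whiskerLeft, Category.id_comp] at h
      exact h
    have h3 := hua g (SGA7.specAut σ ≫ p) (SGA7.specAut σ)
    rw [hg, h1, h2, _root_.mul_one] at h3
    exact h3.symm
  · change p ≫ φ = x
    rw [hφu p (𝟙 _), hp, Category.id_comp, QuotSt.Act.one_smul]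

end Groth.Agent.Lib.GalPts
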