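import Groth.Agent.Lib.GalPts.Count

/-!
# Rational points of twists
-/

set_option autoImplicit false
universe u

open CategoryTheory CategoryTheory.Limits MonoidalCategory CartesianMonoidalCategory MonObj AlgebraicGeometry

namespace Groth.Agent.Lib.GalPts

attribute [local instance] Functor.monObjObj Functor.grpObjObj

variable {k : Type u} [Field k] (kb : Type u) [Field kb] [Algebra k kb]

/-- The first projection of a morphism into a base change, over `k`. -/
noncomputable def pr {Z : Over (Spec (CommRingCat.of k))} {W : Over (Spec (CommRingCat.of kb))}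
    (f : W ⟶ GalTw.bcK kb Z) : (Over.map (SGA7.pt (K := k) kb).hom).obj W ⟶ Z :=
  Over.homMk (f.left ≫ pullback.fst Z.hom (SGA7.pt (K := k) kb).hom) (by
    have h : f.left ≫ pullback.snd Z.hom (SGA7.pt (K := k) kb).hom = W.hom := Over.w f
    change (f.left ≫ _) ≫ Z.hom = W.hom ≫ (SGA7.pt (K := k) kb).hom
    rw [Category.assoc, pullback.condition, reassoc_of% h])

theorem pr_comp_map {Z Z' : Over (Spec (CommRingCat.of k))} {W : Over (Spec (CommRingCat.of kb))}
    (f : W ⟶ GalTw.bcK kb Z) (m : Z ⟶ Z') :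
    pr kb (f ≫ (Over.pullback (SGA7.pt (K := k) kb).hom).map m) = pr kb f ≫ m := by
  apply Over.OverMorphism.ext
  change (f.left ≫ _) ≫ pullback.fst _ _ = (f.left ≫ pullback.fst _ _) ≫ m.left
  rw [Category.assoc, Category.assoc]
  exact congrArg (f.left ≫ ·) (pullback.lift_fst _ _ _)

theorem pr_mul {G : Over (Spec (CommRingCat.of k))} [GrpObj G] {W : Over (Spec (CommRingCat.of kb))}
    (f g : W ⟶ GalTw.bcK kb G) : pr kb (f * g) = pr kb f * pr kb g := by
  let F := Over.pullback (SGA7.pt (K := k) kb).hom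
  let P := lift f g ≫ Functor.LaxMonoidal.μ F G G
  have h1 : P ≫ F.map (fst G G) = f := by
    simp only [P, Category.assoc, Functor.Monoidal.μ_fst]; exact lift_fst _ _
  have h2 : P ≫ F.map (snd G G) = g := by
    simp only [P, Category.assoc, Functor.Monoidal.μ_snd]; exact lift_snd _ _
  have hm : f * g = P ≫ F.map μ[G] := by rw [Hom.mul_def, Functor.obj.μ_def, Category.assoc]
  rw [hm, pr_comp_map, Hom.mul_def]
  congr 1
  apply CartesianMonoidalCategory.hom_ext
  · rw [lift_fst, ← pr_comp_map, h1]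
  · rw [lift_snd, ← pr_comp_map, h2]

theorem pr_inv {G : Over (Spec (CommRingCat.of k))} [GrpObj G] {W : Over (Spec (CommRingCat.of kb))}
    (f : W ⟶ GalTw.bcK kb G) : pr kb f⁻¹ = (pr kb f)⁻¹ :=
  map_inv (MonoidHom.mk' (fun f : W ⟶ GalTw.bcK kb G => pr kb f) (pr_mul kb)) f

theorem innK_eq {G : Over (Spec (CommRingCat.of k))} [GrpObj G] (g : SGA7.Pts kb G) :
    GalTw.innK kb g = GalTw.actK kb (conjAct (G := G)) g := by
  apply Over.OverMorphism.ext
  apply pullback.hom_ext
  · let e := SGA7.pt (K := k) kb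
    let j : G ⊗ e ⟶ (Over.map e.hom).obj (GalTw.bcK kb G) :=
      Over.homMk (𝟙 _) (by rw [← Over.w (snd G e)]; exact Category.id_comp _)
    have hu : j ≫ pr kb (toUnit (GalTw.bcK kb G) ≫ GalTw.secOfPt kb g) = snd G e ≫ g := by
      apply Over.OverMorphism.ext
      change 𝟙 _ ≫ ((toUnit (GalTw.bcK kb G)).left ≫ (GalTw.secOfPt kb g).left) ≫ pullback.fst G.hom e.hom =
        pullback.snd G.hom e.hom ≫ g.left
      rw [Category.id_comp, Category.assoc, GalTw.secOfPt_left, pullback.lift_fst]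
      rfl
    have hi : j ≫ pr kb (𝟙 (GalTw.bcK kb G)) = fst G e := by
      apply Over.OverMorphism.ext
      change 𝟙 _ ≫ 𝟙 _ ≫ pullback.fst G.hom e.hom = _
      rw [Category.id_comp, Category.id_comp]
      rfl
    have h : j ≫ pr kb (GalTw.innK kb g) = lift (snd G e ≫ g) (fst G e) ≫ (conjAct (G := G)).act := by
      change j ≫ pr kb ((toUnit _ ≫ GalTw.secOfPt kb g) * 𝟙 _ * (toUnit _ ≫ GalTw.secOfPt kb g)⁻¹) = _
      rw [pr_mul, pr_mul, pr_inv, MonObj.comp_mul, MonObj.comp_mul, GrpObj.comp_inv, hu, hi, lift_conjAct]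
    have h' := congrArg CommaMorphism.left h
    refine ((Category.id_comp _).symm.trans h').trans ?_
    exact (pullback.lift_fst _ _ _).symm
  · exact (Over.w (GalTw.innK kb g)).trans (pullback.lift_snd _ _ _).symm

/-- Inner twists are twists through conjugation. -/
theorem isActTwist_of_isInnTwist {G G' : Over (Spec (CommRingCat.of k))} [GrpObj G] [GrpObj G']
    {z : GpH1.OneCocycle (kb ≃ₐ[k] kb) (SGA7.Pts kb G)} (h : GalTw.IsInnTwist kb G z G') :
    GalTw.IsActTwist kb (conjAct (G := G)) z G' := by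
  obtain ⟨φ, -, hφ⟩ := h
  exact ⟨φ, fun σ => (hφ σ).trans (innK_eq kb _)⟩

variable [Finite k] [Algebra.IsAlgebraic k kb]

/-- The rational points of a twist. -/
theorem exists_twistEquiv {G X Y : Over (Spec (CommRingCat.of k))} [GrpObj G] (a : AlgGrp.Action G X)
    (z : GpH1.OneCocycle (kb ≃ₐ[k] kb) (SGA7.Pts kb G)) (hY : GalTw.IsActTwist kb a z Y) :
    Nonempty (SGA7.Pts k Y ≃ {x : SGA7.Pts kb X //
      SGA7.specAut (frob k kb) ≫ x = lift (z (frob k kb))⁻¹ x ≫ a.act}) := by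
  obtain ⟨φ, hφ⟩ := hY
  let e := SGA7.pt (K := k) kb
  let σ := frob k kb
  let c := z σ
  let Φ : Y ⊗ e ≅ X ⊗ e :=
    Over.isoMk ((Over.forget _).mapIso φ) (by
      change φ.hom.left ≫ (X ⊗ e).hom = _
      rw [← Over.w (snd Y e), ← Over.w (snd X e), ← Category.assoc]
      exact congrArg (· ≫ e.hom) (Over.w φ.hom))
  have hsnd : Φ.hom ≫ snd _ _ = snd _ _ := Over.OverMorphism.ext (Over.w φ.hom)
  have hsnd' : Φ.inv ≫ snd _ _ = snd _ _ := by rw [Iso.inv_comp_eq, hsnd]
  let actO : X ⊗ e ⟶ X ⊗ e := lift (lift (snd X e ≫ c) (fst X e) ≫ a.act) (snd X e)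
  have h3 : ((Y ◁ SGA7.specAut σ) ≫ Φ.hom ≫ (X ◁ SGA7.specAut σ⁻¹)) ≫ actO = Φ.hom := by
    have h1 : GalTw.twHom σ φ.hom ≫ GalTw.actK kb a c = φ.hom := by
      rw [← hφ σ, GalTw.cocycle_apply_hom]
      exact (GalTw.twIso σ φ).hom_inv_id_assoc φ.hom
    have h2 := congrArg CommaMorphism.left h1
    have hact : (GalTw.actK kb a c).left = actO.left := by
      apply pullback.hom_ext
      · refine (pullback.lift_fst _ _ _).trans ?_
        exact (congrArg CommaMorphism.left (lift_fst (lift (snd X e ≫ c) (fst X e) ≫ a.act) (snd X e))).symm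
      · refine (pullback.lift_snd _ _ _).trans ?_
        exact (congrArg CommaMorphism.left (lift_snd (lift (snd X e ≫ c) (fst X e) ≫ a.act) (snd X e))).symm
    change (GalTw.galMap kb σ Y ≫ φ.hom.left ≫ GalTw.galMap kb σ⁻¹ X) ≫ (GalTw.actK kb a c).left = φ.hom.left at h2
    rw [← whisker_specAut_left, ← whisker_specAut_left, hact] at h2
    exact Over.OverMorphism.ext h2
  have key : ∀ y : SGA7.Pts kb Y, lift y (𝟙 _) ≫ Φ.hom ≫ fst X e =
      lift c (lift y (SGA7.specAut σ) ≫ Φ.hom ≫ fst X e) ≫ a.act := fun y => by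
    have hw : ∀ q : SGA7.Pts kb Y, lift y (SGA7.specAut σ) ≫ Φ.hom ≫ (X ◁ SGA7.specAut σ⁻¹) =
        lift (lift y (SGA7.specAut σ) ≫ Φ.hom ≫ fst X e) (𝟙 _) := fun _ => by
      apply CartesianMonoidalCategory.hom_ext
      · rw [Category.assoc, Category.assoc, whiskerLeft_fst, lift_fst]
      · rw [Category.assoc, Category.assoc, whiskerLeft_snd, reassoc_of% hsnd, lift_snd_assoc, lift_snd,
          ← GalTw.specAut_mul, mul_inv_cancel, GalTw.specAut_one]
    conv_lhs => rw [← h3]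
    simp only [Category.assoc, lift_whiskerLeft_assoc, Category.id_comp, actO, lift_fst]
    rw [← Category.assoc Φ.hom, ← Category.assoc (lift y (SGA7.specAut σ)), hw y, comp_lift_assoc,
      lift_snd_assoc, lift_fst, Category.id_comp]
  let T : SGA7.Pts kb Y → SGA7.Pts kb X := fun y => lift y (𝟙 _) ≫ Φ.hom ≫ fst X e
  let T' : SGA7.Pts kb X → SGA7.Pts kb Y := fun x => lift x (𝟙 _) ≫ Φ.inv ≫ fst Y e
  have hTT' : ∀ y, T' (T y) = y := fun y => by
    have : lift (T y) (𝟙 _) = lift y (𝟙 _) ≫ Φ.hom := by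
      apply CartesianMonoidalCategory.hom_ext
      · rw [lift_fst, Category.assoc]
      · rw [lift_snd, Category.assoc, hsnd, lift_snd]
    change lift (T y) (𝟙 _) ≫ Φ.inv ≫ fst Y e = y
    rw [this, Category.assoc, Iso.hom_inv_id_assoc, lift_fst]
  have hT'T : ∀ x, T (T' x) = x := fun x => by
    have : lift (T' x) (𝟙 _) = lift x (𝟙 _) ≫ Φ.inv := by
      apply CartesianMonoidalCategory.hom_ext
      · rw [lift_fst, Category.assoc]
      · rw [lift_snd, Category.assoc, hsnd', lift_snd]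
    change lift (T' x) (𝟙 _) ≫ Φ.hom ≫ fst X e = x
    rw [this, Category.assoc, Iso.inv_hom_id_assoc, lift_fst]
  have hs : ∀ y, SGA7.specAut σ ≫ T y = lift (SGA7.specAut σ ≫ y) (SGA7.specAut σ) ≫ Φ.hom ≫ fst X e :=
    fun y => by rw [comp_lift_assoc, Category.comp_id]
  refine ⟨(fixedEquiv kb Y).trans
    { toFun := fun y => ⟨T y.1, ?_⟩
      invFun := fun x => ⟨T' x.1, ?_⟩
      left_inv := fun y => Subtype.ext (hTT' y.1)
      right_inv := fun x => Subtype.ext (hT'T x.1) }⟩
  · have h := key y.1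
    conv_lhs => rw [hs, y.2]
    conv_rhs => rw [show T y.1 = lift c (lift y.1 (SGA7.specAut σ) ≫ Φ.hom ≫ fst X e) ≫ a.act from h]
    rw [← QuotSt.Act.mul_smul, inv_mul_cancel, QuotSt.Act.one_smul]
  · have h := key (SGA7.specAut σ ≫ T' x.1)
    rw [← hs, hT'T, x.2, ← QuotSt.Act.mul_smul, mul_inv_cancel, QuotSt.Act.one_smul] at h
    exact (hTT' _).symm.trans (congrArg T' h)

end Groth.Agent.Lib.GalPts
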