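import Mathlib.RingTheory.Spectrum.Prime.Chevalley
import Mathlib.RingTheory.Spectrum.Prime.ConstructibleSet
import Mathlib.RingTheory.Ideal.MinimalPrime.Localization
import Mathlib.RingTheory.Polynomial.Basic
import Mathlib.RingTheory.Nullstellensatz
import Mathlib.FieldTheory.IsAlgClosed.Basic

/-!
# The values of a function on a closed set are finite or cofinite
-/

set_option autoImplicit false
universe u v

open Polynomial PrimeSpectrum

namespace Groth.Agent.Lib.GalPts.UnipChev

variable {K : Type u} [Field K] [IsAlgClosed K]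

theorem exists_point {C : Type v} [CommRing C] [Algebra K C] [Algebra.FiniteType K C] (P : Ideal C)
    (hP : P ≠ ⊤) : ∃ χ : C →ₐ[K] K, P ≤ RingHom.ker χ := by
  obtain ⟨m, hm, hle⟩ := P.exists_le_maximal hP
  letI := Ideal.Quotient.field m
  haveI : Module.Finite K (C ⧸ m) := finite_of_finite_type_of_isJacobsonRing K (C ⧸ m)
  haveI : Algebra.IsIntegral K (C ⧸ m) := Algebra.IsIntegral.of_finite K _
  let e := AlgEquiv.ofBijective (Algebra.ofId K (C ⧸ m))
    (IsAlgClosed.algebraMap_bijective_of_isIntegral (k := K) (K := C ⧸ m))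
  refine ⟨e.symm.toAlgHom.comp (Ideal.Quotient.mkₐ K m), fun x hx => ?_⟩
  change e.symm (Ideal.Quotient.mkₐ K m x) = 0
  rw [Ideal.Quotient.mkₐ_eq_mk, Ideal.Quotient.eq_zero_iff_mem.2 (hle hx), map_zero]

/-- On a closed set of points a function takes finitely many values or all but finitely many. -/
theorem finite_or_cofinite {B : Type v} [CommRing B] [Algebra K B] [Algebra.FiniteType K B] (I : Ideal B) (t : B) :
    {y : K | ∃ χ : B →ₐ[K] K, I ≤ RingHom.ker χ ∧ χ t = y}.Finite ∨
      {y : K | ¬ ∃ χ : B →ₐ[K] K, I ≤ RingHom.ker χ ∧ χ t = y}.Finite := by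
  classical
  let m : B →ₐ[K] B ⧸ I := Ideal.Quotient.mkₐ K I
  let g : K[X] →ₐ[K] B ⧸ I := Polynomial.aeval (m t)
  by_cases hg : Function.Injective g
  · right
    let _ := g.toRingHom.toAlgebra
    haveI : IsScalarTower K K[X] (B ⧸ I) := IsScalarTower.of_algebraMap_eq fun x => (g.commutes x).symm
    haveI : Algebra.FiniteType K (B ⧸ I) := Algebra.FiniteType.of_surjective m Ideal.Quotient.mk_surjective
    haveI : Algebra.FiniteType K[X] (B ⧸ I) := Algebra.FiniteType.of_restrictScalars_finiteType K K[X] (B ⧸ I)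
    haveI : Algebra.FinitePresentation K[X] (B ⧸ I) := Algebra.FinitePresentation.of_finiteType.1 inferInstance
    have hfp : g.toRingHom.FinitePresentation := (‹Algebra.FinitePresentation K[X] (B ⧸ I)›)
    obtain ⟨S, hS⟩ := exists_constructibleSetData_iff.2 (isConstructible_range_comap hfp)
    obtain ⟨q, hqp, hq⟩ := Ideal.exists_comap_eq_of_mem_minimalPrimes_of_injective (f := g.toRingHom) hg (⊥ : Ideal K[X])
      (by simp [IsDomain.minimalPrimes_eq_singleton_bot])
    have hgen : (⟨⊥, Ideal.isPrime_bot⟩ : PrimeSpectrum K[X]) ∈ S.toSet := by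
      rw [hS]
      exact ⟨⟨q, hqp⟩, PrimeSpectrum.ext hq⟩
    simp only [ConstructibleSetData.toSet, Set.mem_iUnion] at hgen
    obtain ⟨C, hC, hgC, hfC⟩ := hgen
    have hg0 : ∀ i, C.g i = 0 := fun i => by simpa using hgC ⟨i, rfl⟩
    have hf0 : C.f ≠ 0 := fun h => hfC (by
      rintro _ rfl
      simpa using h)
    refine (Polynomial.finite_setOfPred_isRoot hf0).subset fun y hy => ?_
    by_contra hroot
    apply hy
    let py : PrimeSpectrum K[X] := ⟨RingHom.ker (Polynomial.aeval y : K[X] →ₐ[K] K), RingHom.ker_isPrime _⟩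
    have hpy : py ∈ S.toSet := by
      simp only [ConstructibleSetData.toSet, Set.mem_iUnion]
      refine ⟨C, hC, ?_, fun h => hroot ?_⟩
      · rintro _ ⟨i, rfl⟩
        rw [SetLike.mem_coe, hg0 i]
        exact Ideal.zero_mem _
      · have h' : Polynomial.aeval y C.f = 0 := h (Set.mem_singleton _)
        simpa [Polynomial.IsRoot] using h'
    rw [hS] at hpy
    obtain ⟨P, hP⟩ := hpy
    obtain ⟨χ, hχ⟩ := exists_point (K := K) P.asIdeal P.2.ne_top
    refine ⟨χ.comp m, fun x hx => ?_, ?_⟩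
    · change χ (m x) = 0
      rw [Ideal.Quotient.mkₐ_eq_mk, Ideal.Quotient.eq_zero_iff_mem.2 hx, map_zero]
    · have h1 : (Polynomial.X - Polynomial.C y : K[X]) ∈ py.asIdeal := by
        change Polynomial.aeval y (Polynomial.X - Polynomial.C y : K[X]) = 0
        simp
      rw [← hP] at h1
      have h2 := hχ h1
      change χ (g (Polynomial.X - Polynomial.C y)) = 0 at h2
      rw [← Polynomial.aeval_algHom_apply] at h2
      simpa [sub_eq_zero] using h2
  · left
    obtain ⟨Q, hQ, hQ0⟩ : ∃ Q : K[X], g Q = 0 ∧ Q ≠ 0 := by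
      by_contra! h
      exact hg ((injective_iff_map_eq_zero g).2 h)
    refine (Polynomial.finite_setOfPred_isRoot hQ0).subset ?_
    rintro y ⟨χ, hI, rfl⟩
    obtain ⟨χ', hχ'⟩ : ∃ χ' : (B ⧸ I) →ₐ[K] K, χ'.comp m = χ :=
      ⟨Ideal.Quotient.liftₐ I χ fun x hx => hI hx, AlgHom.ext fun x => rfl⟩
    change Q.eval (χ t) = 0
    rw [← hχ', AlgHom.comp_apply, ← Polynomial.coe_aeval_eq_eval, Polynomial.aeval_algHom_apply]
    change χ' (g Q) = 0
    rw [hQ, map_zero]

end Groth.Agent.Lib.GalPts.UnipChev
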