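import Groth.Agent.Lib.GalPts.Mass
import Groth.Agent.Lib.GalPts.UnipChev
import Mathlib.FieldTheory.Finite.GaloisField
import Mathlib.FieldTheory.Separable
import Mathlib.Data.Matrix.Mul

/-!
# The mass of a closed group of unitriangular matrices under a twisted Frobenius is `q ^ (-r)`
-/

set_option autoImplicit false
universe u v

open Polynomial Matrix

namespace Groth.Agent.Lib.GalPts.UnipCore

open Mass

variable {R : Type v} [CommRing R] {N : ℕ}

/-- The order on the positions above the diagonal. -/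
def code (i j : Fin N) : ℕ := (j.1 - i.1) * N + i.1

/-- Upper unitriangular, with zero entries at the positions of code `< e`. -/
def Low (e : ℕ) (X : Matrix (Fin N) (Fin N) R) : Prop :=
  (∀ i j, j ≤ i → X i j = if i = j then 1 else 0) ∧ ∀ i j, i < j → code i j < e → X i j = 0

theorem Low.mono {e e' : ℕ} (h : e' ≤ e) {X : Matrix (Fin N) (Fin N) R} (hX : Low e X) : Low e' X :=
  ⟨hX.1, fun i j hij hc => hX.2 i j hij (lt_of_lt_of_le hc h)⟩

theorem code_lt_left {i l j : Fin N} (h₁ : i < l) (h₂ : l < j) : code l j < code i j := by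
  simp only [code, Fin.lt_def] at *
  have hl := l.isLt
  have : (j.1 - l.1 + 1) * N ≤ (j.1 - i.1) * N := Nat.mul_le_mul_right _ (by omega)
  rw [add_mul, one_mul] at this
  omega

theorem code_lt_right {i l j : Fin N} (h₁ : i < l) (h₂ : l < j) : code i l < code i j := by
  simp only [code, Fin.lt_def] at *
  have hi := i.isLt
  have : (l.1 - i.1 + 1) * N ≤ (j.1 - i.1) * N := Nat.mul_le_mul_right _ (by omega)
  rw [add_mul, one_mul] at this
  omega

theorem code_lt (i j : Fin N) (h : i < j) : code i j < N * N := by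
  simp only [code, Fin.lt_def] at *
  have hi := i.isLt
  have : (j.1 - i.1 + 1) * N ≤ N * N := Nat.mul_le_mul_right _ (by have := j.isLt; omega)
  rw [add_mul, one_mul] at this
  omega

theorem code_inj {i j i' j' : Fin N} (h : i < j) (h' : i' < j') (e : code i j = code i' j') : i = i' ∧ j = j' := by
  simp only [code, Fin.lt_def] at *
  have hN : 0 < N := by have := i.isLt; omega
  have h1 := congrArg (· % N) e
  have h2 := congrArg (· / N) e
  simp only [Nat.mul_add_mod_self_right, Nat.mod_eq_of_lt i.isLt, Nat.mod_eq_of_lt i'.isLt] at h1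
  rw [Nat.add_comm, Nat.add_mul_div_right _ _ hN, Nat.add_comm ((j'.1 - i'.1) * N), Nat.add_mul_div_right _ _ hN,
    Nat.div_eq_of_lt i.isLt, Nat.div_eq_of_lt i'.isLt] at h2
  exact ⟨Fin.ext h1, Fin.ext (by omega)⟩

theorem mul_apply_of_le {X Y : Matrix (Fin N) (Fin N) R} (hX : Low 0 X) (hY : Low 0 Y) (i j : Fin N) (h : j ≤ i) :
    (X * Y) i j = if i = j then 1 else 0 := by
  rw [Matrix.mul_apply, Finset.sum_eq_single i]
  · rw [hX.1 i i le_rfl, if_pos rfl, one_mul, hY.1 i j h]
  · intro l _ hl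
    rcases lt_or_gt_of_ne hl with hl' | hl'
    · rw [hX.1 i l hl'.le, if_neg hl.symm, zero_mul]
    · rw [hY.1 l j (h.trans hl'.le), if_neg (fun he : l = j => absurd (he.le.trans h) (not_le.2 hl')), mul_zero]
  · simp

theorem mul_apply_low {e : ℕ} {X Y : Matrix (Fin N) (Fin N) R} (hX : Low 0 X) (hY : Low 0 Y) (i j : Fin N) (h : i < j)
    (hc : code i j ≤ e) (hlow : Low e X ∨ Low e Y) : (X * Y) i j = X i j + Y i j := by
  rw [Matrix.mul_apply, ← Finset.sum_subset (Finset.subset_univ {i, j}), Finset.sum_pair h.ne]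
  · rw [hX.1 i i le_rfl, if_pos rfl, one_mul, hY.1 j j le_rfl, if_pos rfl, mul_one, add_comm]
  · intro l _ hl
    simp only [Finset.mem_insert, Finset.mem_singleton, not_or] at hl
    rcases lt_or_gt_of_ne hl.1 with h1 | h1
    · rw [hX.1 i l h1.le, if_neg (fun he => hl.1 he.symm), zero_mul]
    rcases lt_or_gt_of_ne hl.2 with h2 | h2
    · rcases hlow with hL | hL
      · rw [hL.2 i l h1 (lt_of_lt_of_le (code_lt_right h1 h2) hc), zero_mul]
      · rw [hL.2 l j h2 (lt_of_lt_of_le (code_lt_left h1 h2) hc), mul_zero]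
    · rw [hY.1 l j h2.le, if_neg hl.2, mul_zero]

theorem low_mul {X Y : Matrix (Fin N) (Fin N) R} (hX : Low 0 X) (hY : Low 0 Y) : Low 0 (X * Y) :=
  ⟨fun i j h => mul_apply_of_le hX hY i j h, fun _ _ _ h => absurd h (Nat.not_lt_zero _)⟩

/-- Conjugating by a unitriangular matrix does not change the first nonzero level. -/
theorem low_conj {e : ℕ} {u u' Z : Matrix (Fin N) (Fin N) R} (hu : Low 0 u) (hu' : Low 0 u') (h1 : u * u' = 1)
    (hZ : Low e Z) : Low e (u * Z * u') ∧ ∀ i j, i < j → code i j = e → (u * Z * u') i j = Z i j := by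
  set W := u * Z * u'
  have hW : Low 0 W := low_mul (low_mul hu (hZ.mono (Nat.zero_le e))) hu'
  have hWu : W * u = u * Z := by
    rw [Matrix.mul_assoc, _root_.mul_eq_one_comm.1 h1, Matrix.mul_one]
  have key : ∀ d, d ≤ e → (∀ i j, i < j → code i j < d → W i j = 0) →
      ∀ i j, i < j → code i j = d → W i j = Z i j := fun d hd ih i j hij hc => by
    have := congrFun (congrFun hWu i) j
    rw [mul_apply_low (e := d) hW hu i j hij hc.le (Or.inl ⟨hW.1, ih⟩),
      mul_apply_low (e := d) hu (hZ.mono (Nat.zero_le e)) i j hij hc.le (Or.inr (hZ.mono hd))] at this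
    rwa [add_comm, add_right_inj] at this
  have hlow : ∀ d, d ≤ e → ∀ i j, i < j → code i j < d → W i j = 0 := by
    intro d
    induction d with
    | zero => exact fun _ _ _ _ h => absurd h (Nat.not_lt_zero _)
    | succ d ih =>
      intro hd i j hij hc
      rcases Nat.lt_succ_iff_lt_or_eq.1 hc with h | h
      · exact ih (Nat.le_of_succ_le hd) i j hij h
      · rw [key d (Nat.le_of_succ_le hd) (ih (Nat.le_of_succ_le hd)) i j hij h]
        exact hZ.2 i j hij (by omega)
  exact ⟨⟨hW.1, hlow e le_rfl⟩, key e le_rfl (hlow e le_rfl)⟩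

variable {K : Type u} [Field K] [IsAlgClosed K] (p : ℕ) [Fact p.Prime] [CharP K p] (n : ℕ)

/-- The additive group of the field under the Frobenius. -/
noncomputable def frobM : Multiplicative K →* Multiplicative K :=
  AddMonoidHom.toMultiplicative (iterateFrobenius K p n).toAddMonoidHom

theorem toAdd_frobM (x : Multiplicative K) : (frobM p n x).toAdd = x.toAdd ^ p ^ n := rfl

theorem low_map {e : ℕ} {X : Matrix (Fin N) (Fin N) K} (hX : Low e X) : Low e (X.map (· ^ p ^ n)) := by
  have hq : p ^ n ≠ 0 := pow_ne_zero _ (Fact.out : p.Prime).ne_zero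
  refine ⟨fun i j h => ?_, fun i j h hc => ?_⟩
  · simp only [Matrix.map_apply, hX.1 i j h]
    split_ifs <;> simp [zero_pow hq]
  · rw [Matrix.map_apply, hX.2 i j h hc, zero_pow hq]

theorem mass_of_range {hn : 0 < n} (W : Subgroup (Multiplicative K)) (hW : W = ⊤) (ψ : W →* W)
    (hψ : ∀ w : W, (ψ w : Multiplicative K) = frobM p n w.1) : HasMass W (Tw ψ) (((p : ℚ) ^ n))⁻¹ := by
  have hq1 : 1 < p ^ n := Nat.one_lt_pow hn.ne' (Fact.out : p.Prime).one_lt
  have hev : ∀ (w : W), ψ w = w ↔ w.1.toAdd ^ p ^ n = w.1.toAdd := fun w => by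
    rw [Subtype.ext_iff, hψ, ← Multiplicative.toAdd.apply_eq_iff_eq, toAdd_frobM]
  let P : K[X] := X ^ p ^ n - X
  have hP0 : P ≠ 0 := FiniteField.X_pow_card_pow_sub_X_ne_zero K hn.ne' (Fact.out : p.Prime).one_lt
  let e : {w : W // ψ w = w} ≃ P.rootSet K :=
    { toFun := fun w => ⟨w.1.1.toAdd, by
        rw [Polynomial.mem_rootSet_of_ne hP0]
        simp [P, (hev w.1).1 w.2]⟩
      invFun := fun x => ⟨⟨Multiplicative.ofAdd x.1, hW ▸ Subgroup.mem_top _⟩, (hev _).2 (by
        have := (Polynomial.mem_rootSet_of_ne hP0).1 x.2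
        simpa [P, sub_eq_zero] using this)⟩
      left_inv := fun w => rfl
      right_inv := fun x => rfl }
  have hcard : Nat.card {w : W // ψ w = w} = p ^ n := by
    rw [Nat.card_congr e, Nat.card_eq_fintype_card, Polynomial.card_rootSet_eq_natDegree
      (galois_poly_separable p _ (dvd_pow_self p hn.ne')) (IsAlgClosed.splits _),
      FiniteField.X_pow_card_pow_sub_X_natDegree_eq K hn.ne' (Fact.out : p.Prime).one_lt]
  haveI : Finite {w : W // ψ w = w} := Finite.of_equiv _ e.symm
  have := hasMass_of_transitive ψ fun x => by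
    have hd : (P - C x.1.toAdd).degree ≠ 0 := by
      rw [Polynomial.degree_sub_C (by
          rw [← Polynomial.natDegree_pos_iff_degree_pos]
          change 0 < (X ^ p ^ n - X : K[X]).natDegree
          rw [FiniteField.X_pow_card_pow_sub_X_natDegree_eq K hn.ne' (Fact.out : p.Prime).one_lt]; omega),
        Polynomial.degree_eq_natDegree hP0,
        FiniteField.X_pow_card_pow_sub_X_natDegree_eq K hn.ne' (Fact.out : p.Prime).one_lt]
      exact_mod_cast (by omega : p ^ n ≠ 0)
    obtain ⟨y, hy⟩ := IsAlgClosed.exists_root _ hd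
    refine ⟨⟨Multiplicative.ofAdd y, hW ▸ Subgroup.mem_top _⟩, Subtype.ext ?_⟩
    rw [Subgroup.coe_mul, Subgroup.coe_inv, hψ]
    apply Multiplicative.toAdd.injective
    rw [toAdd_mul, toAdd_inv, toAdd_frobM, toAdd_ofAdd, ← sub_eq_add_neg]
    simpa [P, Polynomial.IsRoot, sub_eq_zero] using hy
  rwa [hcard, Nat.cast_pow] at this

/-- **The mass of a closed unitriangular group.** -/
theorem aux {hn : 0 < n} {B : Type u} [CommRing B] [Algebra K B] [Algebra.FiniteType K B]
    (M : Matrix (Fin N) (Fin N) B) :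
    ∀ (d e : ℕ), N * N ≤ e + d → ∀ (I : Ideal B) (H : Type u) [Group H] (ev : H → (B →ₐ[K] K)),
      (∀ χ, χ ∈ Set.range ev ↔ I ≤ RingHom.ker χ) → ∀ ρ : H →* Matrix (Fin N) (Fin N) K, Function.Injective ρ →
      (∀ x, ρ x = M.map (ev x)) → (∀ x, Low e (ρ x)) →
      ∃ r : ℕ, (∀ φ : H →* H, (∃ u u' : Matrix (Fin N) (Fin N) K, Low 0 u ∧ Low 0 u' ∧ u * u' = 1 ∧
          ∀ x, ρ (φ x) = u * (ρ x).map (· ^ p ^ n) * u') →
          HasMass H (Tw φ) ((((p : ℚ) ^ n) ^ r))⁻¹) ∧
        ∃ Z : Fin r → Fin N × Fin N, ∀ X : Matrix (Fin N) (Fin N) K, Low 0 X → ∀ v : Fin r → K,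
          {y : H | ∀ l, (X * ρ y) (Z l).1 (Z l).2 = v l}.Finite ∧
            {y : H | ∀ l, (X * ρ y) (Z l).1 (Z l).2 = v l}.Nonempty := by
  classical
  intro d
  induction d with
  | zero =>
    intro e he I H _ ev _ ρ hρ _ hlow
    haveI : Subsingleton H := ⟨fun x y => hρ (by
      ext i j
      by_cases hij : j ≤ i
      · rw [(hlow x).1 i j hij, (hlow y).1 i j hij]
      · have hc := code_lt i j (not_le.1 hij)
        rw [(hlow x).2 i j (not_le.1 hij) (by omega), (hlow y).2 i j (not_le.1 hij) (by omega)])⟩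
    haveI : Finite H := inferInstance
    refine ⟨0, fun φ _ => ?_, Fin.elim0, fun X _ v => ⟨Set.toFinite _, ⟨1, fun l => l.elim0⟩⟩⟩
    rw [pow_zero, inv_one]
    exact hasMass_of_finite_group φ
  | succ d ih =>
    intro e he I H _ ev hev ρ hρ hM hlow
    by_cases hpos : ∃ i j : Fin N, i < j ∧ code i j = e
    swap
    · exact ih (e + 1) (by omega) I H ev hev ρ hρ hM fun x => ⟨(hlow x).1, fun i j hij hc => by
        rcases Nat.lt_succ_iff_lt_or_eq.1 hc with h | h
        · exact (hlow x).2 i j hij h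
        · exact absurd ⟨i, j, hij, h⟩ hpos⟩
    obtain ⟨i, j, hij, hcode⟩ := hpos
    have h0 : ∀ x, Low 0 (ρ x) := fun x => (hlow x).mono (Nat.zero_le e)
    let h : H →* Multiplicative K := MonoidHom.mk' (fun x => Multiplicative.ofAdd (ρ x i j)) fun x y => by
      rw [map_mul, mul_apply_low (h0 x) (h0 y) i j hij hcode.le (Or.inl (hlow x)), ofAdd_add]
    let π := h.rangeRestrict
    have hπ : Function.Surjective π := h.rangeRestrict_surjective
    have hker : ∀ x : H, x ∈ π.ker ↔ ρ x i j = 0 := fun x => by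
      rw [MonoidHom.mem_ker, Subtype.ext_iff]
      exact Iff.rfl
    have hlow' : ∀ x : π.ker, Low (e + 1) (ρ x.1) := fun x => ⟨(hlow x.1).1, fun i' j' hij' hc => by
      rcases Nat.lt_succ_iff_lt_or_eq.1 hc with hc | hc
      · exact (hlow x.1).2 i' j' hij' hc
      · obtain ⟨rfl, rfl⟩ := code_inj hij' hij (hc.trans hcode.symm)
        exact (hker x.1).1 x.2⟩
    obtain ⟨r, hmass, Z, hZ⟩ := ih (e + 1) (by omega) (I ⊔ Ideal.span {M i j}) π.ker (fun x => ev x.1)
      (fun χ => by
        rw [sup_le_iff, Ideal.span_le, Set.singleton_subset_iff, ← hev, SetLike.mem_coe, RingHom.mem_ker]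
        constructor
        · rintro ⟨x, rfl⟩
          refine ⟨⟨x.1, rfl⟩, ?_⟩
          have := (hker x.1).1 x.2
          rwa [hM, Matrix.map_apply] at this
        · rintro ⟨⟨x, rfl⟩, hx⟩
          exact ⟨⟨x, (hker x).2 (by rw [hM, Matrix.map_apply]; exact hx)⟩, rfl⟩)
      (ρ.comp π.ker.subtype) (hρ.comp Subtype.val_injective) (fun x => hM x.1) hlow'
    have hWset : Set.range (fun x => ρ x i j) =
        {y : K | ∃ χ : B →ₐ[K] K, I ≤ RingHom.ker χ ∧ χ (M i j) = y} := by
      ext y
      constructor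
      · rintro ⟨x, rfl⟩
        exact ⟨ev x, (hev _).1 ⟨x, rfl⟩, (congrFun (congrFun (hM x) i) j).symm⟩
      · rintro ⟨χ, hI, rfl⟩
        obtain ⟨x, rfl⟩ := (hev χ).2 hI
        exact ⟨x, show ρ x i j = _ by rw [hM, Matrix.map_apply]⟩
    have hcases : (Set.range fun x => ρ x i j).Finite ∨ h.range = ⊤ := by
      rcases UnipChev.finite_or_cofinite (K := K) I (M i j) with hf | hf
      · exact Or.inl (hWset ▸ hf)
      · by_contra hne
        push Not at hne
        obtain ⟨y, hy⟩ : ∃ y : K, y ∉ Set.range fun x => ρ x i j := by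
          by_contra! hall
          exact hne.2 (eq_top_iff.2 fun w _ => (hall w.toAdd).elim fun x hx => ⟨x, by
            change Multiplicative.ofAdd (ρ x i j) = w
            rw [show ρ x i j = w.toAdd from hx, ofAdd_toAdd]⟩)
        apply hne.1
        refine ((hf.preimage (f := fun t => t + y) (add_left_injective y).injOn)).subset ?_
        rintro _ ⟨x, rfl⟩ hh
        obtain ⟨x', hx'⟩ : ρ x i j + y ∈ Set.range fun x => ρ x i j := hWset ▸ hh
        exact hy ⟨x⁻¹ * x', by
          have h1 := congrArg Multiplicative.toAdd (map_mul h x⁻¹ x')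
          rw [map_inv] at h1
          change ρ (x⁻¹ * x') i j = y
          exact h1.trans (show -ρ x i j + ρ x' i j = y by rw [show ρ x' i j = ρ x i j + y from hx']; ring)⟩
    have hext : ∀ φ : H →* H, (∃ u u' : Matrix (Fin N) (Fin N) K, Low 0 u ∧ Low 0 u' ∧ u * u' = 1 ∧
        ∀ x, ρ (φ x) = u * (ρ x).map (· ^ p ^ n) * u') →
        ∃ ψ : h.range →* h.range, (∀ x, π (φ x) = ψ (π x)) ∧ (∀ w : h.range, (ψ w : Multiplicative K) = frobM p n w.1) ∧
          ∀ b : H, ∀ φb : π.ker →* π.ker, (∀ a : π.ker, (φb a : H) = b⁻¹ * φ a * b) →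
            HasMass π.ker (Tw φb) ((((p : ℚ) ^ n) ^ r))⁻¹ := by
      rintro φ ⟨u, u', hu, hu', huu, hφ⟩
      have hent : ∀ x, h (φ x) = frobM p n (h x) := fun x => by
        apply Multiplicative.toAdd.injective
        change ρ (φ x) i j = (ρ x i j) ^ p ^ n
        rw [hφ, (low_conj hu hu' huu (low_map p n (hlow x))).2 i j hij hcode, Matrix.map_apply]
      refine ⟨((frobM p n).comp h.range.subtype).codRestrict h.range (by
          rintro ⟨_, x, rfl⟩
          exact ⟨φ x, hent x⟩), fun x => Subtype.ext (hent x), fun w => rfl, fun b φb hb => hmass φb ?_⟩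
      refine ⟨ρ b⁻¹ * u, u' * ρ b, low_mul (h0 _) hu, low_mul hu' (h0 _), ?_, fun a => ?_⟩
      · rw [Matrix.mul_assoc, ← Matrix.mul_assoc u, huu, Matrix.one_mul, ← map_mul, inv_mul_cancel, map_one]
      · change ρ (φb a).1 = _
        rw [hb, map_mul, map_mul, hφ]
        simp only [MonoidHom.comp_apply, Subgroup.subtype_apply, Matrix.mul_assoc]
    have hXy : ∀ (X : Matrix (Fin N) (Fin N) K), Low 0 X → ∀ y, (X * ρ y) i j = X i j + ρ y i j :=
      fun X hX y => mul_apply_low hX (h0 y) i j hij hcode.le (Or.inr (hlow y))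
    have hsub : ∀ (X : Matrix (Fin N) (Fin N) K) (y₀ : H) (z : π.ker), X * ρ (y₀ * z.1) = X * ρ y₀ * ρ z.1 :=
      fun X y₀ z => by rw [map_mul, Matrix.mul_assoc]
    rcases hcases with hfin | htop
    · refine ⟨r, fun φ hφ => ?_, Z, fun X hX v => ⟨?_, ?_⟩⟩
      · obtain ⟨ψ, hψ, -, hb⟩ := hext φ hφ
        haveI : Finite h.range := by
          have : (Set.range h).Finite := (hfin.image Multiplicative.ofAdd).subset (by
            rintro _ ⟨x, rfl⟩; exact ⟨_, ⟨x, rfl⟩, rfl⟩)
          exact this.to_subtype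
        simpa using hasMass_extension π hπ φ ψ hψ hb (hasMass_of_finite_group ψ)
      · have hc : ∀ w ∈ (Set.range fun x => ρ x i j), ∃ S : Set H, S.Finite ∧
            ∀ y, ρ y i j = w → (∀ l, (X * ρ y) (Z l).1 (Z l).2 = v l) → y ∈ S := by
          rintro _ ⟨y₀, rfl⟩
          refine ⟨_, ((hZ (X * ρ y₀) (low_mul hX (h0 y₀)) v).1).image (fun z : π.ker => y₀ * z.1), fun y hy hl => ?_⟩
          have hz : y₀⁻¹ * y ∈ π.ker := by
            rw [hker]
            have h1 := congrArg Multiplicative.toAdd (map_mul h y₀⁻¹ y)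
            rw [map_inv] at h1
            exact h1.trans (show -ρ y₀ i j + ρ y i j = 0 by rw [hy]; ring)
          refine ⟨⟨_, hz⟩, fun l => ?_, mul_inv_cancel_left y₀ y⟩
          have := hl l
          rwa [← mul_inv_cancel_left y₀ y, hsub X y₀ ⟨_, hz⟩] at this
        choose S hS hSm using hc
        exact (hfin.biUnion' hS).subset fun y hy => Set.mem_iUnion₂.2 ⟨_, ⟨y, rfl⟩, hSm _ ⟨y, rfl⟩ y rfl hy⟩
      · obtain ⟨z, hz⟩ := (hZ X hX v).2
        exact ⟨z.1, hz⟩
    · have hall : ∀ w : K, ∃ y, ρ y i j = w := fun w => by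
        obtain ⟨y, hy⟩ : Multiplicative.ofAdd w ∈ h.range := htop ▸ Subgroup.mem_top _
        exact ⟨y, Multiplicative.ofAdd.injective hy⟩
      refine ⟨r + 1, fun φ hφ => ?_, Fin.cons (i, j) Z, fun X hX v => ?_⟩
      · obtain ⟨ψ, hψ, hψf, hb⟩ := hext φ hφ
        rw [pow_succ, mul_inv]
        exact hasMass_extension π hπ φ ψ hψ hb (mass_of_range (hn := hn) p n h.range htop ψ hψf)
      · obtain ⟨y₀, hy₀⟩ := hall (v 0 - X i j)
        have hset : {y : H | ∀ l, (X * ρ y) (Fin.cons (α := fun _ => Fin N × Fin N) (i, j) Z l).1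
            (Fin.cons (α := fun _ => Fin N × Fin N) (i, j) Z l).2 = v l} =
            (fun z : π.ker => y₀ * z.1) '' {z | ∀ l, (X * ρ y₀ * (ρ.comp π.ker.subtype) z) (Z l).1 (Z l).2 = v l.succ} := by
          ext y
          simp only [Set.mem_setOf_eq, Fin.forall_fin_succ, Fin.cons_zero, Fin.cons_succ, Set.mem_image,
            MonoidHom.comp_apply, Subgroup.subtype_apply]
          constructor
          · rintro ⟨h1, h2⟩
            rw [hXy X hX] at h1
            have hz : y₀⁻¹ * y ∈ π.ker := by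
              rw [hker]
              have h3 := congrArg Multiplicative.toAdd (map_mul h y₀⁻¹ y)
              rw [map_inv] at h3
              exact h3.trans (show -ρ y₀ i j + ρ y i j = 0 by rw [hy₀, ← h1]; ring)
            refine ⟨⟨_, hz⟩, fun l => ?_, mul_inv_cancel_left y₀ y⟩
            rw [← hsub, mul_inv_cancel_left]
            exact h2 l
          · rintro ⟨z, hz, rfl⟩
            refine ⟨?_, fun l => by rw [hsub]; exact hz l⟩
            rw [hsub, mul_apply_low (low_mul hX (h0 y₀)) (h0 z.1) i j hij hcode.le (Or.inr (hlow z.1)),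
              hXy X hX, hy₀, (hker z.1).1 z.2]
            ring
        rw [hset]
        exact ⟨((hZ (X * ρ y₀) (low_mul hX (h0 y₀)) _).1).image _,
          ((hZ (X * ρ y₀) (low_mul hX (h0 y₀)) _).2).image _⟩

end Groth.Agent.Lib.GalPts.UnipCore
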