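import Groth.Agent.Lib.GalPts.UnipCore
import Groth.Agent.Lib.GalPts.Semilinear
import Groth.Agent.H66.Kolchin
import Groth.Agent.Lib.PolyFun45.Crit
import Groth.Agent.Lib.Dim.Basic
import Mathlib.LinearAlgebra.Matrix.NonsingularInverse
import Mathlib.FieldTheory.Perfect

/-!
# The mass of a closed unipotent group of matrices under a twisted Frobenius
-/

set_option autoImplicit false
universe u

open Matrix

namespace Groth.Agent.Lib.GalPts.UnipMass

open Mass UnipCore

variable {K : Type u} [Field K] [IsAlgClosed K] (p : ℕ) [Fact p.Prime] [CharP K p] (n : ℕ) {N : ℕ}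

theorem low_inv {R : Type u} [CommRing R] {u u' : Matrix (Fin N) (Fin N) R} (hu : Low 0 u) (h : u * u' = 1) :
    Low 0 u' := by
  have h' : u' * u = 1 := _root_.mul_eq_one_comm.1 h
  refine ⟨fun i j => ?_, fun _ _ _ hc => absurd hc (Nat.not_lt_zero _)⟩
  induction j using WellFoundedLT.induction with
  | _ j ih =>
    intro hji
    have := congrFun (congrFun h' i) j
    rw [Matrix.mul_apply, Finset.sum_eq_single j] at this
    · rwa [hu.1 j j le_rfl, if_pos rfl, mul_one, Matrix.one_apply] at this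
    · intro l _ hl
      rcases lt_or_gt_of_ne hl with hl' | hl'
      · rw [ih l hl' (hl'.le.trans hji), if_neg (fun e : i = l => absurd (hji.trans e.le) (not_le.2 hl')), zero_mul]
      · rw [hu.1 l j hl'.le, if_neg hl, mul_zero]
    · simp

/-- The entrywise Frobenius on vectors. -/
noncomputable def frobV : (Fin N → K) →+ (Fin N → K) :=
  Pi.addMonoidHom fun i => (iterateFrobenius K p n).toAddMonoidHom.comp (Pi.evalAddMonoidHom _ i)

theorem frobV_apply (v : Fin N → K) (i : Fin N) : frobV p n v i = v i ^ p ^ n := rfl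

theorem frobV_mulVec (A : Matrix (Fin N) (Fin N) K) (v : Fin N → K) :
    frobV p n (A *ᵥ v) = A.map (· ^ p ^ n) *ᵥ frobV p n v := by
  funext i
  simp only [frobV_apply, Matrix.mulVec, dotProduct, Matrix.map_apply]
  rw [sum_pow_char_pow]
  simp only [mul_pow]

theorem map_frob_mul (A B : Matrix (Fin N) (Fin N) K) :
    (A * B).map (· ^ p ^ n) = A.map (· ^ p ^ n) * B.map (· ^ p ^ n) :=
  Matrix.map_mul (f := iterateFrobenius K p n)

theorem map_frob_one : (1 : Matrix (Fin N) (Fin N) K).map (· ^ p ^ n) = 1 :=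
  Matrix.map_one (iterateFrobenius K p n) (map_zero _) (map_one _)

/-- A flag fixed by a unipotent group and by a compatible semilinear map. -/
theorem exists_flag (hn : 0 < n) {U : Type u} [Group U] (ρ : U →* Matrix (Fin N) (Fin N) K)
    (hunip : ∀ x, IsNilpotent (ρ x - 1)) (φ : U →* U) (hφ : Function.Surjective φ)
    (c c' : Matrix (Fin N) (Fin N) K) (hcc : c * c' = 1)
    (hρφ : ∀ x, ρ (φ x) = c * (ρ x).map (· ^ p ^ n) * c') :
    ∀ m ≤ N, ∃ v : Fin m → (Fin N → K), LinearIndependent K v ∧
      (∀ x i, ρ x *ᵥ v i - v i ∈ Submodule.span K (v '' Set.Iio i)) ∧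
      ∀ i, c *ᵥ frobV p n (v i) - v i ∈ Submodule.span K (v '' Set.Iio i) := by
  classical
  let σ : (Fin N → K) →+ (Fin N → K) := (Matrix.mulVecLin c).toAddMonoidHom.comp (frobV p n)
  have hσsmul : ∀ (a : K) v, σ (a • v) = a ^ p ^ n • σ v := fun a v => by
    change c *ᵥ frobV p n (a • v) = a ^ p ^ n • (c *ᵥ frobV p n v)
    rw [← Matrix.mulVec_smul]
    congr 1
    funext i
    simp only [frobV_apply, Pi.smul_apply, smul_eq_mul, mul_pow]
  have hσsurj : Function.Surjective σ := fun w => by
    choose t ht using fun i => IsAlgClosed.exists_pow_nat_eq ((c' *ᵥ w) i) (pow_pos (Fact.out : p.Prime).pos n)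
    refine ⟨t, ?_⟩
    change c *ᵥ frobV p n t = w
    rw [show frobV p n t = c' *ᵥ w from funext ht, Matrix.mulVec_mulVec, hcc, Matrix.one_mulVec]
  have hσρ : ∀ x w, ρ (φ x) *ᵥ σ w = σ (ρ x *ᵥ w) := fun x w => by
    change ρ (φ x) *ᵥ (c *ᵥ frobV p n w) = c *ᵥ frobV p n (ρ x *ᵥ w)
    rw [frobV_mulVec, hρφ, Matrix.mulVec_mulVec, Matrix.mulVec_mulVec, Matrix.mul_assoc,
      _root_.mul_eq_one_comm.1 hcc, Matrix.mul_one]
  intro m
  induction m with
  | zero => exact fun _ => ⟨Fin.elim0, linearIndependent_empty_type, fun _ i => i.elim0, fun i => i.elim0⟩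
  | succ m ih =>
    intro hm
    obtain ⟨v, hli, hρv, hσv⟩ := ih (Nat.le_of_succ_le hm)
    let S := Submodule.span K (Set.range v)
    have hle : ∀ i, Submodule.span K (v '' Set.Iio i) ≤ S := fun i => Submodule.span_mono (Set.image_subset_range _ _)
    have hρS : ∀ x, S ≤ S.comap (Matrix.mulVecLin (ρ x)) := fun x => Submodule.span_le.2 (by
      rintro _ ⟨i, rfl⟩
      have h := add_mem (hle i (hρv x i)) (Submodule.subset_span ⟨i, rfl⟩ : v i ∈ S)
      rw [sub_add_cancel] at h
      exact h)
    have hσS : ∀ w ∈ S, σ w ∈ S := fun w hw => by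
      induction hw using Submodule.span_induction with
      | mem w hw =>
        obtain ⟨i, rfl⟩ := hw
        have h := add_mem (hle i (hσv i)) (Submodule.subset_span ⟨i, rfl⟩ : v i ∈ S)
        rw [sub_add_cancel] at h
        exact h
      | zero => rw [map_zero]; exact zero_mem _
      | add a b _ _ ha hb => rw [map_add]; exact add_mem ha hb
      | smul a w _ hw => rw [hσsmul]; exact S.smul_mem _ hw
    let Q := (Fin N → K) ⧸ S
    have hQ : Nontrivial Q := Submodule.Quotient.nontrivial_iff.2 fun htop => by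
      have := finrank_span_eq_card hli
      rw [show Submodule.span K (Set.range v) = ⊤ from htop, finrank_top, Module.finrank_fin_fun,
        Fintype.card_fin] at this
      omega
    let ρQ : U →* Module.End K Q :=
      { toFun := fun x => S.mapQ S (Matrix.mulVecLin (ρ x)) (hρS x)
        map_one' := Submodule.linearMap_qext _ (LinearMap.ext fun w => by
          change Submodule.Quotient.mk (ρ 1 *ᵥ w) = Submodule.Quotient.mk w
          rw [map_one, Matrix.one_mulVec])
        map_mul' := fun x y => Submodule.linearMap_qext _ (LinearMap.ext fun w => by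
          change Submodule.Quotient.mk (ρ (x * y) *ᵥ w) = Submodule.Quotient.mk (ρ x *ᵥ (ρ y *ᵥ w))
          rw [map_mul, Matrix.mulVec_mulVec]) }
    have hρQ : ∀ g, IsNilpotent (ρQ g - 1) := fun g => by
      obtain ⟨j, hj⟩ := hunip g
      refine ⟨j, ?_⟩
      have key : ∀ l, ∀ w : Fin N → K, ((ρQ g - 1) ^ l) (Submodule.Quotient.mk w) =
          Submodule.Quotient.mk ((ρ g - 1) ^ l *ᵥ w) := by
        intro l
        induction l with
        | zero => intro w; simp
        | succ l ihl =>
          intro w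
          rw [pow_succ', pow_succ', Module.End.mul_apply, ihl, ← Matrix.mulVec_mulVec, Matrix.sub_mulVec,
            Matrix.one_mulVec]
          rfl
      refine Submodule.linearMap_qext _ (LinearMap.ext fun w => ?_)
      rw [LinearMap.comp_apply, Submodule.mkQ_apply, key j w, hj, Matrix.zero_mulVec]
      rfl
    obtain ⟨w₀, hw₀, hfix₀⟩ := H66.Kolchin.exists_fixed ρQ hρQ
    let F₀ : Submodule K Q := ⨅ g, LinearMap.ker (ρQ g - 1)
    have hF₀ : ∀ w, w ∈ F₀ ↔ ∀ g, ρQ g w = w := fun w => by
      simp [F₀, Submodule.mem_iInf, sub_eq_zero]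
    let σQ : Q →+ Q := QuotientAddGroup.map S.toAddSubgroup S.toAddSubgroup σ fun w hw => hσS w hw
    have hσQ : ∀ w, σQ (Submodule.Quotient.mk w) = Submodule.Quotient.mk (σ w) := fun w => rfl
    have hσQsmul : ∀ (a : K) (w : Q), σQ (a • w) = a ^ p ^ n • σQ w := fun a w => by
      induction w using Submodule.Quotient.induction_on with
      | _ w => rw [← Submodule.Quotient.mk_smul, hσQ, hσsmul, hσQ, Submodule.Quotient.mk_smul]
    have hσQinj : Function.Injective σQ := Semilinear.injective_of_surjective p n σQ hσQsmul fun w => by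
      induction w using Submodule.Quotient.induction_on with
      | _ w => obtain ⟨t, rfl⟩ := hσsurj w; exact ⟨_, hσQ t⟩
    have hσF : ∀ w ∈ F₀, σQ w ∈ F₀ := fun w hw => by
      rw [hF₀] at hw ⊢
      intro g
      obtain ⟨x, rfl⟩ := hφ g
      have hx := hw x
      induction w using Submodule.Quotient.induction_on with
      | _ w =>
        rw [hσQ]
        change Submodule.Quotient.mk (ρ (φ x) *ᵥ σ w) = _
        rw [hσρ, ← hσQ, show (Submodule.Quotient.mk (ρ x *ᵥ w) : Q) = Submodule.Quotient.mk w from hx]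
        exact hσQ w
    obtain ⟨⟨z, hzF⟩, hz0, hz⟩ := Semilinear.exists_fixed_ne_zero p (V := F₀) n hn
      ((σQ.comp F₀.subtype.toAddMonoidHom).codRestrict F₀.toAddSubmonoid fun w => hσF w.1 w.2)
      (fun a w => Subtype.ext (hσQsmul a w.1)) (fun a b hab => Subtype.ext (hσQinj (congrArg Subtype.val hab)))
      ⟨w₀, (hF₀ w₀).2 hfix₀⟩ (fun h => hw₀ (congrArg Subtype.val h))
    obtain ⟨z, rfl⟩ := Submodule.Quotient.mk_surjective S z
    have himg : ∀ i : Fin m, Fin.snoc (α := fun _ => Fin N → K) v z '' Set.Iio i.castSucc = v '' Set.Iio i := fun i => by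
      ext w
      constructor
      · rintro ⟨l, hl, rfl⟩
        induction l using Fin.lastCases with
        | last => exact absurd hl (not_lt.2 (Fin.castSucc_lt_last i).le)
        | cast l => exact ⟨l, Fin.castSucc_lt_castSucc_iff.1 hl, (Fin.snoc_castSucc (α := fun _ => Fin N → K) z v l).symm⟩
      · rintro ⟨l, hl, rfl⟩
        exact ⟨l.castSucc, Fin.castSucc_lt_castSucc_iff.2 hl, Fin.snoc_castSucc (α := fun _ => Fin N → K) z v l⟩
    have hlast : Fin.snoc (α := fun _ => Fin N → K) v z '' Set.Iio (Fin.last m) = Set.range v := by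
      ext w
      constructor
      · rintro ⟨l, hl, rfl⟩
        induction l using Fin.lastCases with
        | last => exact absurd hl (fun h => lt_irrefl (Fin.last m) h)
        | cast l => exact ⟨l, (Fin.snoc_castSucc (α := fun _ => Fin N → K) z v l).symm⟩
      · rintro ⟨l, rfl⟩
        exact ⟨l.castSucc, Fin.castSucc_lt_last l, Fin.snoc_castSucc (α := fun _ => Fin N → K) z v l⟩
    refine ⟨Fin.snoc v z, linearIndependent_finSnoc.2 ⟨hli, fun hzS => hz0 (Subtype.ext
      ((Submodule.Quotient.mk_eq_zero S).2 hzS))⟩, fun x i => ?_, fun i => ?_⟩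
    · induction i using Fin.lastCases with
      | last =>
        rw [Fin.snoc_last, hlast]
        exact (Submodule.Quotient.eq S).1 ((hF₀ _).1 hzF x)
      | cast i => rw [Fin.snoc_castSucc, himg]; exact hρv x i
    · induction i using Fin.lastCases with
      | last =>
        rw [Fin.snoc_last, hlast]
        exact (Submodule.Quotient.eq S).1 (congrArg Subtype.val hz)
      | cast i => rw [Fin.snoc_castSucc, himg]; exact hσv i

/-- **The mass of a closed unipotent group under a twisted Frobenius.** -/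
theorem hasMass_unipotent (hn : 0 < n) {B : Type u} [CommRing B] [IsDomain B] [Algebra K B] [Algebra.FiniteType K B]
    (M : Matrix (Fin N) (Fin N) B) {U : Type u} [Group U] (ev : U → (B →ₐ[K] K)) (hev : Function.Bijective ev)
    (ρ : U →* Matrix (Fin N) (Fin N) K) (hρ : Function.Injective ρ) (hM : ∀ x, ρ x = M.map (ev x))
    (hunip : ∀ x, IsNilpotent (ρ x - 1)) (φ : U →* U) (hφ : Function.Surjective φ)
    (c c' : Matrix (Fin N) (Fin N) K) (hcc : c * c' = 1)
    (hρφ : ∀ x, ρ (φ x) = c * (ρ x).map (· ^ p ^ n) * c') :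
    ∃ r : ℕ, HasMass U (Tw φ) ((((p : ℚ) ^ n) ^ r))⁻¹ ∧ ringKrullDim B = (r : WithBot ℕ∞) := by
  classical
  obtain ⟨v, hli, hρv, hσv⟩ := exists_flag p n hn ρ hunip φ hφ c c' hcc hρφ N le_rfl
  let g : Matrix (Fin N) (Fin N) K := Matrix.of fun a b => v b a
  have hg : IsUnit g := Matrix.linearIndependent_cols_iff_isUnit.1 (by exact hli)
  obtain ⟨g', hg1, hg2⟩ : ∃ g' : Matrix (Fin N) (Fin N) K, g * g' = 1 ∧ g' * g = 1 :=
    ⟨↑hg.unit⁻¹, hg.mul_val_inv, hg.val_inv_mul⟩
  have hcol : ∀ l, g' *ᵥ v l = fun a => if a = l then 1 else 0 := fun l => funext fun a => by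
    have := congrFun (congrFun hg2 a) l
    rw [Matrix.one_apply] at this
    exact this
  have htri : ∀ (A : Matrix (Fin N) (Fin N) K) (w : Fin N → (Fin N → K)),
      (∀ b, A *ᵥ w b - v b ∈ Submodule.span K (v '' Set.Iio b)) →
      Low 0 (g' * A * Matrix.of fun a b => w b a) := fun A w hA => by
    refine ⟨fun a b hba => ?_, fun _ _ _ hc => absurd hc (Nat.not_lt_zero _)⟩
    have hab : (g' * A * Matrix.of fun a b => w b a) a b = (g' *ᵥ (A *ᵥ w b)) a := by
      rw [Matrix.mul_assoc]; rfl
    have hker : ∀ s ∈ Submodule.span K (v '' Set.Iio b), (g' *ᵥ s) a = 0 := fun s hs => by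
      induction hs using Submodule.span_induction with
      | mem s hs =>
        obtain ⟨l, hl, rfl⟩ := hs
        rw [hcol]
        exact if_neg fun e => absurd (e ▸ hba) (not_le.2 hl)
      | zero => simp
      | add s t _ _ hs ht => rw [Matrix.mulVec_add, Pi.add_apply, hs, ht, add_zero]
      | smul r s _ hs => rw [Matrix.mulVec_smul, Pi.smul_apply, hs, smul_zero]
    have h2 := hker _ (hA b)
    rw [Matrix.mulVec_sub, Pi.sub_apply, sub_eq_zero, hcol] at h2
    rw [hab, h2]
  let ρ' : U →* Matrix (Fin N) (Fin N) K :=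
    { toFun := fun x => g' * ρ x * g
      map_one' := by rw [map_one, Matrix.mul_one, hg2]
      map_mul' := fun x y => by
        rw [map_mul, Matrix.mul_assoc (g' * ρ x) g, ← Matrix.mul_assoc g (g' * ρ y), ← Matrix.mul_assoc g g', hg1,
          Matrix.one_mul, ← Matrix.mul_assoc, ← Matrix.mul_assoc] }
  let M' : Matrix (Fin N) (Fin N) B := g'.map (algebraMap K B) * M * g.map (algebraMap K B)
  have hM' : ∀ x, ρ' x = M'.map (ev x) := fun x => by
    change g' * ρ x * g = _
    rw [hM, Matrix.map_mul, Matrix.map_mul, Matrix.map_map, Matrix.map_map]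
    congr 2 <;> ext a b <;> simp
  have hρ' : Function.Injective ρ' := fun x y h => hρ (by
    have h' : g * (g' * ρ x * g) * g' = g * (g' * ρ y * g) * g' := congrArg (fun A => g * A * g') h
    simpa only [← Matrix.mul_assoc, hg1, Matrix.one_mul, Matrix.mul_assoc _ g g', Matrix.mul_one] using h')
  have hlow : ∀ x, Low 0 (ρ' x) := fun x => htri (ρ x) v (hρv x)
  obtain ⟨r, hmass, Z, hZ⟩ := aux (hn := hn) p n M' (N * N) 0 (by omega) ⊥ U ev
    (fun χ => ⟨fun _ => bot_le, fun _ => hev.2 χ⟩) ρ' hρ' hM' hlow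
  let gq := g.map (· ^ p ^ n)
  let gq' := g'.map (· ^ p ^ n)
  have hgq : gq * gq' = 1 := by rw [← map_frob_mul, hg1, map_frob_one]
  have hu : Low 0 (g' * c * gq) := htri c (fun b => frobV p n (v b)) hσv
  have huu : g' * c * gq * (gq' * c' * g) = 1 := by
    rw [← Matrix.mul_assoc, ← Matrix.mul_assoc, Matrix.mul_assoc (g' * c) gq, hgq, Matrix.mul_one,
      Matrix.mul_assoc g' c, hcc, Matrix.mul_one, hg2]
  refine ⟨r, hmass φ ⟨g' * c * gq, gq' * c' * g, hu, low_inv hu huu, huu, fun x => ?_⟩, ?_⟩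
  · change g' * ρ (φ x) * g = g' * c * gq * (g' * ρ x * g).map (· ^ p ^ n) * (gq' * c' * g)
    rw [hρφ, map_frob_mul, map_frob_mul]
    simp only [← Matrix.mul_assoc]
    rw [Matrix.mul_assoc (g' * c) gq gq', hgq, Matrix.mul_one,
      Matrix.mul_assoc (g' * c * (ρ x).map (· ^ p ^ n)) gq gq', hgq, Matrix.mul_one]
  let t : Fin r → B := fun l => M' (Z l).1 (Z l).2
  have ht : ∀ x l, ((1 : Matrix (Fin N) (Fin N) K) * ρ' x) (Z l).1 (Z l).2 = ev x (t l) := fun x l => by
    rw [Matrix.one_mul, hM', Matrix.map_apply]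
  have h1 : Low 0 (1 : Matrix (Fin N) (Fin N) K) :=
    ⟨fun a b _ => Matrix.one_apply, fun _ _ _ hc => absurd hc (Nat.not_lt_zero _)⟩
  rw [Dim.Basic.ringKrullDim_eq_trdegNat K B]
  refine congrArg (fun m : ℕ => (m : WithBot ℕ∞)) (le_antisymm ?_ ?_)
  · obtain ⟨s, π, hπ⟩ := Algebra.FiniteType.iff_quotient_mvPolynomial''.1 (inferInstance : Algebra.FiniteType K B)
    haveI : (RingHom.ker π).IsPrime := RingHom.ker_isPrime _
    choose ψ hψ using fun l => hπ (t l)
    have hle := PolyFun45.Crit.dimQ_le_of_finite_fibre (RingHom.ker π) (Δ := 1)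
      (fun h => one_ne_zero ((map_one π).symm.trans h)) ψ fun w => by
        refine (((hZ 1 h1 (fun l => MvPolynomial.eval w (ψ l))).1).image
          (fun y a => ev y (π (MvPolynomial.X a)))).subset ?_
        rintro x ⟨hxQ, -, hxψ⟩
        obtain ⟨χ, hχ⟩ : ∃ χ : B →ₐ[K] K, χ.comp π = MvPolynomial.aeval x :=
          ⟨AlgHom.liftOfSurjective π hπ (MvPolynomial.aeval x) fun q hq => by
            change MvPolynomial.aeval x q = 0
            rw [MvPolynomial.aeval_eq_eval]; exact hxQ q hq, AlgHom.liftOfSurjective_comp _ _ _ _⟩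
        obtain ⟨y, rfl⟩ := hev.2 χ
        refine ⟨y, fun l => ?_, funext fun a => ?_⟩
        · rw [ht, ← hψ, ← hxψ l, ← AlgHom.comp_apply, hχ, MvPolynomial.aeval_eq_eval]
        · exact (AlgHom.congr_fun hχ (MvPolynomial.X a)).trans (MvPolynomial.aeval_X _ _)
    have e := (Ideal.quotientKerAlgEquivOfSurjective hπ).trdeg_eq
    simp only [Dim.Basic.dimQ, Dim.Basic.trdegNat] at hle ⊢
    rwa [← e]
  · have hind : AlgebraicIndependent K t := by
      rw [algebraicIndependent_iff]
      intro q hq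
      refine MvPolynomial.funext fun w => ?_
      obtain ⟨y, hy⟩ := (hZ 1 h1 w).2
      have h2 := congrArg (ev y) hq
      rw [← AlgHom.comp_apply, MvPolynomial.comp_aeval, map_zero,
        show (fun l => ev y (t l)) = w from funext fun l => (ht y l).symm.trans (hy l)] at h2
      rw [← MvPolynomial.aeval_eq_eval, h2, map_zero]
    have hle := hind.lift_cardinalMk_le_trdeg
    rw [Cardinal.mk_fin, Cardinal.lift_natCast, Dim.Basic.trdeg_eq_trdegNat K B, Cardinal.lift_natCast] at hle
    exact_mod_cast hle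

end Groth.Agent.Lib.GalPts.UnipMass
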